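import Mathlib
import Cfsg.Prelude.Def_OddOrderLocal

set_option autoImplicit false
open Cfsg
open scoped commutatorElement

/-! # Metacyclic `p`-groups for odd `p`: commutator calculus and class sizes -/

namespace Cfsg.Agent.Helper8.Meta

/-! ## Number theory -/

theorem geom_key (s j : ℕ) : s * (∑ i ∈ Finset.range j, (s + 1) ^ i) + 1 = (s + 1) ^ j := by
  induction j with
  | zero => simp
  | succ j ih =>
    rw [Finset.sum_range_succ, mul_add, pow_succ]
    calc s * ∑ i ∈ Finset.range j, (s + 1) ^ i + s * (s + 1) ^ j + 1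
        = (s * ∑ i ∈ Finset.range j, (s + 1) ^ i + 1) + s * (s + 1) ^ j := by ring
      _ = (s + 1) ^ j + s * (s + 1) ^ j := by rw [ih]
      _ = (s + 1) ^ j * (s + 1) := by ring

theorem geom_val {p : ℕ} [Fact p.Prime] (hp : p ≠ 2) {t : ℕ} (ht1 : 1 < t) (ht : p ∣ t - 1)
    {j : ℕ} (hj : j ≠ 0) :
    (∑ i ∈ Finset.range j, t ^ i) ≠ 0 ∧
      padicValNat p (∑ i ∈ Finset.range j, t ^ i) = padicValNat p j := by
  have hpp : p.Prime := Fact.out
  have hodd : Odd p := hpp.odd_of_ne_two hp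
  obtain ⟨s, rfl⟩ : ∃ s, t = s + 1 := ⟨t - 1, by omega⟩
  have hs : s ≠ 0 := by omega
  have hsd : p ∣ s := by simpa using ht
  have hnd : ¬ p ∣ s + 1 := by
    intro h
    have : p ∣ 1 := (Nat.dvd_add_right hsd).mp h
    exact hpp.one_lt.ne' (Nat.dvd_one.mp this)
  have key := geom_key s j
  have hS0 : (∑ i ∈ Finset.range j, (s + 1) ^ i) ≠ 0 := by
    intro h0
    rw [h0] at key
    have : 1 < (s + 1) ^ j := Nat.one_lt_pow hj (by omega)
    omega
  refine ⟨hS0, ?_⟩
  have h1 := padicValNat.pow_sub_pow (p := p) hodd (show 1 < s + 1 by omega)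
    (by simpa using hsd) hnd hj
  have h2 : (s + 1) ^ j - 1 ^ j = s * (∑ i ∈ Finset.range j, (s + 1) ^ i) := by
    rw [one_pow]; omega
  rw [h2, padicValNat.mul hs hS0] at h1
  have h3 : s + 1 - 1 = s := by omega
  rw [h3] at h1
  omega

theorem geom_dvd {p : ℕ} [Fact p.Prime] (hp : p ≠ 2) {t : ℕ} (ht1 : 1 < t) (ht : p ∣ t - 1)
    (w j M : ℕ) : p ^ w ∣ (∑ i ∈ Finset.range j, t ^ i) * M ↔ p ^ w ∣ j * M := by
  rcases Nat.eq_zero_or_pos j with rfl | hj
  · simp
  rcases Nat.eq_zero_or_pos M with rfl | hM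
  · simp
  obtain ⟨hS0, hSv⟩ := geom_val hp ht1 ht hj.ne'
  rw [padicValNat_dvd_iff, padicValNat_dvd_iff, padicValNat.mul hS0 hM.ne',
    padicValNat.mul hj.ne' hM.ne', hSv]
  simp [hS0, hj.ne', hM.ne']

theorem eq_pow_of_le_iff {p : ℕ} (hpp : p.Prime) {X K n : ℕ} (hX : X ∣ p ^ K)
    (h : ∀ N, X ≤ p ^ N ↔ n ≤ N) : X = p ^ n := by
  obtain ⟨e, -, rfl⟩ := (Nat.dvd_prime_pow hpp).mp hX
  have h1 : n ≤ e := (h e).mp le_rfl
  have h2 : e ≤ n := (Nat.pow_le_pow_iff_right hpp.one_lt).mp ((h n).mpr le_rfl)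
  rw [le_antisymm h2 h1]

/-! ## General group lemmas -/

variable {G : Type*} [Group G]

theorem conj_of_mem {a x : G} {t : ℕ} (h : x * a * x⁻¹ = a ^ t)
    {u : G} (hu : u ∈ Subgroup.zpowers a) : x * u * x⁻¹ = u ^ t := by
  obtain ⟨k, rfl⟩ := hu
  show x * a ^ k * x⁻¹ = (a ^ k) ^ t
  calc x * a ^ k * x⁻¹ = (x * a * x⁻¹) ^ k := (conj_zpow).symm
    _ = (a ^ t) ^ k := by rw [h]
    _ = (a ^ k) ^ t := by
      rw [← zpow_natCast a t, ← zpow_natCast (a ^ k) t, ← zpow_mul, ← zpow_mul, mul_comm]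

theorem comm_pow (x y : G) (t : ℕ) (h : x * ⁅x, y⁆ * x⁻¹ = ⁅x, y⁆ ^ t) (j : ℕ) :
    ⁅x ^ j, y⁆ = ⁅x, y⁆ ^ (∑ i ∈ Finset.range j, t ^ i) := by
  induction j with
  | zero => simp
  | succ j ih =>
    have h1 : ⁅x ^ (j + 1), y⁆ = x * ⁅x ^ j, y⁆ * x⁻¹ * ⁅x, y⁆ := by
      simp only [commutatorElement_def, pow_succ']
      group
    have h2 : (∑ i ∈ Finset.range (j + 1), t ^ i)
        = t * (∑ i ∈ Finset.range j, t ^ i) + 1 := by
      rw [Finset.sum_range_succ', Finset.mul_sum]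
      simp [pow_succ']
    rw [h1, ih, ← conj_pow, h, h2, pow_add, pow_one, ← pow_mul]

theorem comm_pow_eq_one {p : ℕ} [Fact p.Prime] (hp : p ≠ 2) (hG : IsPGroup p G)
    (x y : G) (t : ℕ) (ht1 : 1 < t) (ht : p ∣ t - 1)
    (h : x * ⁅x, y⁆ * x⁻¹ = ⁅x, y⁆ ^ t) (j M : ℕ) :
    ⁅x ^ j, y⁆ ^ M = 1 ↔ ⁅x, y⁆ ^ (j * M) = 1 := by
  have hpp : p.Prime := Fact.out
  obtain ⟨k, hk⟩ := hG ⁅x, y⁆
  obtain ⟨w, -, hw⟩ := (Nat.dvd_prime_pow hpp).mp (orderOf_dvd_of_pow_eq_one hk)
  rw [comm_pow x y t h j, ← pow_mul, ← orderOf_dvd_iff_pow_eq_one,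
    ← orderOf_dvd_iff_pow_eq_one, hw]
  exact geom_dvd hp ht1 ht w j M

theorem comm_mem_commutator (x y : G) : ⁅x, y⁆ ∈ commutator G := by
  rw [_root_.commutator_def]
  exact Subgroup.commutator_mem_commutator (Subgroup.mem_top x) (Subgroup.mem_top y)

theorem mem_cent_single (g x : G) :
    x ∈ Subgroup.centralizer ({g} : Set G) ↔ g * x = x * g := by
  rw [Subgroup.mem_centralizer_iff]; simp

theorem comm_mem_iff (T : Subgroup G) [T.Normal] (u g : G) :
    ⁅u, g⁆ ∈ T ↔ Commute (QuotientGroup.mk' T u) (QuotientGroup.mk' T g) := by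
  rw [← QuotientGroup.eq_one_iff, ← QuotientGroup.mk'_apply, map_commutatorElement,
    commutatorElement_eq_one_iff_commute]

theorem commute_pow_mul_iff {H : Type*} [Group H] (u z : H) (i : ℕ) :
    Commute u (u ^ i * z) ↔ Commute u z := by
  constructor
  · intro h
    have := ((Commute.refl u).pow_right i).inv_right.mul_right h
    simpa using this
  · intro h; exact ((Commute.refl u).pow_right i).mul_right h

theorem commute_mul_pow_iff {H : Type*} [Group H] (v z : H) (j : ℕ) :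
    Commute v (z * v ^ j) ↔ Commute v z := by
  constructor
  · intro h
    have := h.mul_right ((Commute.refl v).pow_right j).inv_right
    simpa using this
  · intro h; exact h.mul_right ((Commute.refl v).pow_right j)

theorem index_le_of_fiber' {K : Type*} [Group K] [Finite K] (H : Subgroup K) {T : Type*}
    [Finite T] (f : K → T) (hf : ∀ g h, f g = f h → g⁻¹ * h ∈ H) : H.index ≤ Nat.card T := by
  show Nat.card (K ⧸ H) ≤ Nat.card T
  apply Nat.card_le_card_of_injective (fun q : K ⧸ H => f (Quotient.out q))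
  intro q q' hqq
  have h1 := hf _ _ hqq
  have h2 : (QuotientGroup.mk (Quotient.out q) : K ⧸ H) = QuotientGroup.mk (Quotient.out q') :=
    QuotientGroup.eq.mpr h1
  rw [QuotientGroup.out_eq', QuotientGroup.out_eq'] at h2
  exact h2

/-- the elements of `⟨a⟩` killed by `M` -/
def tor (a : G) (M : ℕ) : Subgroup G where
  carrier := {u | u ∈ Subgroup.zpowers a ∧ u ^ M = 1}
  one_mem' := ⟨one_mem _, one_pow _⟩
  mul_mem' := by
    rintro u v ⟨hu, hu1⟩ ⟨hv, hv1⟩
    refine ⟨mul_mem hu hv, ?_⟩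
    have hc : Commute u v := by
      obtain ⟨k, rfl⟩ := hu; obtain ⟨l, rfl⟩ := hv
      exact (Commute.refl a).zpow_zpow k l
    rw [hc.mul_pow, hu1, hv1, one_mul]
  inv_mem' := by
    rintro u ⟨hu, hu1⟩
    exact ⟨inv_mem hu, by rw [inv_pow, hu1, inv_one]⟩

theorem mem_tor {a : G} {M : ℕ} {u : G} :
    u ∈ tor a M ↔ u ∈ Subgroup.zpowers a ∧ u ^ M = 1 := Iff.rfl

theorem tor_normal {a : G} (hn : (Subgroup.zpowers a).Normal) (M : ℕ) : (tor a M).Normal := by
  constructor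
  rintro u ⟨hu, hu1⟩ g
  exact ⟨hn.conj_mem u hu g, by rw [conj_pow, hu1, mul_one, mul_inv_cancel]⟩

instance tor_normal_inst (a : G) [hn : (Subgroup.zpowers a).Normal] (M : ℕ) :
    (tor a M).Normal := tor_normal hn M

theorem card_tor_le (a : G) {M : ℕ} (hM : 0 < M) : Nat.card (tor a M) ≤ M := by
  haveI : IsCyclic (tor a M) := Subgroup.isCyclic_of_le (H' := Subgroup.zpowers a) (fun u hu => hu.1)
  apply Nat.le_of_dvd hM
  rw [← IsCyclic.exponent_eq_card]
  apply Monoid.exponent_dvd_of_forall_pow_eq_one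
  rintro ⟨u, hu⟩
  apply Subtype.ext
  simpa using hu.2

/-! ## Finite `p`-groups with derived subgroup in a cyclic normal subgroup -/

section base
variable [Finite G] {p : ℕ} [Fact p.Prime]

theorem exists_t (hG : IsPGroup p G) {a : G} (hn : (Subgroup.zpowers a).Normal) (x : G) :
    ∃ t : ℕ, 1 < t ∧ p ∣ t - 1 ∧ x * a * x⁻¹ = a ^ t := by
  have hpp : p.Prime := Fact.out
  have hmem : x * a * x⁻¹ ∈ Subgroup.zpowers a := hn.conj_mem a (Subgroup.mem_zpowers a) x
  obtain ⟨t₀, ht₀⟩ : ∃ t₀ : ℕ, a ^ t₀ = x * a * x⁻¹ :=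
    (Submonoid.mem_powers_iff _ _).mp ((mem_powers_iff_mem_zpowers).mpr hmem)
  by_cases ha : a = 1
  · refine ⟨p + 1, by have := hpp.two_le; omega, by simp, ?_⟩
    subst ha; simp
  have hiter : ∀ k : ℕ, x ^ k * a * (x ^ k)⁻¹ = a ^ (t₀ ^ k) := by
    intro k
    induction k with
    | zero => simp
    | succ k ih =>
      have h1 : x ^ (k + 1) * a * (x ^ (k + 1))⁻¹ = x * (x ^ k * a * (x ^ k)⁻¹) * x⁻¹ := by
        rw [pow_succ']; group
      rw [h1, ih, ← conj_pow, ← ht₀, ← pow_mul, pow_succ']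
  obtain ⟨N, hN⟩ := hG x
  have h1 : a ^ (t₀ ^ (p ^ N)) = a ^ 1 := by
    have := hiter (p ^ N)
    rw [hN] at this
    simpa using this.symm
  have h2 : t₀ ^ (p ^ N) ≡ 1 [MOD orderOf a] := pow_eq_pow_iff_modEq.mp h1
  have hpo : p ∣ orderOf a := by
    obtain ⟨m, hm⟩ := hG a
    obtain ⟨m', -, hm'⟩ := (Nat.dvd_prime_pow hpp).mp (orderOf_dvd_of_pow_eq_one hm)
    rcases m' with _ | m'
    · exact absurd (orderOf_eq_one_iff.mp (by simpa using hm')) ha
    · rw [hm']; exact dvd_pow_self p (Nat.succ_ne_zero m')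
  have h3 : t₀ ^ (p ^ N) ≡ 1 [MOD p] := h2.of_dvd hpo
  have h4 : t₀ ≡ 1 [MOD p] := by
    have h5 : ((t₀ : ZMod p)) ^ (p ^ N) = 1 := by
      have := (ZMod.natCast_eq_natCast_iff _ _ _).mpr h3
      simpa using this
    rw [ZMod.pow_card_pow] at h5
    exact (ZMod.natCast_eq_natCast_iff _ _ _).mp (by simpa using h5)
  have hop : 0 < orderOf a := orderOf_pos a
  have hbig : 2 ≤ p * orderOf a := by
    have := hpp.two_le; nlinarith
  refine ⟨t₀ + p * orderOf a, by omega, ?_, ?_⟩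
  · have h5 : 1 ≡ t₀ + p * orderOf a [MOD p] := by
      have h6 : t₀ + p * orderOf a ≡ t₀ [MOD p] := by
        simp [Nat.ModEq]
      exact (h6.trans h4).symm
    exact (Nat.modEq_iff_dvd' (by omega)).mp h5
  · rw [pow_add, pow_mul', pow_orderOf_eq_one, one_pow, mul_one, ht₀]

theorem exists_conj (hG : IsPGroup p G) {a : G} (hn : (Subgroup.zpowers a).Normal)
    (hc : commutator G ≤ Subgroup.zpowers a) (x y : G) :
    ∃ t : ℕ, 1 < t ∧ p ∣ t - 1 ∧ x * ⁅x, y⁆ * x⁻¹ = ⁅x, y⁆ ^ t := by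
  obtain ⟨t, ht1, ht, hta⟩ := exists_t hG hn x
  exact ⟨t, ht1, ht, conj_of_mem hta (hc (comm_mem_commutator x y))⟩

theorem F2 (hp : p ≠ 2) (hG : IsPGroup p G) {a : G} (hn : (Subgroup.zpowers a).Normal)
    (hc : commutator G ≤ Subgroup.zpowers a) (x y : G) (j M : ℕ) :
    ⁅x ^ j, y⁆ ^ M = 1 ↔ ⁅x, y⁆ ^ (j * M) = 1 := by
  obtain ⟨t, ht1, ht, h⟩ := exists_conj hG hn hc x y
  exact comm_pow_eq_one hp hG x y t ht1 ht h j M

theorem F2' (hp : p ≠ 2) (hG : IsPGroup p G) {a : G} (hn : (Subgroup.zpowers a).Normal)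
    (hc : commutator G ≤ Subgroup.zpowers a) (x y : G) (j M : ℕ) :
    ⁅x, y ^ j⁆ ^ M = 1 ↔ ⁅x, y⁆ ^ (j * M) = 1 := by
  rw [← commutatorElement_inv (y ^ j) x, ← commutatorElement_inv y x, inv_pow, inv_pow,
    inv_eq_one, inv_eq_one]
  exact F2 hp hG hn hc y x j M

theorem relIndex_le_iff (hp : p ≠ 2) (hG : IsPGroup p G) {a : G}
    (hn : (Subgroup.zpowers a).Normal) (hc : commutator G ≤ Subgroup.zpowers a)
    (H : Subgroup G) (g : G) (N : ℕ) :
    (Subgroup.centralizer {g}).relIndex H ≤ p ^ N ↔ ∀ y ∈ H, ⁅y, g⁆ ^ (p ^ N) = 1 := by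
  have hpp : p.Prime := Fact.out
  constructor
  · intro hle y hy
    have hF2 := F2 hp hG hn hc y g
    obtain ⟨k, hk⟩ := hG ⁅y, g⁆
    obtain ⟨w, -, hw⟩ := (Nat.dvd_prime_pow hpp).mp (orderOf_dvd_of_pow_eq_one hk)
    have key : ∀ k l : ℕ, k ≤ l → l < p ^ w →
        (y ^ k)⁻¹ * y ^ l ∈ Subgroup.centralizer {g} → k = l := by
      intro k l hkl hl hmem
      have h1 : (y ^ k)⁻¹ * y ^ l = y ^ (l - k) := by
        rw [inv_mul_eq_iff_eq_mul, ← pow_add]; congr 1; omega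
      rw [h1, mem_cent_single] at hmem
      have h2 : ⁅y ^ (l - k), g⁆ = 1 := by
        rw [commutatorElement_eq_one_iff_commute]; exact hmem.symm
      have h3 : ⁅y, g⁆ ^ (l - k) = 1 := by
        have := (hF2 (l - k) 1).mp (by rw [pow_one]; exact h2)
        simpa using this
      have h4 : p ^ w ∣ l - k := by rw [← hw]; exact orderOf_dvd_of_pow_eq_one h3
      have h5 : l - k = 0 := Nat.eq_zero_of_dvd_of_lt h4 (by omega)
      omega
    have hinj : Function.Injective (fun k : Fin (p ^ w) =>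
        (QuotientGroup.mk (⟨y ^ (k : ℕ), pow_mem hy _⟩ : ↥H) :
          ↥H ⧸ (Subgroup.centralizer {g}).subgroupOf H)) := by
      intro k l hkl
      have h1 := QuotientGroup.eq.mp hkl
      rw [Subgroup.mem_subgroupOf] at h1
      have h1' : (y ^ (k : ℕ))⁻¹ * y ^ (l : ℕ) ∈ Subgroup.centralizer {g} := h1
      rcases le_total (k : ℕ) (l : ℕ) with hkl' | hkl'
      · exact Fin.ext (key _ _ hkl' l.2 h1')
      · have h2 : (y ^ (l : ℕ))⁻¹ * y ^ (k : ℕ) ∈ Subgroup.centralizer {g} := by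
          have := inv_mem h1'
          rwa [mul_inv_rev, inv_inv] at this
        exact Fin.ext (key _ _ hkl' k.2 h2).symm
    have h6 := Nat.card_le_card_of_injective _ hinj
    rw [Nat.card_fin] at h6
    have h7 : p ^ w ≤ p ^ N := le_trans h6 hle
    have hwN : w ≤ N := (Nat.pow_le_pow_iff_right hpp.one_lt).mp h7
    obtain ⟨d, rfl⟩ := Nat.exists_eq_add_of_le hwN
    rw [pow_add, pow_mul, ← hw, pow_orderOf_eq_one, one_pow]
  · intro hall
    have hf : ∀ u v : ↥H, ⁅(u : G), g⁆ = ⁅(v : G), g⁆ →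
        u⁻¹ * v ∈ (Subgroup.centralizer {g}).subgroupOf H := by
      intro u v huv
      rw [Subgroup.mem_subgroupOf, mem_cent_single]
      simp only [commutatorElement_def] at huv
      have h' : (u : G) * g * (u : G)⁻¹ = (v : G) * g * (v : G)⁻¹ := mul_right_cancel huv
      show g * ((u : G)⁻¹ * (v : G)) = (u : G)⁻¹ * (v : G) * g
      calc g * ((u : G)⁻¹ * (v : G)) = (u : G)⁻¹ * ((u : G) * g * (u : G)⁻¹) * (v : G) := by
            group
        _ = (u : G)⁻¹ * ((v : G) * g * (v : G)⁻¹) * (v : G) := by rw [h']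
        _ = (u : G)⁻¹ * (v : G) * g := by group
    have h1 := index_le_of_fiber' ((Subgroup.centralizer {g}).subgroupOf H)
      (fun u : ↥H => (⟨⁅(u : G), g⁆, ⟨hc (comm_mem_commutator _ _), hall u u.2⟩⟩ :
        ↥(tor a (p ^ N))))
      (fun u v huv => hf u v (congrArg Subtype.val huv))
    exact le_trans h1 (card_tor_le a (pow_pos hpp.pos N))

end base

/-! ## The metacyclic structure -/

/-- `⟨a⟩` is normal and `G = ⟨a⟩⟨b⟩`. -/
structure MC (a b : G) : Prop where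
  normal : (Subgroup.zpowers a).Normal
  gen : ∀ g : G, ∃ i j : ℕ, g = a ^ i * b ^ j

theorem all_comm_mem {a b : G} (h : MC a b) (T : Subgroup G) [T.Normal] (hab : ⁅a, b⁆ ∈ T)
    (x y : G) : ⁅x, y⁆ ∈ T := by
  rw [comm_mem_iff] at hab ⊢
  obtain ⟨i, j, rfl⟩ := h.gen x
  obtain ⟨i', j', rfl⟩ := h.gen y
  simp only [map_mul, map_pow]
  have hAA : Commute (QuotientGroup.mk' T a ^ i) (QuotientGroup.mk' T a ^ i') :=
    (Commute.refl _).pow_pow i i'
  have hAB : Commute (QuotientGroup.mk' T a ^ i) (QuotientGroup.mk' T b ^ j') :=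
    hab.pow_pow i j'
  have hBA : Commute (QuotientGroup.mk' T b ^ j) (QuotientGroup.mk' T a ^ i') :=
    hab.symm.pow_pow j i'
  have hBB : Commute (QuotientGroup.mk' T b ^ j) (QuotientGroup.mk' T b ^ j') :=
    (Commute.refl _).pow_pow j j'
  exact (hAA.mul_right hAB).mul_left (hBA.mul_right hBB)

theorem MC.comm_le {a b : G} (h : MC a b) : commutator G ≤ Subgroup.zpowers a := by
  haveI := h.normal
  rw [_root_.commutator_def, Subgroup.commutator_le]
  intro x _ y _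
  refine all_comm_mem h _ ?_ x y
  rw [comm_mem_iff]
  have ha : QuotientGroup.mk' (Subgroup.zpowers a) a = 1 := by
    rw [QuotientGroup.mk'_apply, QuotientGroup.eq_one_iff]; exact Subgroup.mem_zpowers a
  rw [ha]; exact Commute.one_left _

theorem MC.forall_comm_mem_iff {a b : G} (h : MC a b) (T : Subgroup G) [T.Normal] (i j : ℕ) :
    (∀ y : G, ⁅y, a ^ i * b ^ j⁆ ∈ T) ↔ ⁅a, b ^ j⁆ ∈ T ∧ ⁅b, a ^ i⁆ ∈ T := by
  simp only [comm_mem_iff, map_mul, map_pow]
  constructor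
  · intro hall
    exact ⟨(commute_pow_mul_iff _ _ i).mp (hall a), (commute_mul_pow_iff _ _ j).mp (hall b)⟩
  · rintro ⟨h1, h2⟩ y
    obtain ⟨i', j', rfl⟩ := h.gen y
    simp only [map_mul, map_pow]
    have hA := (commute_pow_mul_iff _ _ i).mpr h1
    have hB := (commute_mul_pow_iff _ _ j).mpr h2
    exact (hA.pow_left i').mul_left (hB.pow_left j')

theorem MC.quot {a b : G} (h : MC a b) (T : Subgroup G) [T.Normal] :
    MC (QuotientGroup.mk' T a) (QuotientGroup.mk' T b) := by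
  constructor
  · rw [← MonoidHom.map_zpowers]
    exact h.normal.map _ (QuotientGroup.mk'_surjective T)
  · intro q
    obtain ⟨g, rfl⟩ := QuotientGroup.mk'_surjective T q
    obtain ⟨i, j, rfl⟩ := h.gen g
    exact ⟨i, j, by simp⟩

theorem exists_MC [Finite G] (hmc : Cfsg.IsMetacyclic G) : ∃ a b : G, MC a b := by
  obtain ⟨N, hN, hNc, hQc⟩ := hmc
  obtain ⟨g, hg⟩ := hNc.exists_generator
  have hNa : N = Subgroup.zpowers (g : G) := by
    ext x
    constructor
    · intro hx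
      obtain ⟨k, hk⟩ := hg ⟨x, hx⟩
      exact ⟨k, by simpa using congrArg Subtype.val hk⟩
    · intro hx
      exact (Subgroup.zpowers_le.mpr g.2) hx
  obtain ⟨q, hq⟩ := hQc.exists_generator
  obtain ⟨b, rfl⟩ := QuotientGroup.mk_surjective q
  refine ⟨(g : G), b, ?_, ?_⟩
  · rw [← hNa]; exact hN
  · intro x
    obtain ⟨k, hk⟩ := hq (x : G ⧸ N)
    have h1 : x * (b ^ k)⁻¹ ∈ N := by
      have h2 : ((x * (b ^ k)⁻¹ : G) : G ⧸ N) = 1 := by
        rw [QuotientGroup.mk_mul, QuotientGroup.mk_inv, QuotientGroup.mk_zpow]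
        have hk' : (b : G ⧸ N) ^ k = (x : G ⧸ N) := hk
        rw [hk', mul_inv_cancel]
      exact (QuotientGroup.eq_one_iff _).mp h2
    rw [hNa] at h1
    obtain ⟨i, hi⟩ := (Submonoid.mem_powers_iff _ _).mp ((mem_powers_iff_mem_zpowers).mpr h1)
    have h4 : b ^ k ∈ Subgroup.zpowers b := ⟨k, rfl⟩
    obtain ⟨j, hj⟩ := (Submonoid.mem_powers_iff _ _).mp ((mem_powers_iff_mem_zpowers).mpr h4)
    refine ⟨i, j, ?_⟩
    rw [hi, hj]; group

section mc
variable [Finite G] {p : ℕ} [Fact p.Prime]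

theorem MC.commutator_eq (hG : IsPGroup p G) {a b : G} (h : MC a b) :
    commutator G = Subgroup.zpowers ⁅a, b⁆ := by
  have hc := h.comm_le
  have hcab : ⁅a, b⁆ ∈ Subgroup.zpowers a := hc (comm_mem_commutator a b)
  haveI : (Subgroup.zpowers ⁅a, b⁆).Normal := by
    constructor
    intro u hu x
    obtain ⟨t, -, -, hta⟩ := exists_t hG h.normal x
    have hua : u ∈ Subgroup.zpowers a := (Subgroup.zpowers_le.mpr hcab) hu
    rw [conj_of_mem hta hua]
    exact pow_mem hu t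
  apply le_antisymm
  · rw [_root_.commutator_def, Subgroup.commutator_le]
    intro x _ y _
    exact all_comm_mem h _ (Subgroup.mem_zpowers _) x y
  · rw [Subgroup.zpowers_le]; exact comm_mem_commutator a b

theorem MC.class_le_iff (hp : p ≠ 2) (hG : IsPGroup p G) {a b : G} (h : MC a b) (i j N : ℕ) :
    (Subgroup.centralizer {a ^ i * b ^ j}).index ≤ p ^ N ↔
      ⁅a, b⁆ ^ (i * p ^ N) = 1 ∧ ⁅a, b⁆ ^ (j * p ^ N) = 1 := by
  have hc := h.comm_le
  have hn := h.normal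
  haveI := tor_normal hn (p ^ N)
  rw [← Subgroup.relIndex_top_right, relIndex_le_iff hp hG hn hc]
  have h1 : (∀ y ∈ (⊤ : Subgroup G), ⁅y, a ^ i * b ^ j⁆ ^ p ^ N = 1) ↔
      ∀ y : G, ⁅y, a ^ i * b ^ j⁆ ∈ tor a (p ^ N) := by
    constructor
    · intro hh y; exact ⟨hc (comm_mem_commutator _ _), hh y (Subgroup.mem_top y)⟩
    · intro hh y _; exact (hh y).2
  rw [h1, h.forall_comm_mem_iff]
  have h2 : ⁅a, b ^ j⁆ ∈ tor a (p ^ N) ↔ ⁅a, b⁆ ^ (j * p ^ N) = 1 := by
    rw [← F2' hp hG hn hc a b j (p ^ N)]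
    exact ⟨fun hh => hh.2, fun hh => ⟨hc (comm_mem_commutator _ _), hh⟩⟩
  have h3 : ⁅b, a ^ i⁆ ∈ tor a (p ^ N) ↔ ⁅a, b⁆ ^ (i * p ^ N) = 1 := by
    rw [← commutatorElement_inv b a, inv_pow, inv_eq_one, ← F2' hp hG hn hc b a i (p ^ N)]
    exact ⟨fun hh => hh.2, fun hh => ⟨hc (comm_mem_commutator _ _), hh⟩⟩
  rw [h2, h3, and_comm]

theorem MC.class_le_iff' (hp : p ≠ 2) (hG : IsPGroup p G) {a b : G} (h : MC a b) {n : ℕ}
    (hn : orderOf ⁅a, b⁆ = p ^ n) (i j N : ℕ) :
    (Subgroup.centralizer {a ^ i * b ^ j}).index ≤ p ^ N ↔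
      p ^ n ∣ i * p ^ N ∧ p ^ n ∣ j * p ^ N := by
  rw [h.class_le_iff hp hG, ← hn, orderOf_dvd_iff_pow_eq_one, orderOf_dvd_iff_pow_eq_one]

theorem MC.index_center (hp : p ≠ 2) (hG : IsPGroup p G) {a b : G} (h : MC a b) {n : ℕ}
    (hn : orderOf ⁅a, b⁆ = p ^ n) : (Subgroup.center G).index = p ^ (2 * n) := by
  have hpp : p.Prime := Fact.out
  obtain ⟨K, hK⟩ := IsPGroup.iff_card.mp hG
  have hc := h.comm_le
  have hnorm := h.normal
  have hCa : (Subgroup.centralizer {a}).index = p ^ n := by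
    have hd : (Subgroup.centralizer {a}).index ∣ p ^ K := by
      rw [← hK]; exact Subgroup.index_dvd_card _
    apply eq_pow_of_le_iff hpp hd
    intro N
    have := h.class_le_iff' hp hG hn 1 0 N
    simp only [pow_one, pow_zero, mul_one, one_mul, zero_mul, dvd_zero, and_true] at this
    rw [this, Nat.pow_dvd_pow_iff_le_right hpp.one_lt]
  have hCb : (Subgroup.centralizer {b}).index = p ^ n := by
    have hd : (Subgroup.centralizer {b}).index ∣ p ^ K := by
      rw [← hK]; exact Subgroup.index_dvd_card _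
    apply eq_pow_of_le_iff hpp hd
    intro N
    have := h.class_le_iff' hp hG hn 0 1 N
    simp only [pow_one, pow_zero, one_mul, zero_mul, dvd_zero, true_and] at this
    rw [this, Nat.pow_dvd_pow_iff_le_right hpp.one_lt]
  have hZ : Subgroup.center G = Subgroup.centralizer {a} ⊓ Subgroup.centralizer {b} := by
    ext z
    rw [Subgroup.mem_inf, mem_cent_single, mem_cent_single, Subgroup.mem_center_iff]
    constructor
    · intro hz; exact ⟨hz a, hz b⟩
    · rintro ⟨ha, hb⟩ g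
      obtain ⟨i, j, rfl⟩ := h.gen g
      have ha' : Commute a z := ha
      have hb' : Commute b z := hb
      exact ((ha'.pow_left i).mul_left (hb'.pow_left j))
  have hup : (Subgroup.center G).index ≤ p ^ n * p ^ n := by
    rw [hZ]
    calc (Subgroup.centralizer {a} ⊓ Subgroup.centralizer {b}).index
        ≤ (Subgroup.centralizer {a}).index * (Subgroup.centralizer {b}).index :=
          Subgroup.index_inf_le
      _ = p ^ n * p ^ n := by rw [hCa, hCb]
  have hd2 : (Subgroup.centralizer {b}).relIndex (Subgroup.zpowers a) ∣ p ^ K := by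
    rw [← hK]
    exact (Subgroup.relIndex_dvd_card _ _).trans (Subgroup.card_subgroup_dvd_card _)
  obtain ⟨e, -, he⟩ := (Nat.dvd_prime_pow hpp).mp hd2
  have hne : n ≤ e := by
    have h1 := (relIndex_le_iff hp hG hnorm hc (Subgroup.zpowers a) b e).mp he.le a
      (Subgroup.mem_zpowers a)
    rw [← orderOf_dvd_iff_pow_eq_one, hn, Nat.pow_dvd_pow_iff_le_right hpp.one_lt] at h1
    exact h1
  have hlow : p ^ n * p ^ n ≤ (Subgroup.center G).index := by
    rw [hZ, ← Subgroup.relIndex_mul_index (inf_le_left :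
      Subgroup.centralizer {a} ⊓ Subgroup.centralizer {b} ≤ Subgroup.centralizer {a}),
      Subgroup.inf_relIndex_left, hCa]
    apply Nat.mul_le_mul_right
    have hle : Subgroup.zpowers a ≤ Subgroup.centralizer {a} := by
      rw [Subgroup.zpowers_le, mem_cent_single]
    calc p ^ n ≤ p ^ e := Nat.pow_le_pow_right hpp.pos hne
      _ = (Subgroup.centralizer {b}).relIndex (Subgroup.zpowers a) := he.symm
      _ ≤ _ := Subgroup.relIndex_le_of_le_right hle Subgroup.index_ne_zero_of_finite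
  rw [two_mul, pow_add]; exact le_antisymm hup hlow

/-- elements with class size at most `M` (when `M` is a power of `p`) -/
def cls (a : G) [(Subgroup.zpowers a).Normal] (M : ℕ) : Subgroup G :=
  (Subgroup.center (G ⧸ tor a M)).comap (QuotientGroup.mk' (tor a M))

theorem mem_cls {a : G} [(Subgroup.zpowers a).Normal] {M : ℕ} {g : G} :
    g ∈ cls a M ↔ ∀ y : G, ⁅y, g⁆ ∈ tor a M := by
  rw [cls, Subgroup.mem_comap, Subgroup.mem_center_iff]
  constructor
  · intro hh y; rw [comm_mem_iff]; exact hh _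
  · intro hh q
    obtain ⟨y, rfl⟩ := QuotientGroup.mk'_surjective (tor a M) q
    exact (comm_mem_iff _ _ _).mp (hh y)

theorem mem_cls_iff_index (hp : p ≠ 2) (hG : IsPGroup p G) {a : G}
    [hn : (Subgroup.zpowers a).Normal] (hc : commutator G ≤ Subgroup.zpowers a) (g : G)
    (N : ℕ) : g ∈ cls a (p ^ N) ↔ (Subgroup.centralizer {g}).index ≤ p ^ N := by
  rw [mem_cls, ← Subgroup.relIndex_top_right, relIndex_le_iff hp hG hn hc]
  constructor
  · intro hh y _; exact (hh y).2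
  · intro hh y; exact ⟨hc (comm_mem_commutator _ _), hh y (Subgroup.mem_top y)⟩

theorem MC.index_cls (hp : p ≠ 2) (hG : IsPGroup p G) {a b : G}
    [hnA : (Subgroup.zpowers a).Normal] (h : MC a b) {n : ℕ} (hn : orderOf ⁅a, b⁆ = p ^ n)
    (N : ℕ) (hN : N ≤ n) : (cls a (p ^ N)).index = p ^ (2 * (n - N)) := by
  have hpp : p.Prime := Fact.out
  rw [cls, Subgroup.index_comap_of_surjective _ (QuotientGroup.mk'_surjective _)]
  have hq := h.quot (tor a (p ^ N))
  apply hq.index_center hp (hG.to_quotient _)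
  rw [← map_commutatorElement]
  have hc := h.comm_le
  have h2 : p ^ n = p ^ (n - N) * p ^ N := by rw [← pow_add, Nat.sub_add_cancel hN]
  have hk : ∀ k : ℕ, (QuotientGroup.mk' (tor a (p ^ N)) ⁅a, b⁆) ^ k = 1 ↔ p ^ (n - N) ∣ k := by
    intro k
    rw [← map_pow, QuotientGroup.mk'_apply, QuotientGroup.eq_one_iff, mem_tor]
    constructor
    · rintro ⟨-, h1⟩
      rw [← pow_mul, ← orderOf_dvd_iff_pow_eq_one, hn, h2] at h1
      exact Nat.dvd_of_mul_dvd_mul_right (pow_pos hpp.pos N) h1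
    · intro h1
      refine ⟨pow_mem (hc (comm_mem_commutator a b)) k, ?_⟩
      rw [← pow_mul, ← orderOf_dvd_iff_pow_eq_one, hn, h2]
      exact Nat.mul_dvd_mul_right h1 _
  apply Nat.dvd_antisymm
  · exact orderOf_dvd_of_pow_eq_one ((hk _).mpr dvd_rfl)
  · exact (hk _).mp (pow_orderOf_eq_one _)

end mc

end Cfsg.Agent.Helper8.Meta
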