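import Mathlib
import Cfsg.Agent.Helper8.Metacyclic

set_option autoImplicit false
open Cfsg
open scoped commutatorElement

/-! # Metacyclic `p`-groups for odd `p`: power subgroups and class sizes -/

namespace Cfsg.Agent.Helper8.Meta

variable {G : Type*} [Group G] [Finite G] {p : ℕ} [Fact p.Prime]

theorem MC.order_comm (hG : IsPGroup p G) {a b : G} (h : MC a b) {n : ℕ}
    (hGn : Nat.card ↥(commutator G) = p ^ n) : orderOf ⁅a, b⁆ = p ^ n := by
  rw [← Nat.card_zpowers, ← h.commutator_eq hG, hGn]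

theorem MC.comm_pow_card (hG : IsPGroup p G) {a b : G} (h : MC a b) {n : ℕ}
    (hn : orderOf ⁅a, b⁆ = p ^ n) (x y : G) : ⁅x, y⁆ ^ (p ^ n) = 1 := by
  have h1 : ⁅x, y⁆ ∈ Subgroup.zpowers ⁅a, b⁆ := by
    rw [← h.commutator_eq hG]; exact comm_mem_commutator x y
  obtain ⟨k, hk⟩ := h1
  rw [← hk, ← zpow_natCast, ← zpow_mul, mul_comm, zpow_mul, zpow_natCast, ← hn,
    pow_orderOf_eq_one, one_zpow]

theorem MC.closure_eq_cls (hp : p ≠ 2) (hG : IsPGroup p G) {a b : G}
    [hnA : (Subgroup.zpowers a).Normal] (h : MC a b) {n : ℕ} (hn : orderOf ⁅a, b⁆ = p ^ n)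
    (s : ℕ) (hs : s ≤ n) :
    Subgroup.closure {x : G | ∃ y : G, y ^ p ^ s = x} = cls a (p ^ (n - s)) := by
  have hpp : p.Prime := Fact.out
  have hc := h.comm_le
  have h3 : p ^ n = p ^ s * p ^ (n - s) := by rw [← pow_add, Nat.add_sub_cancel' hs]
  apply le_antisymm
  · rw [Subgroup.closure_le]
    rintro x ⟨y, rfl⟩
    rw [SetLike.mem_coe, mem_cls]
    intro z
    refine ⟨hc (comm_mem_commutator _ _), ?_⟩
    rw [F2' hp hG hnA hc z y (p ^ s) (p ^ (n - s)), ← h3]
    exact h.comm_pow_card hG hn z y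
  · intro g hg
    rw [mem_cls_iff_index hp hG hc] at hg
    obtain ⟨i, j, rfl⟩ := h.gen g
    rw [h.class_le_iff' hp hG hn] at hg
    obtain ⟨h1, h2⟩ := hg
    have key : ∀ i : ℕ, p ^ n ∣ i * p ^ (n - s) → p ^ s ∣ i := by
      intro i hi
      rw [h3] at hi
      exact Nat.dvd_of_mul_dvd_mul_right (pow_pos hpp.pos _) hi
    obtain ⟨i', rfl⟩ := key i h1
    obtain ⟨j', rfl⟩ := key j h2
    apply mul_mem
    · apply Subgroup.subset_closure; exact ⟨a ^ i', by rw [← pow_mul, mul_comm]⟩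
    · apply Subgroup.subset_closure; exact ⟨b ^ j', by rw [← pow_mul, mul_comm]⟩

theorem MC.card_cls (hp : p ≠ 2) (hG : IsPGroup p G) {a b : G}
    [hnA : (Subgroup.zpowers a).Normal] (h : MC a b) {n : ℕ} (hn : orderOf ⁅a, b⁆ = p ^ n)
    (N : ℕ) (hN : N ≤ n) :
    Nat.card (cls a (p ^ N)) = Nat.card (Subgroup.center G) * p ^ (2 * N) := by
  have hpp : p.Prime := Fact.out
  have h1 := Subgroup.card_mul_index (cls a (p ^ N))
  rw [h.index_cls hp hG hn N hN] at h1
  have h2 := Subgroup.card_mul_index (Subgroup.center G)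
  rw [h.index_center hp hG hn] at h2
  have h3 : p ^ (2 * n) = p ^ (2 * N) * p ^ (2 * (n - N)) := by
    rw [← pow_add]; congr 1; omega
  rw [h3, ← mul_assoc] at h2
  exact Nat.eq_of_mul_eq_mul_right (pow_pos hpp.pos _) (h1.trans h2.symm)

theorem mem_center_iff_index (z : G) :
    z ∈ Subgroup.center G ↔ (Subgroup.centralizer ({z} : Set G)).index ≤ 1 := by
  rw [Subgroup.mem_center_iff]
  constructor
  · intro hz
    have h1 : Subgroup.centralizer {z} = ⊤ := by
      rw [eq_top_iff]; intro g _; rw [mem_cent_single]; exact (hz g).symm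
    rw [h1, Subgroup.index_top]
  · intro hz g
    have h1 : (Subgroup.centralizer {z}).index = 1 := by
      have := Subgroup.index_ne_zero_of_finite (H := Subgroup.centralizer {z}); omega
    rw [Subgroup.index_eq_one] at h1
    have h2 : g ∈ Subgroup.centralizer {z} := h1 ▸ Subgroup.mem_top g
    rw [mem_cent_single] at h2
    exact h2.symm

end Cfsg.Agent.Helper8.Meta
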