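import Mathlib
import Cfsg.Agent.Helper8.Metacyclic
import Cfsg.Agent.Helper8.Metacyclic2

set_option autoImplicit false
open Cfsg
open scoped commutatorElement

/-! # Metacyclic `p`-groups for odd `p`: subgroups -/

namespace Cfsg.Agent.Helper8.Meta

variable {G : Type*} [Group G]

theorem mem_of_map_eq_one (N : Subgroup G) [N.Normal] {x : G}
    (h : QuotientGroup.mk' N x = 1) : x ∈ N := (QuotientGroup.eq_one_iff x).mp h

theorem map_eq_one_of_mem (N : Subgroup G) [N.Normal] {x : G} (h : x ∈ N) :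
    QuotientGroup.mk' N x = 1 := (QuotientGroup.eq_one_iff x).mpr h

theorem quot_pow (N : Subgroup G) [N.Normal] {x : G} (hx : x ∈ N) (y : G) (m : ℕ) :
    (x * y) ^ m * (y ^ m)⁻¹ ∈ N := by
  apply mem_of_map_eq_one
  simp only [map_mul, map_pow, map_inv, map_eq_one_of_mem N hx, one_mul, mul_inv_cancel]

theorem quot_pow' (N : Subgroup G) [N.Normal] {x₁ x₂ : G} (hx₁ : x₁ ∈ N) (hx₂ : x₂ ∈ N)
    (y : G) (l : ℕ) : (x₁ * y ^ l) * ((x₂ * y) ^ l)⁻¹ ∈ N := by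
  apply mem_of_map_eq_one
  simp only [map_mul, map_pow, map_inv, map_eq_one_of_mem N hx₁, map_eq_one_of_mem N hx₂,
    one_mul, mul_inv_cancel]

theorem commute_mul_iff {H : Type*} [Group H] {x y : H} (hxy : Commute x y) (z : H) :
    Commute x (y * z) ↔ Commute x z := by
  constructor
  · intro h
    have := hxy.inv_right.mul_right h
    simpa using this
  · intro h; exact hxy.mul_right h

theorem mem_zpowers_coe {R : Subgroup G} (x y : ↥R) :
    x ∈ Subgroup.zpowers y ↔ (x : G) ∈ Subgroup.zpowers (y : G) := by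
  constructor
  · rintro ⟨z, rfl⟩; exact ⟨z, by simp⟩
  · rintro ⟨z, hz⟩; exact ⟨z, Subtype.ext (by simpa using hz)⟩

theorem exists_pow_of_mem_zpowers [Finite G] {a x : G} (hx : x ∈ Subgroup.zpowers a) :
    ∃ i : ℕ, a ^ i = x :=
  (Submonoid.mem_powers_iff _ _).mp ((mem_powers_iff_mem_zpowers).mpr hx)

theorem isMulComm_iff_card_comm (K : Type*) [Group K] [Finite K] :
    IsMulCommutative K ↔ Nat.card (commutator K) = 1 := by
  constructor
  · intro hK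
    rw [Subgroup.card_eq_one, _root_.commutator_def,
      Subgroup.commutator_eq_bot_iff_le_centralizer]
    intro x _
    rw [Subgroup.mem_centralizer_iff]
    intro y _
    exact hK.is_comm.comm y x
  · intro hK
    rw [Subgroup.card_eq_one] at hK
    refine ⟨⟨fun x y => ?_⟩⟩
    have h1 : ⁅x, y⁆ ∈ commutator K := comm_mem_commutator x y
    rw [hK, Subgroup.mem_bot, commutatorElement_eq_one_iff_commute] at h1
    exact h1

/-- normal form data for a subgroup `R` of a metacyclic group -/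
structure SubData (p : ℕ) (a b : G) (R : Subgroup G) (u v i₁ : ℕ) : Prop where
  ha : a ^ (p ^ u) ∈ R
  hc : a ^ i₁ * b ^ (p ^ v) ∈ R
  minu : ∀ w, a ^ (p ^ w) ∈ R → u ≤ w
  minv : ∀ w i, a ^ i * b ^ (p ^ w) ∈ R → v ≤ w
  inter : ∀ x ∈ R, x ∈ Subgroup.zpowers a → x ∈ Subgroup.zpowers (a ^ (p ^ u))
  gen : ∀ r ∈ R, ∃ k l : ℕ, r = (a ^ (p ^ u)) ^ k * (a ^ i₁ * b ^ (p ^ v)) ^ l

section sub
variable [Finite G] {p : ℕ} [Fact p.Prime]

theorem exists_subData (hG : IsPGroup p G) {a b : G} (h : MC a b) (R : Subgroup G) :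
    ∃ u v i₁ : ℕ, SubData p a b R u v i₁ := by
  classical
  have hpp : p.Prime := Fact.out
  haveI := h.normal
  have hex1 : ∃ u, a ^ (p ^ u) ∈ R := by
    obtain ⟨m, hm⟩ := hG a
    exact ⟨m, by rw [hm]; exact one_mem R⟩
  have hex2 : ∃ v, ∃ i : ℕ, a ^ i * b ^ (p ^ v) ∈ R := by
    obtain ⟨m, hm⟩ := hG b
    exact ⟨m, 0, by rw [hm]; simp⟩
  obtain ⟨u, hau, minu⟩ : ∃ u, a ^ (p ^ u) ∈ R ∧ ∀ w, a ^ (p ^ w) ∈ R → u ≤ w :=
    ⟨Nat.find hex1, Nat.find_spec hex1, fun w hw => Nat.find_min' hex1 hw⟩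
  obtain ⟨v, ⟨i₁, hi₁⟩, minv⟩ : ∃ v, (∃ i : ℕ, a ^ i * b ^ (p ^ v) ∈ R) ∧
      ∀ w i, a ^ i * b ^ (p ^ w) ∈ R → v ≤ w :=
    ⟨Nat.find hex2, Nat.find_spec hex2, fun w i hw => Nat.find_min' hex2 ⟨i, hw⟩⟩
  have hcop : ∀ (y : G) (j' : ℕ), ¬ p ∣ j' → Nat.Coprime j' (orderOf y) := by
    intro y j' hnd
    obtain ⟨m, hm⟩ := hG y
    have h1 : Nat.Coprime j' (p ^ m) :=
      Nat.Coprime.pow_right m ((Nat.Prime.coprime_iff_not_dvd hpp).mpr hnd).symm
    exact Nat.Coprime.coprime_dvd_right (orderOf_dvd_of_pow_eq_one hm) h1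
  have inter : ∀ x ∈ R, x ∈ Subgroup.zpowers a → x ∈ Subgroup.zpowers (a ^ (p ^ u)) := by
    intro x hxR hxa
    obtain ⟨i, rfl⟩ := exists_pow_of_mem_zpowers hxa
    rcases Nat.eq_zero_or_pos i with rfl | hi
    · simp
    obtain ⟨w, i', hnd, rfl⟩ := Nat.exists_eq_pow_mul_and_not_dvd hi.ne' p hpp.ne_one
    obtain ⟨m, hm⟩ := exists_pow_eq_self_of_coprime (hcop (a ^ (p ^ w)) i' hnd)
    have hw : a ^ (p ^ w) ∈ R := by
      rw [← hm, ← pow_mul a (p ^ w) i']; exact pow_mem hxR m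
    obtain ⟨d, rfl⟩ := Nat.exists_eq_add_of_le (minu w hw)
    rw [pow_add, mul_assoc, pow_mul]
    exact Subgroup.npow_mem_zpowers _ _
  refine ⟨u, v, i₁, hau, hi₁, minu, minv, inter, ?_⟩
  intro r hr
  obtain ⟨i, j, rfl⟩ := h.gen r
  have hvj : p ^ v ∣ j := by
    rcases Nat.eq_zero_or_pos j with rfl | hj
    · exact dvd_zero _
    obtain ⟨w, j', hnd, rfl⟩ := Nat.exists_eq_pow_mul_and_not_dvd hj.ne' p hpp.ne_one
    obtain ⟨m, hm⟩ := exists_pow_eq_self_of_coprime (hcop (b ^ (p ^ w)) j' hnd)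
    have hbm : (b ^ (p ^ w * j')) ^ m = b ^ (p ^ w) := by rw [pow_mul]; exact hm
    have h2 : (a ^ i * b ^ (p ^ w * j')) ^ m * (b ^ (p ^ w))⁻¹ ∈ Subgroup.zpowers a := by
      have := quot_pow (Subgroup.zpowers a) (pow_mem (Subgroup.mem_zpowers a) i)
        (b ^ (p ^ w * j')) m
      rwa [hbm] at this
    obtain ⟨i'', hi''⟩ := exists_pow_of_mem_zpowers h2
    have h3 : a ^ i'' * b ^ (p ^ w) ∈ R := by
      rw [hi'', inv_mul_cancel_right]; exact pow_mem hr m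
    exact Dvd.dvd.mul_right (pow_dvd_pow p (minv w i'' h3)) j'
  obtain ⟨l, rfl⟩ := hvj
  have h4 := quot_pow' (Subgroup.zpowers a) (pow_mem (Subgroup.mem_zpowers a) i)
    (pow_mem (Subgroup.mem_zpowers a) i₁) (b ^ (p ^ v)) l
  rw [← pow_mul] at h4
  have h5 : a ^ i * b ^ (p ^ v * l) * ((a ^ i₁ * b ^ (p ^ v)) ^ l)⁻¹ ∈ R :=
    mul_mem hr (inv_mem (pow_mem hi₁ l))
  obtain ⟨k, hk⟩ := exists_pow_of_mem_zpowers (inter _ h5 h4)
  refine ⟨k, l, ?_⟩
  rw [hk, inv_mul_cancel_right]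

theorem SubData.mc {a b : G} {R : Subgroup G} {u v i₁ : ℕ} (hG : IsPGroup p G) (h : MC a b)
    (d : SubData p a b R u v i₁) :
    MC (⟨a ^ (p ^ u), d.ha⟩ : ↥R) ⟨a ^ i₁ * b ^ (p ^ v), d.hc⟩ := by
  constructor
  · constructor
    rintro ⟨x, hx⟩ hxm ⟨g, hg⟩
    obtain ⟨t, -, -, hta⟩ := exists_t hG h.normal g
    have hxa : x ∈ Subgroup.zpowers a := by
      have h1 := (mem_zpowers_coe _ _).mp hxm
      exact (Subgroup.zpowers_le.mpr (pow_mem (Subgroup.mem_zpowers a) _)) h1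
    have h1 : g * x * g⁻¹ = x ^ t := conj_of_mem hta hxa
    have h2 : (⟨g, hg⟩ : ↥R) * ⟨x, hx⟩ * (⟨g, hg⟩ : ↥R)⁻¹ = (⟨x, hx⟩ : ↥R) ^ t :=
      Subtype.ext h1
    rw [h2]; exact pow_mem hxm t
  · rintro ⟨r, hr⟩
    obtain ⟨k, l, hkl⟩ := d.gen r hr
    exact ⟨k, l, Subtype.ext hkl⟩

theorem MC.card_eq {a b : G} (h : MC a b) [hn : (Subgroup.zpowers a).Normal] :
    Nat.card G = orderOf (QuotientGroup.mk' (Subgroup.zpowers a) b) * orderOf a := by
  rw [Subgroup.card_eq_card_quotient_mul_card_subgroup (Subgroup.zpowers a), Nat.card_zpowers]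
  congr 1
  symm
  apply orderOf_eq_card_of_forall_mem_zpowers
  intro q
  obtain ⟨g, rfl⟩ := QuotientGroup.mk'_surjective _ q
  obtain ⟨i, j, rfl⟩ := h.gen g
  refine ⟨j, ?_⟩
  show (QuotientGroup.mk' (Subgroup.zpowers a) b) ^ (j : ℤ) = _
  rw [zpow_natCast, map_mul, map_pow, map_pow,
    map_eq_one_of_mem _ (Subgroup.mem_zpowers a), one_pow, one_mul]

theorem SubData.index {a b : G} {R : Subgroup G} {u v i₁ : ℕ} (hG : IsPGroup p G)
    (h : MC a b) (d : SubData p a b R u v i₁) : R.index = p ^ (u + v) := by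
  have hpp : p.Prime := Fact.out
  haveI := h.normal
  obtain ⟨m, hm⟩ : ∃ m, orderOf a = p ^ m := by
    obtain ⟨k, hk⟩ := hG a
    obtain ⟨m, -, hm⟩ := (Nat.dvd_prime_pow hpp).mp (orderOf_dvd_of_pow_eq_one hk)
    exact ⟨m, hm⟩
  obtain ⟨k, hk⟩ : ∃ k, orderOf (QuotientGroup.mk' (Subgroup.zpowers a) b) = p ^ k := by
    obtain ⟨k, hk⟩ := hG b
    have : (QuotientGroup.mk' (Subgroup.zpowers a) b) ^ (p ^ k) = 1 := by
      rw [← map_pow, hk, map_one]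
    obtain ⟨m, -, hm⟩ := (Nat.dvd_prime_pow hpp).mp (orderOf_dvd_of_pow_eq_one this)
    exact ⟨m, hm⟩
  have hφa : QuotientGroup.mk' (Subgroup.zpowers a) a = 1 :=
    map_eq_one_of_mem _ (Subgroup.mem_zpowers a)
  have hum : u ≤ m := d.minu m (by rw [← hm, pow_orderOf_eq_one]; exact one_mem R)
  have hvk : v ≤ k := by
    have h1 : b ^ (p ^ k) ∈ Subgroup.zpowers a :=
      mem_of_map_eq_one _ (by rw [map_pow, ← hk, pow_orderOf_eq_one])
    obtain ⟨i, hi⟩ := exists_pow_of_mem_zpowers (inv_mem h1)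
    exact d.minv k i (by rw [hi, inv_mul_cancel]; exact one_mem R)
  have hG1 : Nat.card G = p ^ k * p ^ m := by rw [h.card_eq, hk, hm]
  have hR := d.mc hG h
  haveI := hR.normal
  have hR1 := hR.card_eq
  have ho1 : orderOf (⟨a ^ (p ^ u), d.ha⟩ : ↥R) = p ^ (m - u) := by
    rw [← Subgroup.orderOf_coe]
    show orderOf (a ^ (p ^ u)) = p ^ (m - u)
    rw [orderOf_pow' a (pow_pos hpp.pos u).ne', hm, Nat.gcd_eq_right (pow_dvd_pow p hum),
      Nat.pow_div hum hpp.pos]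
  have ho2 : orderOf (QuotientGroup.mk' (Subgroup.zpowers (⟨a ^ (p ^ u), d.ha⟩ : ↥R))
      ⟨a ^ i₁ * b ^ (p ^ v), d.hc⟩) = p ^ (k - v) := by
    have hl : ∀ l : ℕ, (QuotientGroup.mk' (Subgroup.zpowers (⟨a ^ (p ^ u), d.ha⟩ : ↥R))
        ⟨a ^ i₁ * b ^ (p ^ v), d.hc⟩) ^ l = 1 ↔ p ^ (k - v) ∣ l := by
      intro l
      have e1 : (QuotientGroup.mk' (Subgroup.zpowers (⟨a ^ (p ^ u), d.ha⟩ : ↥R))
          ⟨a ^ i₁ * b ^ (p ^ v), d.hc⟩) ^ l = 1 ↔
          (⟨a ^ i₁ * b ^ (p ^ v), d.hc⟩ : ↥R) ^ l ∈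
            Subgroup.zpowers (⟨a ^ (p ^ u), d.ha⟩ : ↥R) := by
        rw [← map_pow]; exact QuotientGroup.eq_one_iff _
      have e2 : (⟨a ^ i₁ * b ^ (p ^ v), d.hc⟩ : ↥R) ^ l ∈
            Subgroup.zpowers (⟨a ^ (p ^ u), d.ha⟩ : ↥R) ↔
          (a ^ i₁ * b ^ (p ^ v)) ^ l ∈ Subgroup.zpowers a := by
        rw [mem_zpowers_coe]
        constructor
        · intro hh
          exact (Subgroup.zpowers_le.mpr (pow_mem (Subgroup.mem_zpowers a) _)) hh
        · intro hh; exact d.inter _ (pow_mem d.hc l) hh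
      have e3 : (a ^ i₁ * b ^ (p ^ v)) ^ l ∈ Subgroup.zpowers a ↔
          (QuotientGroup.mk' (Subgroup.zpowers a) b) ^ (p ^ v * l) = 1 := by
        rw [← QuotientGroup.eq_one_iff]
        show QuotientGroup.mk' (Subgroup.zpowers a) ((a ^ i₁ * b ^ (p ^ v)) ^ l) = 1 ↔ _
        rw [map_pow, map_mul, map_pow, map_pow, hφa, one_pow, one_mul, ← pow_mul]
      have e4 : (QuotientGroup.mk' (Subgroup.zpowers a) b) ^ (p ^ v * l) = 1 ↔
          p ^ (k - v) ∣ l := by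
        rw [← orderOf_dvd_iff_pow_eq_one, hk]
        have : p ^ k = p ^ v * p ^ (k - v) := by rw [← pow_add, Nat.add_sub_cancel' hvk]
        rw [this]
        exact Nat.mul_dvd_mul_iff_left (pow_pos hpp.pos v)
      exact e1.trans (e2.trans (e3.trans e4))
    apply Nat.dvd_antisymm
    · exact orderOf_dvd_of_pow_eq_one ((hl _).mpr dvd_rfl)
    · exact (hl _).mp (pow_orderOf_eq_one _)
  have h3 := Subgroup.card_mul_index R
  rw [hR1, ho1, ho2, hG1] at h3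
  have h4 : p ^ k * p ^ m = p ^ (k - v) * p ^ (m - u) * p ^ (u + v) := by
    rw [← pow_add, ← pow_add, ← pow_add]; congr 1; omega
  rw [h4] at h3
  exact Nat.eq_of_mul_eq_mul_left (Nat.mul_pos (pow_pos hpp.pos _) (pow_pos hpp.pos _)) h3

theorem MC.comm_gen_pow (hp : p ≠ 2) (hG : IsPGroup p G) {a b : G} (h : MC a b)
    (u' i₁ v' M : ℕ) :
    ⁅a ^ u', a ^ i₁ * b ^ v'⁆ ^ M = 1 ↔ ⁅a, b⁆ ^ (v' * (u' * M)) = 1 := by
  have hc := h.comm_le
  have hn := h.normal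
  haveI := tor_normal hn M
  have e1 : ⁅a ^ u', a ^ i₁ * b ^ v'⁆ ^ M = 1 ↔ ⁅a ^ u', a ^ i₁ * b ^ v'⁆ ∈ tor a M :=
    ⟨fun hh => ⟨hc (comm_mem_commutator _ _), hh⟩, fun hh => hh.2⟩
  have e2 : ⁅a ^ u', a ^ i₁ * b ^ v'⁆ ∈ tor a M ↔ ⁅a ^ u', b ^ v'⁆ ∈ tor a M := by
    rw [comm_mem_iff, comm_mem_iff, map_mul]
    have hcomm : Commute (QuotientGroup.mk' (tor a M) (a ^ u'))
        (QuotientGroup.mk' (tor a M) (a ^ i₁)) := by
      rw [map_pow, map_pow]; exact (Commute.refl _).pow_pow _ _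
    exact commute_mul_iff hcomm _
  have e3 : ⁅a ^ u', b ^ v'⁆ ∈ tor a M ↔ ⁅a ^ u', b ^ v'⁆ ^ M = 1 :=
    ⟨fun hh => hh.2, fun hh => ⟨hc (comm_mem_commutator _ _), hh⟩⟩
  rw [e1, e2, e3, F2 hp hG hn hc a (b ^ v') u' M, F2' hp hG hn hc a b v' (u' * M)]

theorem MC.comm_pow_iff' {a b : G} {u v i₁ : ℕ} (hp : p ≠ 2)
    (hG : IsPGroup p G) (h : MC a b) {n : ℕ} (hn : orderOf ⁅a, b⁆ = p ^ n) (M : ℕ) :
    ⁅a ^ (p ^ u), a ^ i₁ * b ^ (p ^ v)⁆ ^ M = 1 ↔ p ^ n ∣ p ^ (u + v) * M := by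
  rw [h.comm_gen_pow hp hG, ← orderOf_dvd_iff_pow_eq_one, hn, ← mul_assoc, ← pow_add,
    add_comm v u]

theorem SubData.card_comm {a b : G} {R : Subgroup G} {u v i₁ : ℕ} (hp : p ≠ 2)
    (hG : IsPGroup p G) (h : MC a b) (d : SubData p a b R u v i₁) {n : ℕ}
    (hn : orderOf ⁅a, b⁆ = p ^ n) : Nat.card (commutator ↥R) = p ^ (n - (u + v)) := by
  have hpp : p.Prime := Fact.out
  have hR := d.mc hG h
  rw [hR.commutator_eq (hG.to_subgroup R), Nat.card_zpowers, ← Subgroup.orderOf_coe]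
  show orderOf ⁅a ^ (p ^ u), a ^ i₁ * b ^ (p ^ v)⁆ = _
  have hM : ∀ M : ℕ, ⁅a ^ (p ^ u), a ^ i₁ * b ^ (p ^ v)⁆ ^ M = 1 ↔ p ^ n ∣ p ^ (u + v) * M :=
    fun M => MC.comm_pow_iff' hp hG h hn M
  apply Nat.dvd_antisymm
  · apply orderOf_dvd_of_pow_eq_one
    rw [hM, ← pow_add]
    exact pow_dvd_pow p (by omega)
  · have h1 := (hM _).mp (pow_orderOf_eq_one _)
    rcases le_total n (u + v) with hle | hle
    · rw [Nat.sub_eq_zero_of_le hle, pow_zero]; exact one_dvd _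
    · have h2 : p ^ n = p ^ (u + v) * p ^ (n - (u + v)) := by
        rw [← pow_add, Nat.add_sub_cancel' hle]
      rw [h2] at h1
      exact (Nat.mul_dvd_mul_iff_left (pow_pos hpp.pos _)).mp h1

/-- **Lemma M**: index and derived subgroup of a subgroup of a metacyclic `p`-group. -/
theorem MC.lemmaM (hp : p ≠ 2) (hG : IsPGroup p G) {a b : G} (h : MC a b) {n : ℕ}
    (hn : orderOf ⁅a, b⁆ = p ^ n) (R : Subgroup G) :
    ∃ w : ℕ, R.index = p ^ w ∧ Nat.card (commutator ↥R) = p ^ (n - w) := by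
  obtain ⟨u, v, i₁, d⟩ := exists_subData hG h R
  exact ⟨u + v, d.index hG h, d.card_comm hp hG h hn⟩

/-- a subgroup is abelian iff its order is at most `|G : G'|` -/
theorem MC.comm_iff_card_le (hp : p ≠ 2) (hG : IsPGroup p G) {a b : G} (h : MC a b)
    (R : Subgroup G) : IsMulCommutative ↥R ↔ Nat.card ↥R ≤ (commutator G).index := by
  have hpp : p.Prime := Fact.out
  obtain ⟨n, hn⟩ : ∃ n, orderOf ⁅a, b⁆ = p ^ n := by
    obtain ⟨k, hk⟩ := hG ⁅a, b⁆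
    obtain ⟨m, -, hm⟩ := (Nat.dvd_prime_pow hpp).mp (orderOf_dvd_of_pow_eq_one hk)
    exact ⟨m, hm⟩
  obtain ⟨w, hw1, hw2⟩ := h.lemmaM hp hG hn R
  have hcard : Nat.card (commutator G) = p ^ n := by
    rw [h.commutator_eq hG, Nat.card_zpowers, hn]
  rw [isMulComm_iff_card_comm, hw2]
  have hA := Subgroup.card_mul_index R
  have hB := Subgroup.card_mul_index (commutator G)
  rw [hw1] at hA
  rw [hcard] at hB
  have hidx : 0 < (commutator G).index := Nat.pos_of_ne_zero Subgroup.index_ne_zero_of_finite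
  have hpw : 0 < p ^ w := pow_pos hpp.pos w
  constructor
  · intro h1
    have hnw : n ≤ w := by
      by_contra hlt
      have : 1 < p ^ (n - w) := Nat.one_lt_pow (by omega) hpp.one_lt
      omega
    have h2 : p ^ n ≤ p ^ w := Nat.pow_le_pow_right hpp.pos hnw
    by_contra hlt
    rw [not_le] at hlt
    have : p ^ n * (commutator G).index < Nat.card ↥R * p ^ w := by nlinarith
    omega
  · intro h1
    have hnw : n ≤ w := by
      by_contra hlt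
      rw [not_le] at hlt
      have h2 : p ^ w < p ^ n := Nat.pow_lt_pow_right hpp.one_lt hlt
      have : Nat.card ↥R * p ^ w < p ^ n * (commutator G).index := by nlinarith
      omega
    rw [Nat.sub_eq_zero_of_le hnw, pow_zero]

end sub

end Cfsg.Agent.Helper8.Meta
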