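import Mathlib
import Cfsg.Agent.Helper8.Metacyclic
import Cfsg.Agent.Helper8.Metacyclic2
import Cfsg.Agent.Helper8.Metacyclic3

set_option autoImplicit false
open Cfsg
open scoped commutatorElement

/-! # Metacyclic `p`-groups for odd `p`: centralizers of subgroups, Frattini subgroup -/

namespace Cfsg.Agent.Helper8.Meta

variable {G : Type*} [Group G] [Finite G] {p : ℕ} [Fact p.Prime]

instance cls_normal (a : G) [(Subgroup.zpowers a).Normal] (M : ℕ) : (cls a M).Normal := by
  unfold cls; infer_instance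

theorem pow_mem_frattini (hG : IsPGroup p G) (y : G) : y ^ p ∈ frattini G := by
  have hpp : p.Prime := Fact.out
  have hnil : Group.IsNilpotent G := hG.isNilpotent
  have hnorm : ∀ H : Subgroup G, IsCoatom H → H.Normal :=
    ((Group.isNilpotent_of_finite_tfae (G := G)).out 0 2).mp hnil
  simp only [frattini, Order.radical, Subgroup.mem_iInf]
  intro M hM
  haveI := hnorm M hM
  by_contra hy
  have hMK : M < (Subgroup.zpowers ((y : G ⧸ M) ^ p)).comap (QuotientGroup.mk' M) := by
    refine lt_of_le_of_ne ?_ ?_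
    · intro x hx
      rw [Subgroup.mem_comap, map_eq_one_of_mem M hx]
      exact one_mem _
    · intro heq
      apply hy
      rw [heq, Subgroup.mem_comap, map_pow]
      exact Subgroup.mem_zpowers _
  have htop := hM.2 _ hMK
  have hyK : y ∈ (Subgroup.zpowers ((y : G ⧸ M) ^ p)).comap (QuotientGroup.mk' M) := by
    rw [htop]; exact Subgroup.mem_top y
  rw [Subgroup.mem_comap] at hyK
  obtain ⟨z, hz⟩ := hyK
  have hz' : ((y : G ⧸ M)) ^ ((p : ℤ) * z - 1) = 1 := by
    have h1 : ((y : G ⧸ M) ^ p) ^ z = (y : G ⧸ M) := hz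
    rw [zpow_sub_one, zpow_mul, zpow_natCast, h1, mul_inv_cancel]
  have hdvd := (orderOf_dvd_iff_zpow_eq_one).mpr hz'
  obtain ⟨k, hk⟩ := (hG.to_quotient M) (y : G ⧸ M)
  obtain ⟨e, -, he⟩ := (Nat.dvd_prime_pow hpp).mp (orderOf_dvd_of_pow_eq_one hk)
  rcases e with _ | e
  · rw [pow_zero, orderOf_eq_one_iff] at he
    apply hy
    have h1 : y ∈ M := (QuotientGroup.eq_one_iff y).mp he
    exact pow_mem h1 p
  · rw [he] at hdvd
    have h1 : (p : ℤ) ∣ (p : ℤ) * z - 1 := by
      refine dvd_trans ?_ hdvd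
      rw [pow_succ]; push_cast; exact dvd_mul_left _ _
    have h2 : (p : ℤ) ∣ 1 := by
      have h3 : (p : ℤ) ∣ (p : ℤ) * z := dvd_mul_right _ _
      have h4 := dvd_sub h3 h1
      simpa using h4
    have h5 := Int.eq_one_of_dvd_one (by positivity) h2
    have h6 : p = 1 := by exact_mod_cast h5
    exact hpp.ne_one h6

/-- **Lemma M'** with the index of the centre. -/
theorem MC.lemmaM' (hp : p ≠ 2) (hG : IsPGroup p G) {a b : G} (h : MC a b) {n : ℕ}
    (hn : orderOf ⁅a, b⁆ = p ^ n) (R : Subgroup G) :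
    ∃ w : ℕ, R.index = p ^ w ∧ Nat.card (commutator ↥R) = p ^ (n - w) ∧
      (Subgroup.center ↥R).index = p ^ (2 * (n - w)) := by
  obtain ⟨u, v, i₁, d⟩ := exists_subData hG h R
  have hR := d.mc hG h
  have hcard := d.card_comm hp hG h hn
  exact ⟨u + v, d.index hG h, hcard,
    hR.index_center hp (hG.to_subgroup R) (hR.order_comm (hG.to_subgroup R) hcard)⟩

theorem MC.pow_mem_center (hp : p ≠ 2) (hG : IsPGroup p G) {a b : G} (h : MC a b) {n : ℕ}
    (hn : orderOf ⁅a, b⁆ = p ^ n) :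
    a ^ (p ^ n) ∈ Subgroup.center G ∧ b ^ (p ^ n) ∈ Subgroup.center G := by
  constructor
  · rw [mem_center_iff_index]
    have := (h.class_le_iff' hp hG hn (p ^ n) 0 0).mpr ⟨by simp, by simp⟩
    simpa using this
  · rw [mem_center_iff_index]
    have := (h.class_le_iff' hp hG hn 0 (p ^ n) 0).mpr ⟨by simp, by simp⟩
    simpa using this

theorem SubData.index_centralizer {a b : G} {R : Subgroup G} {u v i₁ : ℕ} (hp : p ≠ 2)
    (hG : IsPGroup p G) (h : MC a b) (d : SubData p a b R u v i₁) {n : ℕ}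
    (hn : orderOf ⁅a, b⁆ = p ^ n) (hZ : Subgroup.center G ≤ R) :
    (Subgroup.centralizer (R : Set G)).index * R.index = p ^ (2 * n) := by
  have hpp : p.Prime := Fact.out
  have hc := h.comm_le
  have hnorm := h.normal
  haveI := hnorm
  obtain ⟨K, hK⟩ := IsPGroup.iff_card.mp hG
  obtain ⟨hzA, hzB⟩ := h.pow_mem_center hp hG hn
  have hun : u ≤ n := d.minu n (hZ hzA)
  have hvn : v ≤ n := d.minv n 0 (by rw [pow_zero, one_mul]; exact hZ hzB)
  -- the centralizer of `R`
  have hcent : Subgroup.centralizer (R : Set G) =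
      Subgroup.centralizer {a ^ (p ^ u)} ⊓ Subgroup.centralizer {a ^ i₁ * b ^ (p ^ v)} := by
    ext z
    rw [Subgroup.mem_inf, mem_cent_single, mem_cent_single, Subgroup.mem_centralizer_iff]
    constructor
    · intro hz; exact ⟨hz _ d.ha, hz _ d.hc⟩
    · rintro ⟨h1, h2⟩ r hr
      obtain ⟨k, l, rfl⟩ := d.gen r hr
      have h1' : Commute (a ^ (p ^ u)) z := h1
      have h2' : Commute (a ^ i₁ * b ^ (p ^ v)) z := h2
      exact (h1'.pow_left k).mul_left (h2'.pow_left l)
  -- index of the centralizer of `a ^ (p ^ u)`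
  have hCa : (Subgroup.centralizer {a ^ (p ^ u)}).index = p ^ (n - u) := by
    have hd : (Subgroup.centralizer {a ^ (p ^ u)}).index ∣ p ^ K := by
      rw [← hK]; exact Subgroup.index_dvd_card _
    apply eq_pow_of_le_iff hpp hd
    intro N
    have := h.class_le_iff' hp hG hn (p ^ u) 0 N
    simp only [pow_zero, mul_one, zero_mul, dvd_zero, and_true] at this
    rw [this, ← pow_add, Nat.pow_dvd_pow_iff_le_right hpp.one_lt]
    omega
  -- relative index
  have hrel : (Subgroup.centralizer {a ^ i₁ * b ^ (p ^ v)}).relIndex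
      (Subgroup.centralizer {a ^ (p ^ u)}) = p ^ (n - v) := by
    have hd : (Subgroup.centralizer {a ^ i₁ * b ^ (p ^ v)}).relIndex
        (Subgroup.centralizer {a ^ (p ^ u)}) ∣ p ^ K := by
      rw [← hK]
      exact (Subgroup.relIndex_dvd_card _ _).trans (Subgroup.card_subgroup_dvd_card _)
    apply eq_pow_of_le_iff hpp hd
    intro N
    rw [relIndex_le_iff hp hG hnorm hc]
    constructor
    · intro hall
      have ha : a ∈ Subgroup.centralizer {a ^ (p ^ u)} := by
        rw [mem_cent_single]; exact ((Commute.refl a).pow_left _).eq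
      have h1 := hall a ha
      have h2 := (h.comm_gen_pow hp hG 1 i₁ (p ^ v) (p ^ N)).mp (by rw [pow_one]; exact h1)
      rw [← orderOf_dvd_iff_pow_eq_one, hn, one_mul, ← pow_add,
        Nat.pow_dvd_pow_iff_le_right hpp.one_lt] at h2
      omega
    · intro hN y hy
      have hm : (b ^ (p ^ v)) ^ p ^ (n - v) = b ^ (p ^ n) := by
        rw [← pow_mul, ← pow_add, Nat.add_sub_cancel' hvn]
      have h1 := quot_pow (Subgroup.zpowers a) (pow_mem (Subgroup.mem_zpowers a) i₁)
        (b ^ (p ^ v)) (p ^ (n - v))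
      rw [hm] at h1
      have h2 : (a ^ i₁ * b ^ (p ^ v)) ^ p ^ (n - v) * (b ^ (p ^ n))⁻¹ ∈ R :=
        mul_mem (pow_mem d.hc _) (inv_mem (hZ hzB))
      obtain ⟨z, hz⟩ := d.inter _ h2 h1
      have hz' : (a ^ (p ^ u)) ^ z = (a ^ i₁ * b ^ (p ^ v)) ^ p ^ (n - v) * (b ^ (p ^ n))⁻¹ := hz
      have h3 : (a ^ i₁ * b ^ (p ^ v)) ^ p ^ (n - v) = (a ^ (p ^ u)) ^ z * b ^ (p ^ n) := by
        rw [hz', inv_mul_cancel_right]
      rw [mem_cent_single] at hy
      have hy1 : Commute y (a ^ (p ^ u)) := hy.symm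
      have hy2 : Commute y (b ^ (p ^ n)) := (Subgroup.mem_center_iff.mp hzB y)
      have h4 : Commute y ((a ^ i₁ * b ^ (p ^ v)) ^ p ^ (n - v)) := by
        rw [h3]; exact (hy1.zpow_right z).mul_right hy2
      have h5 : ⁅y, (a ^ i₁ * b ^ (p ^ v)) ^ p ^ (n - v)⁆ ^ 1 = 1 := by
        rw [pow_one, commutatorElement_eq_one_iff_commute]; exact h4
      have h6 := (F2' hp hG hnorm hc y (a ^ i₁ * b ^ (p ^ v)) (p ^ (n - v)) 1).mp h5
      rw [mul_one] at h6
      obtain ⟨e, rfl⟩ := Nat.exists_eq_add_of_le hN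
      rw [pow_add, pow_mul, h6, one_pow]
  have hidx : (Subgroup.centralizer (R : Set G)).index = p ^ (n - v) * p ^ (n - u) := by
    rw [hcent, ← Subgroup.relIndex_mul_index (inf_le_left :
      Subgroup.centralizer {a ^ (p ^ u)} ⊓ Subgroup.centralizer {a ^ i₁ * b ^ (p ^ v)} ≤
        Subgroup.centralizer {a ^ (p ^ u)}), Subgroup.inf_relIndex_left, hCa, hrel]
  rw [hidx, d.index hG h, ← pow_add, ← pow_add]
  congr 1
  omega

/-- **Lemma CD**: subgroups containing the centre have the same Chermak–Delgado measure. -/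
theorem MC.cd (hp : p ≠ 2) (hG : IsPGroup p G) {a b : G} (h : MC a b) (R : Subgroup G)
    (hZ : Subgroup.center G ≤ R) :
    Nat.card ↥R * Nat.card ↥(Subgroup.centralizer (R : Set G)) =
      Nat.card G * Nat.card ↥(Subgroup.center G) := by
  have hpp : p.Prime := Fact.out
  obtain ⟨n, hn⟩ : ∃ n, orderOf ⁅a, b⁆ = p ^ n := by
    obtain ⟨k, hk⟩ := hG ⁅a, b⁆
    obtain ⟨m, -, hm⟩ := (Nat.dvd_prime_pow hpp).mp (orderOf_dvd_of_pow_eq_one hk)
    exact ⟨m, hm⟩
  obtain ⟨u, v, i₁, d⟩ := exists_subData hG h R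
  have h1 := d.index_centralizer hp hG h hn hZ
  have h2 := Subgroup.card_mul_index R
  have h3 := Subgroup.card_mul_index (Subgroup.centralizer (R : Set G))
  have h4 := Subgroup.card_mul_index (Subgroup.center G)
  rw [h.index_center hp hG hn] at h4
  have h5 : Nat.card ↥R * Nat.card ↥(Subgroup.centralizer (R : Set G)) * p ^ (2 * n) =
      Nat.card G * Nat.card ↥(Subgroup.center G) * p ^ (2 * n) := by
    calc Nat.card ↥R * Nat.card ↥(Subgroup.centralizer (R : Set G)) * p ^ (2 * n)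
        = (Nat.card ↥R * R.index) * (Nat.card ↥(Subgroup.centralizer (R : Set G)) *
            (Subgroup.centralizer (R : Set G)).index) := by rw [← h1]; ring
      _ = Nat.card G * (Nat.card ↥(Subgroup.center G) * p ^ (2 * n)) := by rw [h2, h3, h4]
      _ = Nat.card G * Nat.card ↥(Subgroup.center G) * p ^ (2 * n) := by ring
  exact Nat.eq_of_mul_eq_mul_right (pow_pos hpp.pos _) h5

end Cfsg.Agent.Helper8.Meta
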