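import Mathlib

set_option autoImplicit false

/-! # The power formula `(xy)^n` in groups of class at most three -/

namespace Cfsg.Agent.Helper8.PowFormula

variable {G : Type*} [Group G]

/-- Sum of the squares below `n`. -/
def sq (n : ℕ) : ℕ := ∑ k ∈ Finset.range n, k ^ 2

theorem sq_succ (n : ℕ) : sq (n + 1) = sq n + n ^ 2 := Finset.sum_range_succ _ _

theorem six_sq (n : ℕ) : 6 * sq (n + 1) = n * (n + 1) * (2 * n + 1) := by
  induction n with
  | zero => simp [sq]
  | succ n ih => rw [sq_succ, mul_add, ih]; ring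

theorem choose_two_succ (n : ℕ) : (n + 1).choose 2 = n + n.choose 2 := by
  rw [Nat.choose_succ_succ' n 1, Nat.choose_one_right]

theorem choose_three_succ (n : ℕ) : (n + 1).choose 3 = n.choose 2 + n.choose 3 :=
  Nat.choose_succ_succ' n 2

theorem two_choose (n : ℕ) : n + 2 * n.choose 2 = n ^ 2 := by
  induction n with
  | zero => simp
  | succ n ih =>
    rw [choose_two_succ]
    have : n + 1 + 2 * (n + n.choose 2) = (n + 2 * n.choose 2) + 2 * n + 1 := by ring
    rw [this, ih]; ring

/-- The class two formula. -/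
theorem mul_pow_two (w u v : G) (h : u * w = w * u * v) (hvu : Commute v u) (hvw : Commute v w)
    (n : ℕ) : (w * u) ^ n = w ^ n * u ^ n * v ^ (n.choose 2) := by
  have hs : SemiconjBy w (u * v) u := by
    show w * (u * v) = u * w
    rw [h, mul_assoc]
  have hk : ∀ k : ℕ, u ^ k * w = w * (u ^ k * v ^ k) := by
    intro k
    rw [← (hs.pow_right k).eq, (hvu.symm).mul_pow]
  induction n with
  | zero => simp
  | succ n ih =>
    rw [pow_succ, ih, choose_two_succ, pow_succ w, pow_succ u, pow_add]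
    have e1 : v ^ n.choose 2 * (w * u) = w * (u * v ^ n.choose 2) := by
      rw [← mul_assoc, (hvw.pow_left _).eq, mul_assoc, (hvu.pow_left _).eq]
    calc w ^ n * u ^ n * v ^ n.choose 2 * (w * u)
        = w ^ n * (u ^ n * (v ^ n.choose 2 * (w * u))) := by simp only [mul_assoc]
      _ = w ^ n * (u ^ n * (w * (u * v ^ n.choose 2))) := by rw [e1]
      _ = w ^ n * ((u ^ n * w) * (u * v ^ n.choose 2)) := by simp only [mul_assoc]
      _ = w ^ n * ((w * (u ^ n * v ^ n)) * (u * v ^ n.choose 2)) := by rw [hk]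
      _ = w ^ n * w * (u ^ n * ((v ^ n * u) * v ^ n.choose 2)) := by simp only [mul_assoc]
      _ = w ^ n * w * (u ^ n * ((u * v ^ n) * v ^ n.choose 2)) := by rw [(hvu.pow_left n).eq]
      _ = w ^ n * w * (u ^ n * u) * (v ^ n * v ^ n.choose 2) := by simp only [mul_assoc]

/-- The defining relations. -/
structure Rel (x y c d e : G) : Prop where
  r1 : y * x = x * y * c
  r2 : c * x = x * c * d
  r3 : c * y = y * c * e
  dx : Commute d x
  dy : Commute d y
  dc : Commute d c
  ex : Commute e x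
  ey : Commute e y
  ec : Commute e c
  de : Commute d e

variable {x y c d e : G}

theorem cpow_x (h : Rel x y c d e) (k : ℕ) : c ^ k * x = x * (c ^ k * d ^ k) := by
  have hs : SemiconjBy x (c * d) c := by
    show x * (c * d) = c * x
    rw [h.r2, mul_assoc]
  rw [← (hs.pow_right k).eq, (h.dc.symm).mul_pow]

theorem cpow_y (h : Rel x y c d e) (k : ℕ) : c ^ k * y = y * (c ^ k * e ^ k) := by
  have hs : SemiconjBy y (c * e) c := by
    show y * (c * e) = c * y
    rw [h.r3, mul_assoc]
  rw [← (hs.pow_right k).eq, (h.ec.symm).mul_pow]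

theorem ypow_x (h : Rel x y c d e) (n : ℕ) :
    y ^ n * x = x * (y ^ n * c ^ n * e ^ (n.choose 2)) := by
  have hs : SemiconjBy x (y * c) y := by
    show x * (y * c) = y * x
    rw [h.r1, mul_assoc]
  rw [← (hs.pow_right n).eq, mul_pow_two y c e h.r3 h.ec h.ey]

/-- The normal form. -/
def nf (x y c d e : G) (i j k l m : ℕ) : G := x ^ i * y ^ j * c ^ k * d ^ l * e ^ m

theorem nf_mul_x (h : Rel x y c d e) (i j k l m : ℕ) :
    nf x y c d e i j k l m * x = nf x y c d e (i + 1) j (j + k) (k + l) (j.choose 2 + m) := by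
  unfold nf
  calc x ^ i * y ^ j * c ^ k * d ^ l * e ^ m * x
      = x ^ i * y ^ j * c ^ k * d ^ l * (e ^ m * x) := by simp only [mul_assoc]
    _ = x ^ i * y ^ j * c ^ k * d ^ l * (x * e ^ m) := by rw [(h.ex.pow_left m).eq]
    _ = x ^ i * y ^ j * c ^ k * (d ^ l * x) * e ^ m := by simp only [mul_assoc]
    _ = x ^ i * y ^ j * c ^ k * (x * d ^ l) * e ^ m := by rw [(h.dx.pow_left l).eq]
    _ = x ^ i * y ^ j * (c ^ k * x) * d ^ l * e ^ m := by simp only [mul_assoc]
    _ = x ^ i * y ^ j * (x * (c ^ k * d ^ k)) * d ^ l * e ^ m := by rw [cpow_x h]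
    _ = x ^ i * (y ^ j * x) * c ^ k * d ^ k * d ^ l * e ^ m := by simp only [mul_assoc]
    _ = x ^ i * (x * (y ^ j * c ^ j * e ^ (j.choose 2))) * c ^ k * d ^ k * d ^ l * e ^ m := by
        rw [ypow_x h]
    _ = x ^ i * x * y ^ j * c ^ j * (e ^ (j.choose 2) * c ^ k) * (d ^ k * d ^ l) * e ^ m := by
        simp only [mul_assoc]
    _ = x ^ i * x * y ^ j * c ^ j * (c ^ k * e ^ (j.choose 2)) * (d ^ k * d ^ l) * e ^ m := by
        rw [((h.ec.pow_left _).pow_right k).eq]
    _ = x ^ i * x * y ^ j * (c ^ j * c ^ k) * (e ^ (j.choose 2) * (d ^ k * d ^ l)) * e ^ m := by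
        simp only [mul_assoc]
    _ = x ^ i * x * y ^ j * (c ^ j * c ^ k) * ((d ^ k * d ^ l) * e ^ (j.choose 2)) * e ^ m := by
        rw [(((h.de.symm.pow_left _).pow_right k).mul_right
          ((h.de.symm.pow_left _).pow_right l)).eq]
    _ = x ^ (i + 1) * y ^ j * c ^ (j + k) * d ^ (k + l) * e ^ (j.choose 2 + m) := by
        rw [pow_succ, pow_add, pow_add, pow_add]; simp only [mul_assoc]

theorem nf_mul_y (h : Rel x y c d e) (i j k l m : ℕ) :
    nf x y c d e i j k l m * y = nf x y c d e i (j + 1) k l (k + m) := by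
  unfold nf
  calc x ^ i * y ^ j * c ^ k * d ^ l * e ^ m * y
      = x ^ i * y ^ j * c ^ k * d ^ l * (e ^ m * y) := by simp only [mul_assoc]
    _ = x ^ i * y ^ j * c ^ k * d ^ l * (y * e ^ m) := by rw [(h.ey.pow_left m).eq]
    _ = x ^ i * y ^ j * c ^ k * (d ^ l * y) * e ^ m := by simp only [mul_assoc]
    _ = x ^ i * y ^ j * c ^ k * (y * d ^ l) * e ^ m := by rw [(h.dy.pow_left l).eq]
    _ = x ^ i * y ^ j * (c ^ k * y) * d ^ l * e ^ m := by simp only [mul_assoc]
    _ = x ^ i * y ^ j * (y * (c ^ k * e ^ k)) * d ^ l * e ^ m := by rw [cpow_y h]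
    _ = x ^ i * (y ^ j * y) * c ^ k * (e ^ k * d ^ l) * e ^ m := by simp only [mul_assoc]
    _ = x ^ i * (y ^ j * y) * c ^ k * (d ^ l * e ^ k) * e ^ m := by
        rw [((h.de.symm.pow_left k).pow_right l).eq]
    _ = x ^ i * y ^ (j + 1) * c ^ k * d ^ l * e ^ (k + m) := by
        rw [pow_succ, pow_add]; simp only [mul_assoc]

/-- The power formula. -/
theorem mul_pow_formula (h : Rel x y c d e) (n : ℕ) :
    (x * y) ^ n = nf x y c d e n n (n.choose 2) (n.choose 3) (sq n) := by
  induction n with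
  | zero => simp [nf, sq]
  | succ n ih =>
    rw [pow_succ, ih, ← mul_assoc, nf_mul_x h, nf_mul_y h, choose_two_succ, choose_three_succ,
      sq_succ]
    have e1 : n + n.choose 2 + (n.choose 2 + sq n) = sq n + n ^ 2 := by
      rw [← two_choose n]; ring
    rw [e1]

/-- Conjugating `y` by powers of `x`. -/
theorem y_mul_xpow (h : Rel x y c d e) (k : ℕ) :
    y * x ^ k = x ^ k * (y * c ^ k * d ^ (k.choose 2)) := by
  induction k with
  | zero => simp
  | succ k ih =>
    rw [pow_succ, ← mul_assoc, ih, choose_two_succ, pow_succ c, pow_add]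
    calc x ^ k * (y * c ^ k * d ^ k.choose 2) * x
        = x ^ k * (y * c ^ k * (d ^ k.choose 2 * x)) := by simp only [mul_assoc]
      _ = x ^ k * (y * c ^ k * (x * d ^ k.choose 2)) := by rw [(h.dx.pow_left _).eq]
      _ = x ^ k * (y * (c ^ k * x) * d ^ k.choose 2) := by simp only [mul_assoc]
      _ = x ^ k * (y * (x * (c ^ k * d ^ k)) * d ^ k.choose 2) := by rw [cpow_x h]
      _ = x ^ k * ((y * x) * c ^ k * d ^ k * d ^ k.choose 2) := by simp only [mul_assoc]
      _ = x ^ k * ((x * y * c) * c ^ k * d ^ k * d ^ k.choose 2) := by rw [h.r1]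
      _ = x ^ k * x * (y * (c * c ^ k) * (d ^ k * d ^ k.choose 2)) := by simp only [mul_assoc]
      _ = x ^ k * x * (y * (c ^ k * c) * (d ^ k * d ^ k.choose 2)) := by
          rw [(Commute.pow_right (Commute.refl c) k).eq]

end Cfsg.Agent.Helper8.PowFormula
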