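import Mathlib
import Cfsg.Agent.Helper8.PowFormula

set_option autoImplicit false
open scoped commutatorElement

/-! # The `p`-th power map in `p`-groups of small class -/

namespace Cfsg.Agent.Helper8.PowFormula

variable {R : Type*} [Group R]

theorem central_of_class3 (H3 : ⁅⁅commutator R, (⊤ : Subgroup R)⁆, (⊤ : Subgroup R)⁆ = ⊥)
    {z : R} (hz : z ∈ ⁅commutator R, (⊤ : Subgroup R)⁆) (g : R) : Commute z g := by
  have h1 : ⁅z, g⁆ ∈ ⁅⁅commutator R, (⊤ : Subgroup R)⁆, (⊤ : Subgroup R)⁆ :=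
    Subgroup.commutator_mem_commutator hz (Subgroup.mem_top g)
  rw [H3, Subgroup.mem_bot] at h1
  exact commutatorElement_eq_one_iff_commute.mp h1

theorem c_mem (x y : R) : y⁻¹ * x⁻¹ * y * x ∈ commutator R := by
  have h1 : ⁅y⁻¹, x⁻¹⁆ ∈ ⁅(⊤ : Subgroup R), (⊤ : Subgroup R)⁆ :=
    Subgroup.commutator_mem_commutator (Subgroup.mem_top _) (Subgroup.mem_top _)
  rw [commutatorElement_def, inv_inv, inv_inv] at h1
  rw [commutator_def]
  exact h1

theorem d_mem {c : R} (hc : c ∈ commutator R) (x : R) :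
    c⁻¹ * x⁻¹ * c * x ∈ ⁅commutator R, (⊤ : Subgroup R)⁆ := by
  have h1 : ⁅c⁻¹, x⁻¹⁆ ∈ ⁅commutator R, (⊤ : Subgroup R)⁆ :=
    Subgroup.commutator_mem_commutator (inv_mem hc) (Subgroup.mem_top _)
  rw [commutatorElement_def, inv_inv, inv_inv] at h1
  exact h1

theorem rel_of_class3 (H3 : ⁅⁅commutator R, (⊤ : Subgroup R)⁆, (⊤ : Subgroup R)⁆ = ⊥)
    (x y : R) :
    Rel x y (y⁻¹ * x⁻¹ * y * x) ((y⁻¹ * x⁻¹ * y * x)⁻¹ * x⁻¹ * (y⁻¹ * x⁻¹ * y * x) * x)
      ((y⁻¹ * x⁻¹ * y * x)⁻¹ * y⁻¹ * (y⁻¹ * x⁻¹ * y * x) * y) := by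
  have hc := c_mem x y
  have hd := d_mem hc x
  have he := d_mem hc y
  refine ⟨by group, by group, by group, central_of_class3 H3 hd _, central_of_class3 H3 hd _,
    central_of_class3 H3 hd _, central_of_class3 H3 he _, central_of_class3 H3 he _,
    central_of_class3 H3 he _, central_of_class3 H3 hd _⟩

theorem lemA {x y c d e : R} (h : Rel x y c d e) {p : ℕ} (hx : x ^ p = 1)
    (h2 : p ∣ p.choose 2) : c ^ p = 1 ∧ d ^ p = 1 ∧ e ^ p = 1 := by
  have h1 := y_mul_xpow h p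
  rw [hx, mul_one, one_mul, mul_assoc] at h1
  have h3 : c ^ p * d ^ (p.choose 2) = 1 := by
    have := mul_left_cancel (a := y) (b := 1) (c := c ^ p * d ^ p.choose 2)
      (by rw [mul_one]; exact h1)
    exact this.symm
  have hcp : c ^ p = (d ^ (p.choose 2))⁻¹ := eq_inv_of_mul_eq_one_left h3
  have hcx : Commute (c ^ p) x := by
    rw [hcp]
    exact ((h.dx.pow_left _).inv_left)
  have h4 := cpow_x h p
  rw [hcx.eq] at h4
  have hd : d ^ p = 1 := by
    have := mul_left_cancel h4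
    have h5 : c ^ p * 1 = c ^ p * d ^ p := by rw [mul_one]; exact this
    exact (mul_left_cancel h5).symm
  have hc : c ^ p = 1 := by
    obtain ⟨t, ht⟩ := h2
    rw [ht, pow_mul, hd, one_pow, mul_one] at h3
    exact h3
  refine ⟨hc, hd, ?_⟩
  have h6 := cpow_y h p
  rw [hc, one_mul, one_mul] at h6
  have h7 : y * 1 = y * e ^ p := by rw [mul_one]; exact h6
  exact (mul_left_cancel h7).symm

theorem mul_pow_p {x y c d e : R} (h : Rel x y c d e) {p : ℕ} (hc : c ^ p = 1)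
    (hd : d ^ (p.choose 3) = 1) (he : e ^ (sq p) = 1) (h2 : p ∣ p.choose 2) :
    (x * y) ^ p = x ^ p * y ^ p := by
  rw [mul_pow_formula h p]
  unfold nf
  obtain ⟨t, ht⟩ := h2
  rw [hd, he, ht, pow_mul, hc, one_pow, mul_one, mul_one, mul_one]

theorem prime_dvd_sq {p : ℕ} (hp : p.Prime) (hp3 : 3 < p) : p ∣ sq p := by
  obtain ⟨n, rfl⟩ : ∃ n, p = n + 1 := ⟨p - 1, by omega⟩
  have h1 := six_sq n
  have h2 : (n + 1) ∣ 6 * sq (n + 1) := by
    rw [h1]
    exact Dvd.dvd.mul_right (Dvd.intro_left n rfl) _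
  rcases (Nat.Prime.dvd_mul hp).mp h2 with h3 | h3
  · exfalso
    have h4 : (n + 1) ∣ 2 * 3 := h3
    rcases (Nat.Prime.dvd_mul hp).mp h4 with h5 | h5
    · have := Nat.le_of_dvd (by norm_num) h5
      omega
    · have := Nat.le_of_dvd (by norm_num) h5
      omega
  · exact h3

/-- The hypothesis on the prime and the class. -/
def Small (R : Type*) [Group R] (p : ℕ) : Prop :=
  ⁅⁅commutator R, (⊤ : Subgroup R)⁆, (⊤ : Subgroup R)⁆ = ⊥ ∧ p ∣ p.choose 2 ∧
    ∀ z ∈ ⁅commutator R, (⊤ : Subgroup R)⁆, z ^ p = 1 → z ^ (p.choose 3) = 1 ∧ z ^ (sq p) = 1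

theorem small_of_class3 {p : ℕ} (hp : p.Prime) (hp3 : 3 < p)
    (H3 : ⁅⁅commutator R, (⊤ : Subgroup R)⁆, (⊤ : Subgroup R)⁆ = ⊥) : Small R p := by
  refine ⟨H3, hp.dvd_choose_self (by norm_num) (by omega), ?_⟩
  intro z _ hz
  obtain ⟨t, ht⟩ := hp.dvd_choose_self (k := 3) (by norm_num) hp3
  obtain ⟨s, hs⟩ := prime_dvd_sq hp hp3
  constructor
  · rw [ht, pow_mul, hz, one_pow]
  · rw [hs, pow_mul, hz, one_pow]

theorem small_of_class2 {p : ℕ} (hp : p.Prime) (hp2 : p ≠ 2)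
    (H2 : ⁅commutator R, (⊤ : Subgroup R)⁆ = ⊥) : Small R p := by
  have hp2' : 2 < p := lt_of_le_of_ne hp.two_le (Ne.symm hp2)
  refine ⟨?_, hp.dvd_choose_self (by norm_num) hp2', ?_⟩
  · rw [H2]
    exact Subgroup.commutator_bot_left _
  · intro z hz _
    rw [H2, Subgroup.mem_bot] at hz
    rw [hz, one_pow, one_pow]
    exact ⟨rfl, rfl⟩

theorem pow_eq_one_of_mem_closure {p : ℕ} (hS : Small R p) (g : R)
    (hg : g ∈ Subgroup.closure {x : R | x ^ p = 1}) : g ^ p = 1 := by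
  induction hg using Subgroup.closure_induction with
  | mem x hx => exact hx
  | one => exact one_pow p
  | mul x y _ _ hx hy =>
    have h := rel_of_class3 hS.1 x y
    obtain ⟨hc, hd, he⟩ := lemA h hx hS.2.1
    have hd' := hS.2.2 _ (d_mem (c_mem x y) x) hd
    have he' := hS.2.2 _ (d_mem (c_mem x y) y) he
    rw [mul_pow_p h hc hd'.1 he'.2 hS.2.1, hx, hy, one_mul]
  | inv x _ hx => rw [inv_pow, hx, inv_one]

theorem mul_pow_of_small {p : ℕ} (hS : Small R p)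
    (hder : commutator R ≤ Subgroup.closure {x : R | x ^ p = 1}) (x y : R) :
    (x * y) ^ p = x ^ p * y ^ p := by
  have h := rel_of_class3 hS.1 x y
  have hcm := c_mem x y
  have hdm := d_mem hcm x
  have hem := d_mem hcm y
  have hle : ⁅commutator R, (⊤ : Subgroup R)⁆ ≤ commutator R := Subgroup.commutator_le_left _ _
  have hc := pow_eq_one_of_mem_closure hS _ (hder hcm)
  have hd := pow_eq_one_of_mem_closure hS _ (hder (hle hdm))
  have he := pow_eq_one_of_mem_closure hS _ (hder (hle hem))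
  exact mul_pow_p h hc (hS.2.2 _ hdm hd).1 (hS.2.2 _ hem he).2 hS.2.1

end Cfsg.Agent.Helper8.PowFormula
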