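import Mathlib
import Cfsg.Agent.S3379

/-!
# 2-groups of maximal class (helper8)

* `center_card`: the centre of a group of order `p ^ n` (`n ≥ 1`) has order `p ^ k`, `k ≥ 1`,
  and the central quotient has order `p ^ (n - k)` with `n - k ≠ 1`.
* `class_le`: a group of order `p ^ n` has class `≤ n`, and `≤ n - 1` if `n ≥ 2`.
* `maxclass_center`: a group of order `p ^ n` (`n ≥ 3`) of class `n - 1` has centre of order
  `p`, and its central quotient has order `p ^ (n - 1)` and class `n - 2`.
* `noncomm_of_maxclass`.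
* `exists_cyclic_index_two`: a 2-group of maximal class of order `≥ 8` has a cyclic subgroup
  `⟨c⟩` of index 2.
-/

set_option autoImplicit false

universe u

namespace Cfsg.Agent.Helper8

theorem center_card {p : ℕ} [Fact p.Prime] {X : Type u} [Group X] [Finite X] (n : ℕ)
    (hn : 1 ≤ n) (hX : Nat.card X = p ^ n) :
    ∃ k, 1 ≤ k ∧ k ≤ n ∧ n - k ≠ 1 ∧ Nat.card (Subgroup.center X) = p ^ k ∧
      Nat.card (X ⧸ Subgroup.center X) = p ^ (n - k) := by
  have hp : p.Prime := Fact.out
  have hPG : IsPGroup p X := IsPGroup.of_card hX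
  haveI : Nontrivial X := by
    rw [← Finite.one_lt_card_iff_nontrivial, hX]
    exact Nat.one_lt_pow (by omega) hp.one_lt
  haveI := hPG.center_nontrivial
  have hdvd : Nat.card (Subgroup.center X) ∣ p ^ n := by
    rw [← hX]; exact Subgroup.card_subgroup_dvd_card _
  obtain ⟨k, hkn, hk⟩ := (Nat.dvd_prime_pow hp).mp hdvd
  have hk1 : 1 ≤ k := by
    by_contra h
    have h0 : k = 0 := by omega
    rw [h0, pow_zero] at hk
    have h1 : 1 < Nat.card (Subgroup.center X) := Finite.one_lt_card
    omega
  have hq : Nat.card (X ⧸ Subgroup.center X) = p ^ (n - k) := by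
    have h1 := Subgroup.card_eq_card_quotient_mul_card_subgroup (Subgroup.center X)
    rw [hX, hk] at h1
    have h2 : p ^ n = p ^ (n - k) * p ^ k := by rw [← pow_add]; congr 1; omega
    rw [h2] at h1
    exact (Nat.eq_of_mul_eq_mul_right (pow_pos hp.pos k) h1).symm
  refine ⟨k, hk1, hkn, ?_, hk, hq⟩
  intro h1
  rw [h1, pow_one] at hq
  haveI : IsCyclic (X ⧸ Subgroup.center X) := isCyclic_of_prime_card hq
  have hcomm : IsMulCommutative X :=
    MonoidHom.isMulCommutative_of_isCyclic_of_ker_le_center
      (QuotientGroup.mk' (Subgroup.center X)) (by rw [QuotientGroup.ker_mk'])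
  have htop : Subgroup.center X = ⊤ := Subgroup.center_eq_top_iff.mpr hcomm
  rw [htop, Subgroup.card_top, hX] at hk
  have h2 : n = k := Nat.pow_right_injective hp.two_le hk
  omega

theorem class_le {p : ℕ} [Fact p.Prime] : ∀ n : ℕ, ∀ (X : Type u) [Group X] [Finite X],
    Nat.card X = p ^ n →
      Group.nilpotencyClass X ≤ n ∧ (2 ≤ n → Group.nilpotencyClass X ≤ n - 1) := by
  have hp : p.Prime := Fact.out
  intro n
  induction n using Nat.strong_induction_on with
  | _ n ih =>
    intro X _ _ hX
    have hPG : IsPGroup p X := IsPGroup.of_card hX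
    haveI : Group.IsNilpotent X := hPG.isNilpotent
    rcases Nat.eq_zero_or_pos n with h0 | hpos
    · subst h0
      have h1 : Subsingleton X := by
        rw [← Finite.card_le_one_iff_subsingleton, hX, pow_zero]
      have h2 := Group.nilpotencyClass_zero_iff_subsingleton.mpr h1
      omega
    · obtain ⟨k, hk1, hkn, hne, hk, hq⟩ := center_card n hpos hX
      have ih' := ih (n - k) (by omega) (X ⧸ Subgroup.center X) hq
      haveI : Nontrivial X := by
        rw [← Finite.one_lt_card_iff_nontrivial, hX]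
        exact Nat.one_lt_pow (by omega) hp.one_lt
      have hcl2 := Group.nilpotencyClass_eq_quotient_center_plus_one (G := X)
      have ih1 := ih'.1
      constructor
      · omega
      · intro h2
        rcases Nat.lt_or_ge (n - k) 2 with h | h
        · omega
        · have ih2 := ih'.2 h
          omega

theorem maxclass_center {p : ℕ} [Fact p.Prime] {X : Type u} [Group X] [Finite X] (n : ℕ)
    (hn : 3 ≤ n) (hX : Nat.card X = p ^ n) (hc : Group.nilpotencyClass X = n - 1) :
    Nat.card (Subgroup.center X) = p ∧ Nat.card (X ⧸ Subgroup.center X) = p ^ (n - 1) ∧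
      Group.nilpotencyClass (X ⧸ Subgroup.center X) = n - 2 := by
  obtain ⟨k, hk1, hkn, hne, hk, hq⟩ := center_card n (by omega) hX
  have hcl := Group.nilpotencyClass_quotient_center (G := X)
  have h1 := class_le (p := p) (n - k) (X ⧸ Subgroup.center X) hq
  have h11 := h1.1
  have hk' : k = 1 := by
    rcases Nat.lt_or_ge (n - k) 2 with h | h
    · omega
    · have h12 := h1.2 h
      omega
  subst hk'
  refine ⟨by rw [hk, pow_one], hq, by omega⟩

theorem noncomm_of_maxclass {p : ℕ} [Fact p.Prime] {X : Type u} [Group X] [Finite X] (n : ℕ)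
    (hn : 3 ≤ n) (hX : Nat.card X = p ^ n) (hc : Group.nilpotencyClass X = n - 1) :
    ∃ a b : X, a * b ≠ b * a := by
  have hp : p.Prime := Fact.out
  by_contra hcon
  push Not at hcon
  have htop : Subgroup.center X = ⊤ := by
    rw [eq_top_iff]
    intro x _
    rw [Subgroup.mem_center_iff]
    intro g
    exact hcon g x
  have h1 := (maxclass_center n hn hX hc).1
  rw [htop, Subgroup.card_top, hX] at h1
  have h2 : p ^ n = p ^ 1 := by rw [pow_one]; exact h1
  have h3 : n = 1 := Nat.pow_right_injective hp.two_le h2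
  omega

theorem exists_elem_order_four {X : Type u} [Group X] [Finite X] (hX : Nat.card X = 8)
    (hnc : ∃ a b : X, a * b ≠ b * a) : ∃ y : X, orderOf y = 4 := by
  by_contra hcon
  push Not at hcon
  have hsq : ∀ x : X, x * x = 1 := by
    intro x
    have h1 : orderOf x ∣ 2 ^ 3 := by
      have h2 := orderOf_dvd_natCard x
      rw [hX] at h2
      exact h2
    obtain ⟨j, hj, hjo⟩ := (Nat.dvd_prime_pow Nat.prime_two).mp h1
    have hj1 : j ≤ 1 := by
      by_contra hj1
      have hj' : j = 2 ∨ j = 3 := by omega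
      rcases hj' with h | h
      · rw [h] at hjo
        exact hcon x hjo
      · rw [h] at hjo
        have h3 : orderOf (x ^ 2) = 4 := by
          rw [orderOf_pow' x (by norm_num), hjo]
          decide
        exact hcon _ h3
    have h4 : orderOf x ∣ 2 := by
      rw [hjo]
      exact pow_dvd_pow 2 hj1
    have h5 := orderOf_dvd_iff_pow_eq_one.mp h4
    rw [pow_two] at h5
    exact h5
  obtain ⟨a, b, hab⟩ := hnc
  apply hab
  have h1 := hsq (a * b)
  have h2 := hsq a
  have h3 := hsq b
  calc a * b = a * (a * b * (a * b)) * b := by rw [h1, mul_one]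
    _ = (a * a) * b * a * (b * b) := by group
    _ = b * a := by rw [h2, h3, one_mul, mul_one]

theorem maxclass_step {X : Type u} [Group X] [Finite X] (n : ℕ) (hn : 3 ≤ n)
    (hZ : Nat.card (Subgroup.center X) = 2)
    (hQ : Nat.card (X ⧸ Subgroup.center X) = 2 ^ n) (c : X)
    (hq : (Subgroup.zpowers (QuotientGroup.mk' (Subgroup.center X) c)).index = 2) :
    (Subgroup.zpowers c).index = 2 := by
  classical
  obtain ⟨π, hπ⟩ : ∃ π : X →* X ⧸ Subgroup.center X,
      π = QuotientGroup.mk' (Subgroup.center X) := ⟨_, rfl⟩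
  rw [← hπ] at hq
  have hπsurj : Function.Surjective π := by rw [hπ]; exact QuotientGroup.mk'_surjective _
  have hπker : ∀ x : X, π x = 1 ↔ x ∈ Subgroup.center X := by
    intro x; rw [hπ, QuotientGroup.mk'_apply, QuotientGroup.eq_one_iff]
  have hord : orderOf (π c) = 2 ^ (n - 1) := by
    have h1 := (Subgroup.zpowers (π c)).card_mul_index
    rw [hq, Nat.card_zpowers, hQ] at h1
    have h2 : 2 ^ n = 2 ^ (n - 1) * 2 := by rw [← pow_succ]; congr 1; omega
    rw [h2] at h1
    exact Nat.eq_of_mul_eq_mul_right (by norm_num) h1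
  obtain ⟨z, hz1, hzu⟩ := (Nat.card_eq_two_iff' (1 : ↥(Subgroup.center X))).mp hZ
  have hzX : (z : X) ≠ 1 := fun h => hz1 (Subtype.ext h)
  have hZel : ∀ u ∈ Subgroup.center X, u = 1 ∨ u = (z : X) := by
    intro u hu
    by_cases h : u = 1
    · exact Or.inl h
    · right
      have h1 : (⟨u, hu⟩ : ↥(Subgroup.center X)) ≠ 1 := fun h' => h (congrArg Subtype.val h')
      exact congrArg Subtype.val (hzu _ h1)
  have hzz : (z : X) * z = 1 := by
    rcases hZel _ (Subgroup.mul_mem _ z.2 z.2) with h | h
    · exact h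
    · exfalso; apply hzX
      calc (z : X) = ((z : X) * z) * (z : X)⁻¹ := by group
        _ = 1 := by rw [h]; group
  obtain ⟨C, hCdef⟩ : ∃ C : Subgroup X, C = (Subgroup.zpowers (π c)).comap π := ⟨_, rfl⟩
  have hCidx : C.index = 2 := by
    rw [hCdef, Subgroup.index_comap_of_surjective _ hπsurj]; exact hq
  have hcC : c ∈ C := by rw [hCdef]; exact Subgroup.mem_comap.mpr (Subgroup.mem_zpowers _)
  haveI hCn : C.Normal := Subgroup.normal_of_index_eq_two hCidx
  have hK : ∀ x ∈ C, ∃ i : ℕ, ∃ u ∈ Subgroup.center X, x = u * c ^ i := by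
    intro x hx
    rw [hCdef, Subgroup.mem_comap] at hx
    obtain ⟨i, hi⟩ := (Submonoid.mem_powers_iff _ _).mp (mem_powers_iff_mem_zpowers.mpr hx)
    refine ⟨i, x * (c ^ i)⁻¹, ?_, by group⟩
    rw [← hπker, map_mul, map_inv, map_pow, hi, mul_inv_cancel]
  have hzc : (z : X) ∈ Subgroup.zpowers c := by
    by_contra hzn
    have he : c ^ (2 ^ (n - 1)) = 1 := by
      have h1 : c ^ (2 ^ (n - 1)) ∈ Subgroup.center X := by
        rw [← hπker, map_pow, ← hord, pow_orderOf_eq_one]
      rcases hZel _ h1 with h | h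
      · exact h
      · exfalso; apply hzn; rw [← h]; exact Subgroup.pow_mem _ (Subgroup.mem_zpowers c) _
    obtain ⟨w, hw⟩ : ∃ w, w = c ^ (2 ^ (n - 2)) := ⟨_, rfl⟩
    have hww : w * w = 1 := by
      rw [hw, ← pow_add, ← two_mul, ← pow_succ']
      have h1 : n - 2 + 1 = n - 1 := by omega
      rw [h1]; exact he
    have hw1 : w ≠ 1 := by
      intro h
      have h1 : (π c) ^ (2 ^ (n - 2)) = 1 := by rw [← map_pow, ← hw, h, map_one]
      have h2 := orderOf_dvd_of_pow_eq_one h1
      rw [hord] at h2
      have h3 := Nat.le_of_dvd (by positivity) h2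
      have h4 : 2 ^ (n - 2) < 2 ^ (n - 1) := Nat.pow_lt_pow_right (by norm_num) (by omega)
      omega
    have hwpow : ∀ i : ℕ, w ^ i = 1 ∨ w ^ i = w := by
      intro i
      rcases Nat.even_or_odd' i with ⟨j, hj | hj⟩
      · left; rw [hj, pow_mul, pow_two, hww, one_pow]
      · right; rw [hj, pow_succ, pow_mul, pow_two, hww, one_pow, one_mul]
    have hwc : w ∈ Subgroup.center X := by
      rw [Subgroup.mem_center_iff]
      intro g
      obtain ⟨i, u, hu, hgc⟩ := hK (g * c * g⁻¹) (hCn.conj_mem c hcC g)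
      have hupow : u ^ (2 ^ (n - 2)) = 1 := by
        rcases hZel u hu with h | h
        · rw [h, one_pow]
        · have h1 : 2 ^ (n - 2) = 2 * 2 ^ (n - 3) := by rw [← pow_succ']; congr 1; omega
          rw [h, h1, pow_mul, pow_two, hzz, one_pow]
      have hcomm : Commute u (c ^ i) := (Subgroup.mem_center_iff.mp hu (c ^ i)).symm
      have h1 : g * w * g⁻¹ = w ^ i := by
        rw [hw, ← conj_pow, hgc, hcomm.mul_pow, hupow, one_mul]
        exact pow_right_comm c i _
      rcases hwpow i with h | h
      · exfalso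
        rw [h] at h1
        apply hw1
        calc w = g⁻¹ * (g * w * g⁻¹) * g := by group
          _ = 1 := by rw [h1]; group
      · rw [h] at h1
        calc g * w = g * w * g⁻¹ * g := by group
          _ = w * g := by rw [h1]
    rcases hZel w hwc with h | h
    · exact hw1 h
    · apply hzn; rw [← h, hw]; exact Subgroup.pow_mem _ (Subgroup.mem_zpowers c) _
  have hCeq : Subgroup.zpowers c = C := by
    apply le_antisymm
    · rw [Subgroup.zpowers_le]; exact hcC
    · intro x hx
      obtain ⟨i, u, hu, rfl⟩ := hK x hx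
      apply Subgroup.mul_mem
      · rcases hZel u hu with h | h
        · rw [h]; exact Subgroup.one_mem _
        · rw [h]; exact hzc
      · exact Subgroup.pow_mem _ (Subgroup.mem_zpowers c) _
  rw [hCeq]; exact hCidx

/-- A 2-group of maximal class and order at least 8 has a cyclic subgroup of index 2. -/
theorem exists_cyclic_index_two : ∀ n : ℕ, 3 ≤ n → ∀ (X : Type u) [Group X] [Finite X],
    Nat.card X = 2 ^ n → Group.nilpotencyClass X = n - 1 →
    ∃ c : X, (Subgroup.zpowers c).index = 2 := by
  haveI : Fact (Nat.Prime 2) := ⟨Nat.prime_two⟩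
  intro n hn
  induction n, hn using Nat.le_induction with
  | base =>
    intro X _ _ hX hc
    obtain ⟨y, hy⟩ := exists_elem_order_four (by rw [hX]; norm_num)
      (noncomm_of_maxclass (p := 2) 3 le_rfl hX hc)
    refine ⟨y, ?_⟩
    have h1 := (Subgroup.zpowers y).card_mul_index
    rw [Nat.card_zpowers, hy, hX] at h1
    norm_num at h1
    omega
  | succ n hn ih =>
    intro X _ _ hX hc
    obtain ⟨hZ, hQ, hQc⟩ := maxclass_center (p := 2) (n + 1) (by omega) hX hc
    have e1 : n + 1 - 1 = n := by omega
    have e2 : n + 1 - 2 = n - 1 := by omega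
    rw [e1] at hQ
    rw [e2] at hQc
    obtain ⟨q, hq⟩ := ih (X ⧸ Subgroup.center X) hQ hQc
    obtain ⟨c, rfl⟩ := QuotientGroup.mk_surjective q
    exact ⟨c, maxclass_step n hn hZ hQ c hq⟩

end Cfsg.Agent.Helper8
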