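import Mathlib
import Cfsg.Agent.Helper8.MaxClass

/-!
# Groups with an abelian subgroup of index 2 (helper8)

* `mem_or_eq_mul`: if `C` has index 2 and `t ∉ C`, every element is in `C` or in `C * t`.
* `center_le_of_index_two`: in a noncommutative group, the centre lies in every abelian subgroup
  of index 2.
* `sq_mem_center`: squares of elements outside an abelian subgroup of index 2 are central.
* `card_two_elems`: the elements of a subgroup of order 2.
* `card_formula`: for an abelian subgroup `C` of index 2 containing the centre,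
  `commutator X ≤ C` and `|C| = |Z(X)| * |X'|`.
* `kleinFour_quot_iff`: `X ⧸ N` is a Klein four-group iff `N` has index 4 and contains all
  squares.
-/

set_option autoImplicit false

universe u

namespace Cfsg.Agent.Helper8

theorem mem_or_eq_mul {X : Type u} [Group X] (C : Subgroup X) (hC2 : C.index = 2) (t : X)
    (ht : t ∉ C) (g : X) : g ∈ C ∨ ∃ a ∈ C, g = a * t := by
  by_cases hg : g ∈ C
  · exact Or.inl hg
  · right
    refine ⟨g * t⁻¹, ?_, by group⟩
    rw [Subgroup.mul_mem_iff_of_index_two hC2]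
    constructor
    · intro h; exact absurd h hg
    · intro h; exact absurd (by simpa using C.inv_mem h) ht

theorem exists_not_mem_of_index_two {X : Type u} [Group X] (C : Subgroup X) (hC2 : C.index = 2) :
    ∃ t, t ∉ C := by
  by_contra hcon
  push Not at hcon
  have h1 : C = ⊤ := by rw [eq_top_iff]; intro x _; exact hcon x
  rw [← Subgroup.index_eq_one] at h1
  omega

theorem center_le_of_index_two {X : Type u} [Group X] (C : Subgroup X) (hC2 : C.index = 2)
    (hab : ∀ a ∈ C, ∀ b ∈ C, a * b = b * a) (hnc : ∃ a b : X, a * b ≠ b * a) :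
    Subgroup.center X ≤ C := by
  intro u hu
  by_contra huC
  obtain ⟨a, b, hne⟩ := hnc
  apply hne
  have hu' := Subgroup.mem_center_iff.mp hu
  rcases mem_or_eq_mul C hC2 u huC a with ha | ⟨a', ha', rfl⟩ <;>
  rcases mem_or_eq_mul C hC2 u huC b with hb | ⟨b', hb', rfl⟩
  · exact hab a ha b hb
  · calc a * (b' * u) = (a * b') * u := by group
      _ = (b' * a) * u := by rw [hab a ha b' hb']
      _ = b' * (a * u) := by group
      _ = b' * (u * a) := by rw [hu' a]
      _ = b' * u * a := by group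
  · calc a' * u * b = a' * (u * b) := by group
      _ = a' * (b * u) := by rw [← hu' b]
      _ = (a' * b) * u := by group
      _ = (b * a') * u := by rw [hab a' ha' b hb]
      _ = b * (a' * u) := by group
  · calc a' * u * (b' * u) = a' * (u * b') * u := by group
      _ = a' * (b' * u) * u := by rw [← hu' b']
      _ = (a' * b') * u * u := by group
      _ = (b' * a') * u * u := by rw [hab a' ha' b' hb']
      _ = b' * (a' * u) * u := by group
      _ = b' * (u * a') * u := by rw [hu' a']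
      _ = b' * u * (a' * u) := by group

theorem sq_mem_center {X : Type u} [Group X] (C : Subgroup X) (hC2 : C.index = 2)
    (hab : ∀ a ∈ C, ∀ b ∈ C, a * b = b * a) (s : X) (hs : s ∉ C) :
    s * s ∈ Subgroup.center X := by
  have hss : s * s ∈ C := (Subgroup.mul_mem_iff_of_index_two hC2).mpr Iff.rfl
  rw [Subgroup.mem_center_iff]
  intro g
  rcases mem_or_eq_mul C hC2 s hs g with hg | ⟨a, ha, rfl⟩
  · exact hab g hg _ hss
  · calc a * s * (s * s) = a * (s * s) * s := by group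
      _ = (s * s) * a * s := by rw [hab a ha _ hss]
      _ = s * s * (a * s) := by group

theorem card_two_elems {X : Type u} [Group X] (Z : Subgroup X) (hZ : Nat.card Z = 2) :
    ∃ z ∈ Z, z ≠ 1 ∧ z * z = 1 ∧ ∀ u ∈ Z, u = 1 ∨ u = z := by
  obtain ⟨z, hz1, hzu⟩ := (Nat.card_eq_two_iff' (1 : ↥Z)).mp hZ
  have hzX : (z : X) ≠ 1 := fun h => hz1 (Subtype.ext h)
  have hZel : ∀ u ∈ Z, u = 1 ∨ u = (z : X) := by
    intro u hu
    by_cases h : u = 1
    · exact Or.inl h
    · right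
      have h1 : (⟨u, hu⟩ : ↥Z) ≠ 1 := fun h' => h (congrArg Subtype.val h')
      exact congrArg Subtype.val (hzu _ h1)
  refine ⟨z, z.2, hzX, ?_, hZel⟩
  rcases hZel _ (Subgroup.mul_mem _ z.2 z.2) with h | h
  · exact h
  · exfalso; apply hzX
    calc (z : X) = ((z : X) * z) * (z : X)⁻¹ := by group
      _ = 1 := by rw [h]; group

/-- For an abelian subgroup `C` of index 2 containing the centre: `X' ≤ C` and
`|C| = |Z(X)| * |X'|`. -/
theorem card_formula {X : Type u} [Group X] [Finite X] (C : Subgroup X) (hC2 : C.index = 2)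
    (hab : ∀ a ∈ C, ∀ b ∈ C, a * b = b * a) (hZC : Subgroup.center X ≤ C) :
    commutator X ≤ C ∧ Nat.card C = Nat.card (Subgroup.center X) * Nat.card (commutator X) := by
  classical
  haveI hCn : C.Normal := Subgroup.normal_of_index_eq_two hC2
  obtain ⟨t, ht⟩ := exists_not_mem_of_index_two C hC2
  have hmem : ∀ a : ↥C, (a : X) * t * (a : X)⁻¹ * t⁻¹ ∈ C := by
    intro a
    have h1 : (a : X) * t * (a : X)⁻¹ * t⁻¹ = a * (t * (a : X)⁻¹ * t⁻¹) := by group
    rw [h1]
    exact C.mul_mem a.2 (hCn.conj_mem _ (C.inv_mem a.2) t)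
  have hmul : ∀ a b : ↥C,
      (⟨((a * b : ↥C) : X) * t * ((a * b : ↥C) : X)⁻¹ * t⁻¹, hmem (a * b)⟩ : ↥C) =
      ⟨(a : X) * t * (a : X)⁻¹ * t⁻¹, hmem a⟩ * ⟨(b : X) * t * (b : X)⁻¹ * t⁻¹, hmem b⟩ := by
    intro a b
    apply Subtype.ext
    show ((a : X) * b) * t * ((a : X) * b)⁻¹ * t⁻¹ =
      ((a : X) * t * (a : X)⁻¹ * t⁻¹) * ((b : X) * t * (b : X)⁻¹ * t⁻¹)
    have ha' : t * (a : X)⁻¹ * t⁻¹ ∈ C := hCn.conj_mem _ (C.inv_mem a.2) t
    have hb' : t * (b : X)⁻¹ * t⁻¹ ∈ C := hCn.conj_mem _ (C.inv_mem b.2) t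
    calc ((a : X) * b) * t * ((a : X) * b)⁻¹ * t⁻¹
        = (a : X) * (((b : X) * (t * (b : X)⁻¹ * t⁻¹)) * (t * (a : X)⁻¹ * t⁻¹)) := by group
      _ = (a : X) * ((t * (a : X)⁻¹ * t⁻¹) * ((b : X) * (t * (b : X)⁻¹ * t⁻¹))) := by
          rw [hab _ (C.mul_mem b.2 hb') _ ha']
      _ = ((a : X) * t * (a : X)⁻¹ * t⁻¹) * ((b : X) * t * (b : X)⁻¹ * t⁻¹) := by group
  obtain ⟨φ, hφ⟩ : ∃ φ : ↥C →* ↥C, ∀ a : ↥C, ((φ a : ↥C) : X) = (a : X) * t * (a : X)⁻¹ * t⁻¹ :=
    ⟨MonoidHom.mk' (fun a => ⟨(a : X) * t * (a : X)⁻¹ * t⁻¹, hmem a⟩) hmul, fun a => rfl⟩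
  -- kernel
  have hker : (φ.ker).map C.subtype = Subgroup.center X := by
    ext x
    constructor
    · rintro ⟨a, ha, rfl⟩
      have h1 : (a : X) * t * (a : X)⁻¹ * t⁻¹ = 1 := by
        rw [← hφ a, MonoidHom.mem_ker.mp ha]; rfl
      have hat : (a : X) * t = t * a := by
        calc (a : X) * t = ((a : X) * t * (a : X)⁻¹ * t⁻¹) * (t * a) := by group
          _ = t * a := by rw [h1, one_mul]
      show (a : X) ∈ Subgroup.center X
      rw [Subgroup.mem_center_iff]
      intro g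
      rcases mem_or_eq_mul C hC2 t ht g with hg | ⟨b, hb, rfl⟩
      · exact hab g hg a a.2
      · calc b * t * (a : X) = b * (t * a) := by group
          _ = b * ((a : X) * t) := by rw [hat]
          _ = (b * a) * t := by group
          _ = ((a : X) * b) * t := by rw [hab b hb a a.2]
          _ = a * (b * t) := by group
    · intro hx
      refine ⟨⟨x, hZC hx⟩, MonoidHom.mem_ker.mpr ?_, rfl⟩
      apply Subtype.ext
      rw [hφ]
      show x * t * x⁻¹ * t⁻¹ = 1
      have h1 := Subgroup.mem_center_iff.mp hx t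
      calc x * t * x⁻¹ * t⁻¹ = (t * x) * x⁻¹ * t⁻¹ := by rw [h1]
        _ = 1 := by group
  -- range
  have hrange : (φ.range).map C.subtype = commutator X := by
    have hD : ∀ a ∈ C, a * t * a⁻¹ * t⁻¹ ∈ (φ.range).map C.subtype := by
      intro a ha
      exact Subgroup.mem_map.mpr ⟨φ ⟨a, ha⟩, ⟨⟨a, ha⟩, rfl⟩, hφ ⟨a, ha⟩⟩
    apply le_antisymm
    · rintro x ⟨y, ⟨a, rfl⟩, rfl⟩
      show ((φ a : ↥C) : X) ∈ commutator X
      rw [hφ, commutator_def, ← commutatorElement_def]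
      exact Subgroup.commutator_mem_commutator (Subgroup.mem_top _) (Subgroup.mem_top _)
    · rw [commutator_def, Subgroup.commutator_le]
      intro g₁ _ g₂ _
      rw [commutatorElement_def]
      rcases mem_or_eq_mul C hC2 t ht g₁ with h1 | ⟨a, ha, rfl⟩ <;>
      rcases mem_or_eq_mul C hC2 t ht g₂ with h2 | ⟨b, hb, rfl⟩
      · have h3 : g₁ * g₂ * g₁⁻¹ * g₂⁻¹ = 1 := by
          rw [hab g₁ h1 g₂ h2]; group
        rw [h3]; exact Subgroup.one_mem _
      · have ha' : t * g₁⁻¹ * t⁻¹ ∈ C := hCn.conj_mem _ (C.inv_mem h1) t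
        have h3 : g₁ * (b * t) * g₁⁻¹ * (b * t)⁻¹ = g₁ * t * g₁⁻¹ * t⁻¹ := by
          calc g₁ * (b * t) * g₁⁻¹ * (b * t)⁻¹ = g₁ * (b * (t * g₁⁻¹ * t⁻¹)) * b⁻¹ := by group
            _ = g₁ * ((t * g₁⁻¹ * t⁻¹) * b) * b⁻¹ := by rw [hab b hb _ ha']
            _ = g₁ * t * g₁⁻¹ * t⁻¹ := by group
        rw [h3]; exact hD g₁ h1
      · have hb' : t * g₂ * t⁻¹ ∈ C := hCn.conj_mem _ h2 t
        have h3 : (a * t) * g₂ * (a * t)⁻¹ * g₂⁻¹ = g₂⁻¹ * t * g₂⁻¹⁻¹ * t⁻¹ := by
          calc (a * t) * g₂ * (a * t)⁻¹ * g₂⁻¹ = (a * (t * g₂ * t⁻¹)) * a⁻¹ * g₂⁻¹ := by group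
            _ = ((t * g₂ * t⁻¹) * a) * a⁻¹ * g₂⁻¹ := by rw [hab a ha _ hb']
            _ = (t * g₂ * t⁻¹) * g₂⁻¹ := by group
            _ = g₂⁻¹ * (t * g₂ * t⁻¹) := by rw [hab _ hb' _ (C.inv_mem h2)]
            _ = g₂⁻¹ * t * g₂⁻¹⁻¹ * t⁻¹ := by group
        rw [h3]; exact hD _ (C.inv_mem h2)
      · have he : t * (b * a⁻¹) * t⁻¹ ∈ C := hCn.conj_mem _ (C.mul_mem hb (C.inv_mem ha)) t
        have h3 : (a * t) * (b * t) * (a * t)⁻¹ * (b * t)⁻¹ =
            (a * b⁻¹) * t * (a * b⁻¹)⁻¹ * t⁻¹ := by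
          calc (a * t) * (b * t) * (a * t)⁻¹ * (b * t)⁻¹
              = a * ((t * (b * a⁻¹) * t⁻¹) * b⁻¹) := by group
            _ = a * (b⁻¹ * (t * (b * a⁻¹) * t⁻¹)) := by rw [hab _ he _ (C.inv_mem hb)]
            _ = (a * b⁻¹) * t * (a * b⁻¹)⁻¹ * t⁻¹ := by group
        rw [h3]; exact hD _ (C.mul_mem ha (C.inv_mem hb))
  constructor
  · rw [← hrange]
    rintro x ⟨y, -, rfl⟩
    exact y.2
  · have h1 := Subgroup.card_eq_card_quotient_mul_card_subgroup φ.ker
    rw [Nat.card_congr (QuotientGroup.quotientKerEquivRange φ).toEquiv] at h1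
    rw [← hker, ← hrange, Subgroup.card_map_of_injective C.subtype_injective,
      Subgroup.card_map_of_injective C.subtype_injective, h1, mul_comm]

theorem kleinFour_quot_iff {Y : Type u} [Group Y] [Finite Y] (N : Subgroup Y) [N.Normal] :
    IsKleinFour (Y ⧸ N) ↔ N.index = 4 ∧ ∀ y : Y, y * y ∈ N := by
  constructor
  · intro h
    refine ⟨by rw [Subgroup.index_eq_card]; exact h.card_four, ?_⟩
    intro y
    have h1 := Monoid.pow_exponent_eq_one (QuotientGroup.mk y : Y ⧸ N)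
    rw [h.exponent_two, pow_two, ← QuotientGroup.mk_mul, QuotientGroup.eq_one_iff] at h1
    exact h1
  · rintro ⟨h4, hsq⟩
    have hcard : Nat.card (Y ⧸ N) = 4 := by rw [← Subgroup.index_eq_card]; exact h4
    haveI : Nontrivial (Y ⧸ N) := by
      rw [← Finite.one_lt_card_iff_nontrivial, hcard]; norm_num
    haveI : Fact (Nat.Prime 2) := ⟨Nat.prime_two⟩
    refine ⟨hcard, ?_⟩
    rw [Monoid.exponent_eq_prime_iff Nat.prime_two]
    intro g hg
    obtain ⟨y, rfl⟩ := QuotientGroup.mk_surjective g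
    apply orderOf_eq_prime _ hg
    rw [pow_two, ← QuotientGroup.mk_mul, QuotientGroup.eq_one_iff]
    exact hsq y

end Cfsg.Agent.Helper8
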