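import Mathlib
import Cfsg.Prelude.Def_Transfer
import Cfsg.Agent.Helper15.Quat
import Cfsg.Agent.Helper8.Metacyclic3
import Cfsg.Agent.S1236

set_option autoImplicit false
open Cfsg

/-! # Finite `p`-groups in which subgroups of equal order are isomorphic -/

namespace Cfsg.Agent.Helper8.SameOrd

/-- Subgroups of equal order are isomorphic. -/
def Iso (Q : Type*) [Group Q] : Prop :=
  ∀ H K : Subgroup Q, Nat.card H = Nat.card K → Nonempty (H ≃* K)

theorem Iso.equiv {Q R : Type*} [Group Q] [Group R] (h : Iso Q) (e : Q ≃* R) : Iso R := by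
  intro H K hHK
  let eH := H.equivMapOfInjective e.symm.toMonoidHom e.symm.injective
  let eK := K.equivMapOfInjective e.symm.toMonoidHom e.symm.injective
  have h1 : Nat.card (H.map e.symm.toMonoidHom) = Nat.card (K.map e.symm.toMonoidHom) := by
    rw [← Nat.card_congr eH.toEquiv, ← Nat.card_congr eK.toEquiv, hHK]
  obtain ⟨f⟩ := h _ _ h1
  exact ⟨eH.trans (f.trans eK.symm)⟩

theorem card_sup_eq' {G : Type*} [Group G] [Finite G] (H K : Subgroup G) [K.Normal]
    (h : H ⊓ K = ⊥) : Nat.card ↥(H ⊔ K) = Nat.card H * Nat.card K := by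
  have h1 : Nat.card ↥(K.subgroupOf (H ⊔ K)) * (K.subgroupOf (H ⊔ K)).index = Nat.card ↥(H ⊔ K) :=
    Subgroup.card_mul_index _
  have h2 : Nat.card ↥(K.subgroupOf (H ⊔ K)) = Nat.card K :=
    Nat.card_congr (Subgroup.subgroupOfEquivOfLe le_sup_right).toEquiv
  have h3 : (K.subgroupOf (H ⊔ K)).index = K.relIndex H := Subgroup.relIndex_sup_right H K
  have h4 : K.relIndex H = Nat.card H := by
    have h5 : K.subgroupOf H = ⊥ := by
      rw [Subgroup.subgroupOf_eq_bot, disjoint_iff, inf_comm]; exact h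
    show (K.subgroupOf H).index = Nat.card H
    rw [h5, Subgroup.index_bot]
  rw [← h1, h2, h3, h4, mul_comm]

/-! ### Quaternion groups of order at least 16 -/

/-- The map `QuaternionGroup N → ℤ/2` killing the cyclic part. -/
def quatF1 (N : ℕ) : QuaternionGroup N → Multiplicative (ZMod 2)
  | QuaternionGroup.a _ => Multiplicative.ofAdd 0
  | QuaternionGroup.xa _ => Multiplicative.ofAdd 1

/-- The map `QuaternionGroup N → ℤ/2` reading the index mod 2. -/
def quatF2 (N : ℕ) : QuaternionGroup N → Multiplicative (ZMod 2)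
  | QuaternionGroup.a i => Multiplicative.ofAdd (ZMod.castHom (Dvd.intro N rfl : 2 ∣ 2 * N) (ZMod 2) i)
  | QuaternionGroup.xa i => Multiplicative.ofAdd (ZMod.castHom (Dvd.intro N rfl : 2 ∣ 2 * N) (ZMod 2) i)

theorem quatF1_mul (N : ℕ) (g h : QuaternionGroup N) :
    quatF1 N (g * h) = quatF1 N g * quatF1 N h := by
  rcases g with i | i <;> rcases h with j | j
  · show Multiplicative.ofAdd (0 : ZMod 2) = Multiplicative.ofAdd 0 * Multiplicative.ofAdd 0
    decide
  · show Multiplicative.ofAdd (1 : ZMod 2) = Multiplicative.ofAdd 0 * Multiplicative.ofAdd 1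
    decide
  · show Multiplicative.ofAdd (1 : ZMod 2) = Multiplicative.ofAdd 1 * Multiplicative.ofAdd 0
    decide
  · show Multiplicative.ofAdd (0 : ZMod 2) = Multiplicative.ofAdd 1 * Multiplicative.ofAdd 1
    decide

theorem quatF2_mul (N : ℕ) (hN : 2 ∣ N) (g h : QuaternionGroup N) :
    quatF2 N (g * h) = quatF2 N g * quatF2 N h := by
  have hN0 : ((N : ℕ) : ZMod 2) = 0 := (ZMod.natCast_eq_zero_iff N 2).mpr hN
  rcases g with i | i <;> rcases h with j | j
  · show Multiplicative.ofAdd (ZMod.castHom _ (ZMod 2) (i + j)) =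
      Multiplicative.ofAdd (ZMod.castHom _ (ZMod 2) i) * Multiplicative.ofAdd (ZMod.castHom _ (ZMod 2) j)
    rw [map_add]; rfl
  · show Multiplicative.ofAdd (ZMod.castHom _ (ZMod 2) (j - i)) =
      Multiplicative.ofAdd (ZMod.castHom _ (ZMod 2) i) * Multiplicative.ofAdd (ZMod.castHom _ (ZMod 2) j)
    rw [map_sub, CharTwo.sub_eq_add, add_comm]; rfl
  · show Multiplicative.ofAdd (ZMod.castHom _ (ZMod 2) (i + j)) =
      Multiplicative.ofAdd (ZMod.castHom _ (ZMod 2) i) * Multiplicative.ofAdd (ZMod.castHom _ (ZMod 2) j)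
    rw [map_add]; rfl
  · show Multiplicative.ofAdd (ZMod.castHom _ (ZMod 2) ((N : ZMod (2 * N)) + j - i)) =
      Multiplicative.ofAdd (ZMod.castHom _ (ZMod 2) i) * Multiplicative.ofAdd (ZMod.castHom _ (ZMod 2) j)
    rw [map_sub, map_add, map_natCast, hN0, zero_add, CharTwo.sub_eq_add, add_comm]; rfl

/-- `quatF1` as a homomorphism. -/
def quatH1 (N : ℕ) : QuaternionGroup N →* Multiplicative (ZMod 2) :=
  MonoidHom.mk' (quatF1 N) (quatF1_mul N)

/-- `quatF2` as a homomorphism. -/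
def quatH2 (N : ℕ) (hN : 2 ∣ N) : QuaternionGroup N →* Multiplicative (ZMod 2) :=
  MonoidHom.mk' (quatF2 N) (quatF2_mul N hN)

theorem card_ker_of_surj {R : Type*} [Group R] (f : R →* Multiplicative (ZMod 2))
    (hf : Function.Surjective f) : Nat.card f.ker * 2 = Nat.card R := by
  have h1 := Subgroup.card_mul_index f.ker
  rw [Subgroup.index_ker, MonoidHom.range_eq_top.mpr hf, Subgroup.card_top] at h1
  have h2 : Nat.card (Multiplicative (ZMod 2)) = 2 := by
    show Nat.card (ZMod 2) = 2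
    exact Nat.card_zmod 2
  rw [h2] at h1; exact h1

theorem mult_zmod2_cases (y : Multiplicative (ZMod 2)) :
    y = Multiplicative.ofAdd 0 ∨ y = Multiplicative.ofAdd 1 := by
  revert y; decide

theorem quat_not_iso (N : ℕ) (hN2 : 2 ∣ N) (hN4 : 4 ≤ N) : ¬ Iso (QuaternionGroup N) := by
  intro hiso
  have hs1 : Function.Surjective (quatH1 N) := by
    intro y
    rcases mult_zmod2_cases y with rfl | rfl
    · exact ⟨QuaternionGroup.a 0, rfl⟩
    · exact ⟨QuaternionGroup.xa 0, rfl⟩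
  have hs2 : Function.Surjective (quatH2 N hN2) := by
    intro y
    rcases mult_zmod2_cases y with rfl | rfl
    · refine ⟨QuaternionGroup.a 0, ?_⟩
      show Multiplicative.ofAdd (ZMod.castHom _ (ZMod 2) (0 : ZMod (2 * N))) = _
      rw [map_zero]
    · refine ⟨QuaternionGroup.a 1, ?_⟩
      show Multiplicative.ofAdd (ZMod.castHom _ (ZMod 2) (1 : ZMod (2 * N))) = _
      rw [map_one]
  have hc : Nat.card (quatH1 N).ker = Nat.card (quatH2 N hN2).ker := by
    have h1 := card_ker_of_surj _ hs1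
    have h2 := card_ker_of_surj _ hs2
    omega
  obtain ⟨e⟩ := hiso _ _ hc
  have hcomm1 : ∀ u v : (quatH1 N).ker, u * v = v * u := by
    rintro ⟨u, hu⟩ ⟨v, hv⟩
    apply Subtype.ext
    show u * v = v * u
    rw [MonoidHom.mem_ker] at hu hv
    rcases u with i | i
    · rcases v with j | j
      · show QuaternionGroup.a (i + j) = QuaternionGroup.a (j + i)
        rw [add_comm]
      · exfalso
        revert hv
        show ¬ (Multiplicative.ofAdd (1 : ZMod 2) = 1)
        decide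
    · exfalso
      revert hu
      show ¬ (Multiplicative.ofAdd (1 : ZMod 2) = 1)
      decide
  have hcomm2 : ∀ u v : (quatH2 N hN2).ker, u * v = v * u := by
    intro u v
    have h1 := hcomm1 (e.symm u) (e.symm v)
    have h2 := congrArg e h1
    simpa using h2
  have ha : QuaternionGroup.a (2 : ZMod (2 * N)) ∈ (quatH2 N hN2).ker := by
    rw [MonoidHom.mem_ker]
    show Multiplicative.ofAdd (ZMod.castHom _ (ZMod 2) (2 : ZMod (2 * N))) = 1
    rw [map_ofNat]
    decide
  have hx : QuaternionGroup.xa (0 : ZMod (2 * N)) ∈ (quatH2 N hN2).ker := by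
    rw [MonoidHom.mem_ker]
    show Multiplicative.ofAdd (ZMod.castHom _ (ZMod 2) (0 : ZMod (2 * N))) = 1
    rw [map_zero]; rfl
  have h3 := congrArg Subtype.val (hcomm2 ⟨_, ha⟩ ⟨_, hx⟩)
  have h4 : QuaternionGroup.xa ((0 : ZMod (2 * N)) - 2) =
      QuaternionGroup.xa ((0 : ZMod (2 * N)) + 2) := h3
  have h5 : (0 : ZMod (2 * N)) - 2 = 0 + 2 := QuaternionGroup.xa.inj h4
  have h6 : ((4 : ℕ) : ZMod (2 * N)) = 0 := by
    have h7 : (4 : ZMod (2 * N)) = 0 := by linear_combination (-1 : ZMod (2 * N)) * h5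
    exact_mod_cast h7
  rw [ZMod.natCast_eq_zero_iff] at h6
  have h8 := Nat.le_of_dvd (by norm_num) h6
  omega

/-! ### Generation bounds -/

section
variable {Q : Type*} [Group Q] [Finite Q] {p : ℕ} [Fact p.Prime]

theorem comm_of_card_le {H : Type*} [Group H] [Finite H] {e : ℕ} (hcard : Nat.card H = p ^ e)
    (he : e ≤ 2) : ∀ a b : H, a * b = b * a := by
  interval_cases e
  · have h1 : Nat.card H = 1 := by simpa using hcard
    haveI : Subsingleton H := (Nat.card_eq_one_iff_unique.mp h1).1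
    intro a b; rw [Subsingleton.elim a b]
  · have h1 : Nat.card H = p := by simpa using hcard
    haveI := isCyclic_of_prime_card (p := p) h1
    intro a b
    obtain ⟨g, hg⟩ := IsCyclic.exists_generator (α := H)
    exact Cfsg.Agent.S1236.zp_comm g a b (hg a) (hg b)
  · exact IsPGroup.commutative_of_card_eq_prime_sq hcard

theorem card_closure_le {a b c : Q} (m : ℕ) (ha : a ^ p = 1) (hb : b ^ p = 1) (hc : c ^ p = 1)
    (hca : c * a = a * c) (hcb : c * b = b * c) (hba : b * a = a * b * c ^ m) :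
    Nat.card (Subgroup.closure ({a, b, c} : Set Q)) ≤ p ^ 3 := by
  have hpp : p.Prime := Fact.out
  have hCa : Commute c a := hca
  have hCb : Commute c b := hcb
  have hbai : ∀ i : ℕ, b * a ^ i = a ^ i * b * c ^ (m * i) := by
    intro i
    induction i with
    | zero => simp
    | succ i ih =>
      have hcc : c ^ (m * i) * a = a * c ^ (m * i) := (hCa.pow_left (m * i)).eq
      have e1 : c ^ (m * (i + 1)) = c ^ m * c ^ (m * i) := by
        rw [← pow_add]; congr 1; ring
      calc b * a ^ (i + 1) = (b * a ^ i) * a := by rw [pow_succ, mul_assoc]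
        _ = a ^ i * b * c ^ (m * i) * a := by rw [ih]
        _ = a ^ i * b * (c ^ (m * i) * a) := by rw [mul_assoc]
        _ = a ^ i * b * (a * c ^ (m * i)) := by rw [hcc]
        _ = a ^ i * (b * a) * c ^ (m * i) := by simp only [mul_assoc]
        _ = a ^ i * (a * b * c ^ m) * c ^ (m * i) := by rw [hba]
        _ = a ^ (i + 1) * b * c ^ (m * (i + 1)) := by
          rw [e1, pow_succ]; simp only [mul_assoc]
  have hPa : ∀ g : Q, (∃ i j k : ℕ, g = a ^ i * b ^ j * c ^ k) →
      ∃ i j k : ℕ, a * g = a ^ i * b ^ j * c ^ k := by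
    rintro g ⟨i, j, k, rfl⟩
    exact ⟨i + 1, j, k, by rw [pow_succ']; simp only [mul_assoc]⟩
  have hPb : ∀ g : Q, (∃ i j k : ℕ, g = a ^ i * b ^ j * c ^ k) →
      ∃ i j k : ℕ, b * g = a ^ i * b ^ j * c ^ k := by
    rintro g ⟨i, j, k, rfl⟩
    refine ⟨i, j + 1, m * i + k, ?_⟩
    have hcbpow : c ^ (m * i) * b ^ j = b ^ j * c ^ (m * i) := (hCb.pow_pow (m * i) j).eq
    calc b * (a ^ i * b ^ j * c ^ k) = (b * a ^ i) * b ^ j * c ^ k := by simp only [mul_assoc]
      _ = a ^ i * b * c ^ (m * i) * b ^ j * c ^ k := by rw [hbai]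
      _ = a ^ i * b * (c ^ (m * i) * b ^ j) * c ^ k := by simp only [mul_assoc]
      _ = a ^ i * b * (b ^ j * c ^ (m * i)) * c ^ k := by rw [hcbpow]
      _ = a ^ i * b ^ (j + 1) * c ^ (m * i + k) := by
        rw [pow_succ', pow_add]; simp only [mul_assoc]
  have hPc : ∀ g : Q, (∃ i j k : ℕ, g = a ^ i * b ^ j * c ^ k) →
      ∃ i j k : ℕ, c * g = a ^ i * b ^ j * c ^ k := by
    rintro g ⟨i, j, k, rfl⟩
    refine ⟨i, j, k + 1, ?_⟩
    have hcai : c * a ^ i = a ^ i * c := (hCa.pow_right i).eq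
    have hcbj : c * b ^ j = b ^ j * c := (hCb.pow_right j).eq
    calc c * (a ^ i * b ^ j * c ^ k) = (c * a ^ i) * b ^ j * c ^ k := by simp only [mul_assoc]
      _ = a ^ i * (c * b ^ j) * c ^ k := by rw [hcai]; simp only [mul_assoc]
      _ = a ^ i * b ^ j * (c * c ^ k) := by rw [hcbj]; simp only [mul_assoc]
      _ = a ^ i * b ^ j * c ^ (k + 1) := by rw [pow_succ']
  have hpow : ∀ x : Q, (∀ g : Q, (∃ i j k : ℕ, g = a ^ i * b ^ j * c ^ k) →
      ∃ i j k : ℕ, x * g = a ^ i * b ^ j * c ^ k) → ∀ n : ℕ, ∀ g : Q,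
      (∃ i j k : ℕ, g = a ^ i * b ^ j * c ^ k) → ∃ i j k : ℕ, x ^ n * g = a ^ i * b ^ j * c ^ k := by
    intro x hx n
    induction n with
    | zero => intro g hg; simpa using hg
    | succ n ih =>
      intro g hg
      rw [pow_succ', mul_assoc]
      exact hx _ (ih g hg)
  have hinv : ∀ x : Q, x ^ p = 1 → (∀ g : Q, (∃ i j k : ℕ, g = a ^ i * b ^ j * c ^ k) →
      ∃ i j k : ℕ, x * g = a ^ i * b ^ j * c ^ k) → ∀ g : Q,
      (∃ i j k : ℕ, g = a ^ i * b ^ j * c ^ k) → ∃ i j k : ℕ, x⁻¹ * g = a ^ i * b ^ j * c ^ k := by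
    intro x hxp hx g hg
    have h1 : x ^ (p - 1) = x⁻¹ := by
      have h2 : x ^ (p - 1) * x = 1 := by
        rw [← pow_succ, Nat.sub_add_cancel hpp.one_le, hxp]
      exact eq_inv_of_mul_eq_one_left h2
    rw [← h1]; exact hpow x hx _ g hg
  have hall : ∀ g ∈ Subgroup.closure ({a, b, c} : Set Q), ∃ i j k : ℕ, g = a ^ i * b ^ j * c ^ k := by
    intro g hg
    induction hg using Subgroup.closure_induction_left with
    | one => exact ⟨0, 0, 0, by simp⟩
    | mul_left x hx y hy ih =>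
      simp only [Set.mem_insert_iff, Set.mem_singleton_iff] at hx
      rcases hx with h | h | h
      · rw [h]; exact hPa y ih
      · rw [h]; exact hPb y ih
      · rw [h]; exact hPc y ih
    | inv_mul_cancel x hx y hy ih =>
      simp only [Set.mem_insert_iff, Set.mem_singleton_iff] at hx
      rcases hx with h | h | h
      · rw [h]; exact hinv a ha hPa y ih
      · rw [h]; exact hinv b hb hPb y ih
      · rw [h]; exact hinv c hc hPc y ih
  let f : Fin p × Fin p × Fin p → ↥(Subgroup.closure ({a, b, c} : Set Q)) := fun t =>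
    ⟨a ^ (t.1 : ℕ) * b ^ (t.2.1 : ℕ) * c ^ (t.2.2 : ℕ),
      mul_mem (mul_mem (pow_mem (Subgroup.subset_closure (by simp)) _)
        (pow_mem (Subgroup.subset_closure (by simp)) _))
        (pow_mem (Subgroup.subset_closure (by simp)) _)⟩
  have hf : Function.Surjective f := by
    rintro ⟨g, hg⟩
    obtain ⟨i, j, k, rfl⟩ := hall g hg
    refine ⟨(⟨i % p, Nat.mod_lt _ hpp.pos⟩, ⟨j % p, Nat.mod_lt _ hpp.pos⟩,
      ⟨k % p, Nat.mod_lt _ hpp.pos⟩), ?_⟩
    apply Subtype.ext
    show a ^ (i % p) * b ^ (j % p) * c ^ (k % p) = a ^ i * b ^ j * c ^ k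
    rw [← pow_eq_pow_mod i ha, ← pow_eq_pow_mod j hb, ← pow_eq_pow_mod k hc]
  have h1 := Nat.card_le_card_of_surjective f hf
  rw [Nat.card_prod, Nat.card_prod, Nat.card_fin] at h1
  calc Nat.card (Subgroup.closure ({a, b, c} : Set Q)) ≤ p * (p * p) := h1
    _ = p ^ 3 := by ring

theorem exists_nonab_p3 (hQ : IsPGroup p Q) (hexp : ∀ x : Q, x ^ p = 1)
    (hna : ¬ ∀ a b : Q, a * b = b * a) :
    ∃ H : Subgroup Q, Nat.card H = p ^ 3 ∧ ¬ ∀ a b : H, a * b = b * a := by
  have hpp : p.Prime := Fact.out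
  haveI : Nontrivial (Q ⧸ Subgroup.center Q) := by
    by_contra hcon
    rw [not_nontrivial_iff_subsingleton] at hcon
    apply hna
    intro a b
    have h1 : a ∈ Subgroup.center Q := by
      rw [← QuotientGroup.eq_one_iff]; exact Subsingleton.elim _ _
    exact (Subgroup.mem_center_iff.mp h1 b).symm
  haveI := (hQ.to_quotient (Subgroup.center Q)).center_nontrivial
  obtain ⟨w, hw⟩ := exists_ne (1 : ↥(Subgroup.center (Q ⧸ Subgroup.center Q)))
  obtain ⟨z, hz⟩ := QuotientGroup.mk_surjective (w : Q ⧸ Subgroup.center Q)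
  have hzZ : z ∉ Subgroup.center Q := by
    intro h
    apply hw
    apply Subtype.ext
    rw [← hz]
    exact (QuotientGroup.eq_one_iff z).mpr h
  have hcomm : ∀ g : Q, z * g * z⁻¹ * g⁻¹ ∈ Subgroup.center Q := by
    intro g
    rw [← QuotientGroup.eq_one_iff]
    have h1 := Subgroup.mem_center_iff.mp w.2 (g : Q ⧸ Subgroup.center Q)
    rw [← hz] at h1
    rw [QuotientGroup.mk_mul, QuotientGroup.mk_mul, QuotientGroup.mk_mul, QuotientGroup.mk_inv,
      QuotientGroup.mk_inv, ← h1]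
    group
  obtain ⟨y, hy⟩ : ∃ y : Q, z * y ≠ y * z := by
    by_contra hcon
    apply hzZ
    rw [Subgroup.mem_center_iff]
    intro g
    by_contra h2
    exact hcon ⟨g, fun h3 => h2 h3.symm⟩
  obtain ⟨c, hc⟩ : ∃ c : Q, c = z * y * z⁻¹ * y⁻¹ := ⟨_, rfl⟩
  have hcZ : c ∈ Subgroup.center Q := hc ▸ hcomm y
  have hcc : ∀ g : Q, g * c = c * g := Subgroup.mem_center_iff.mp hcZ
  have hcinv : c ^ (p - 1) = c⁻¹ := by
    have h2 : c ^ (p - 1) * c = 1 := by
      rw [← pow_succ, Nat.sub_add_cancel hpp.one_le]; exact hexp c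
    exact eq_inv_of_mul_eq_one_left h2
  have hba : y * z = z * y * c ^ (p - 1) := by
    have h1 : c * (y * z) = z * y := by rw [hc]; group
    have h2 : y * z = c⁻¹ * (z * y) := by rw [← h1, inv_mul_cancel_left]
    rw [hcinv, h2]
    exact (Subgroup.mem_center_iff.mp (inv_mem hcZ) (z * y)).symm
  have hle := card_closure_le (p := p) (a := z) (b := y) (c := c) (p - 1) (hexp z) (hexp y)
    (hexp c) (hcc z).symm (hcc y).symm hba
  refine ⟨Subgroup.closure ({z, y, c} : Set Q), ?_, ?_⟩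
  · obtain ⟨e, he⟩ := IsPGroup.iff_card.mp (hQ.to_subgroup (Subgroup.closure ({z, y, c} : Set Q)))
    rw [he] at hle ⊢
    have he3 : e ≤ 3 := (Nat.pow_le_pow_iff_right hpp.one_lt).mp hle
    have he3' : ¬ e ≤ 2 := by
      intro h2
      have h3 := comm_of_card_le (p := p) he h2
        ⟨z, Subgroup.subset_closure (by simp)⟩ ⟨y, Subgroup.subset_closure (by simp)⟩
      exact hy (congrArg Subtype.val h3)
    congr 1; omega
  · intro hcon
    have h3 := hcon ⟨z, Subgroup.subset_closure (by simp)⟩ ⟨y, Subgroup.subset_closure (by simp)⟩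
    exact hy (congrArg Subtype.val h3)

theorem sub_p3 {Γ : Type*} [Group Γ] [Finite Γ] (D : Subgroup Γ)
    (hab : ∀ u ∈ D, ∀ v ∈ D, u * v = v * u) (hd : p ^ 3 ∣ Nat.card D) :
    ∃ B : Subgroup Γ, Nat.card B = p ^ 3 ∧ ∀ a b : B, a * b = b * a := by
  obtain ⟨B₀, hB₀⟩ := Sylow.exists_subgroup_card_pow_prime p hd
  refine ⟨B₀.map D.subtype, ?_, ?_⟩
  · rw [Subgroup.card_map_of_injective D.subtype_injective]; exact hB₀
  · rintro ⟨a, ha⟩ ⟨b, hb⟩
    apply Subtype.ext
    have ha' : a ∈ D := Subgroup.map_subtype_le B₀ ha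
    have hb' : b ∈ D := Subgroup.map_subtype_le B₀ hb
    exact hab a ha' b hb'

theorem exists_ab_of_center {Γ : Type*} [Group Γ] [Finite Γ] (hΓ : IsPGroup p Γ) {c : ℕ}
    (hc : 3 ≤ c) (hcard : Nat.card Γ = p ^ c) {z₁ z₂ : Γ} (hz₁ : z₁ ∈ Subgroup.center Γ)
    (hz₂ : z₂ ∈ Subgroup.center Γ) (ho : orderOf z₁ = p) (hz₂n : z₂ ∉ Subgroup.zpowers z₁) :
    ∃ B : Subgroup Γ, Nat.card B = p ^ 3 ∧ ∀ a b : B, a * b = b * a := by
  have hpp : p.Prime := Fact.out
  obtain ⟨k, hk⟩ := IsPGroup.iff_card.mp (hΓ.to_subgroup (Subgroup.center Γ))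
  have hk2 : 2 ≤ k := by
    by_contra hcon
    have h1 : Subgroup.zpowers z₁ ≤ Subgroup.center Γ := Subgroup.zpowers_le.mpr hz₁
    have h2 : Nat.card (Subgroup.center Γ) ≤ Nat.card (Subgroup.zpowers z₁) := by
      rw [Nat.card_zpowers, ho, hk]
      calc p ^ k ≤ p ^ 1 := Nat.pow_le_pow_right hpp.pos (by omega)
        _ = p := pow_one p
    have h3 := Subgroup.eq_of_le_of_card_ge h1 h2
    exact hz₂n (h3 ▸ hz₂)
  by_cases hk3 : 3 ≤ k
  · refine sub_p3 (Subgroup.center Γ) (fun u hu v _ => (Subgroup.mem_center_iff.mp hu v).symm) ?_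
    rw [hk]; exact pow_dvd_pow p hk3
  · have hk' : k = 2 := by omega
    obtain ⟨x, hx⟩ : ∃ x : Γ, x ∉ Subgroup.center Γ := by
      by_contra hcon
      have h1 : Subgroup.center Γ = ⊤ := by
        rw [eq_top_iff]; intro g _
        by_contra h2; exact hcon ⟨g, h2⟩
      have h2 : Nat.card (Subgroup.center Γ) = Nat.card Γ := by rw [h1, Subgroup.card_top]
      rw [hk, hcard, hk'] at h2
      have h3 := Nat.pow_right_injective hpp.two_le h2
      omega
    have hDab : ∀ u ∈ Subgroup.center Γ ⊔ Subgroup.zpowers x,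
        ∀ v ∈ Subgroup.center Γ ⊔ Subgroup.zpowers x, u * v = v * u := by
      intro u hu v hv
      have hu' : u ∈ ((Subgroup.center Γ ⊔ Subgroup.zpowers x : Subgroup Γ) : Set Γ) := hu
      have hv' : v ∈ ((Subgroup.center Γ ⊔ Subgroup.zpowers x : Subgroup Γ) : Set Γ) := hv
      rw [Subgroup.normal_mul] at hu' hv'
      obtain ⟨a, ha, s, hs, rfl⟩ := Set.mem_mul.mp hu'
      obtain ⟨b, hb, t, ht, rfl⟩ := Set.mem_mul.mp hv'
      have h1 : s * t = t * s := Cfsg.Agent.S1236.zp_comm x s t hs ht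
      have ha' := Subgroup.mem_center_iff.mp ha
      have hb' := Subgroup.mem_center_iff.mp hb
      calc a * s * (b * t) = a * (s * b) * t := by group
        _ = a * (b * s) * t := by rw [hb' s]
        _ = (a * b) * (s * t) := by group
        _ = (b * a) * (t * s) := by rw [← ha' b, h1]
        _ = b * (a * t) * s := by group
        _ = b * (t * a) * s := by rw [← ha' t]
        _ = b * t * (a * s) := by group
    obtain ⟨d, hd⟩ := IsPGroup.iff_card.mp
      (hΓ.to_subgroup (Subgroup.center Γ ⊔ Subgroup.zpowers x))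
    have hd3 : 3 ≤ d := by
      by_contra hcon
      have h1 : Subgroup.center Γ ≤ Subgroup.center Γ ⊔ Subgroup.zpowers x := le_sup_left
      have h2 : Nat.card ↥(Subgroup.center Γ ⊔ Subgroup.zpowers x) ≤
          Nat.card (Subgroup.center Γ) := by
        rw [hd, hk, hk']
        exact Nat.pow_le_pow_right hpp.pos (by omega)
      have h3 := Subgroup.eq_of_le_of_card_ge h1 h2
      apply hx
      rw [h3]
      exact Subgroup.mem_sup_right (Subgroup.mem_zpowers x)
    refine sub_p3 _ hDab ?_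
    rw [hd]; exact pow_dvd_pow p hd3

theorem exists_ab_p3 (hQ : IsPGroup p Q) (hexp : ∀ x : Q, x ^ p = 1) {n : ℕ} (hn : 4 ≤ n)
    (hcard : Nat.card Q = p ^ n) :
    ∃ B : Subgroup Q, Nat.card B = p ^ 3 ∧ ∀ a b : B, a * b = b * a := by
  have hpp : p.Prime := Fact.out
  haveI : Nontrivial Q := by
    rw [← Finite.one_lt_card_iff_nontrivial, hcard]
    exact Nat.one_lt_pow (by omega) hpp.one_lt
  haveI := hQ.center_nontrivial
  obtain ⟨⟨z₁, hz₁⟩, hz₁ne⟩ := exists_ne (1 : ↥(Subgroup.center Q))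
  have hz₁1 : z₁ ≠ 1 := fun h => hz₁ne (Subtype.ext h)
  have ho₁ : orderOf z₁ = p := orderOf_eq_prime (hexp z₁) hz₁1
  have hz₁c : ∀ g : Q, g * z₁ = z₁ * g := Subgroup.mem_center_iff.mp hz₁
  haveI hZn : (Subgroup.zpowers z₁).Normal := by
    constructor
    intro u hu g
    have h1 : u ∈ Subgroup.center Q := (Subgroup.zpowers_le.mpr hz₁) hu
    have h2 : g * u * g⁻¹ = u := by
      rw [Subgroup.mem_center_iff.mp h1 g, mul_inv_cancel_right]
    rw [h2]; exact hu
  have hZcard : Nat.card (Subgroup.zpowers z₁) = p := by rw [Nat.card_zpowers, ho₁]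
  have hidx : (Subgroup.zpowers z₁).index = p ^ (n - 1) := by
    have h1 := Subgroup.card_mul_index (Subgroup.zpowers z₁)
    rw [hZcard, hcard] at h1
    have h2 : p ^ n = p * p ^ (n - 1) := by rw [← pow_succ']; congr 1; omega
    rw [h2] at h1
    exact Nat.eq_of_mul_eq_mul_left hpp.pos h1
  haveI : Nontrivial (Q ⧸ Subgroup.zpowers z₁) := by
    rw [← Finite.one_lt_card_iff_nontrivial]
    show 1 < (Subgroup.zpowers z₁).index
    rw [hidx]
    exact Nat.one_lt_pow (by omega) hpp.one_lt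
  haveI := (hQ.to_quotient (Subgroup.zpowers z₁)).center_nontrivial
  obtain ⟨w, hw⟩ := exists_ne (1 : ↥(Subgroup.center (Q ⧸ Subgroup.zpowers z₁)))
  obtain ⟨z₂, hz⟩ := QuotientGroup.mk_surjective (w : Q ⧸ Subgroup.zpowers z₁)
  have hz₂n : z₂ ∉ Subgroup.zpowers z₁ := by
    intro h
    apply hw
    apply Subtype.ext
    rw [← hz]
    exact (QuotientGroup.eq_one_iff z₂).mpr h
  have hcomm : ∀ g : Q, z₂ * g * z₂⁻¹ * g⁻¹ ∈ Subgroup.zpowers z₁ := by
    intro g
    rw [← QuotientGroup.eq_one_iff]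
    have h1 := Subgroup.mem_center_iff.mp w.2 (g : Q ⧸ Subgroup.zpowers z₁)
    rw [← hz] at h1
    rw [QuotientGroup.mk_mul, QuotientGroup.mk_mul, QuotientGroup.mk_mul, QuotientGroup.mk_inv,
      QuotientGroup.mk_inv, ← h1]
    group
  let θ : Q →* ↥(Subgroup.zpowers z₁) :=
    MonoidHom.mk' (fun g => ⟨z₂ * g * z₂⁻¹ * g⁻¹, hcomm g⟩) (by
      intro g h
      apply Subtype.ext
      show z₂ * (g * h) * z₂⁻¹ * (g * h)⁻¹ = (z₂ * g * z₂⁻¹ * g⁻¹) * (z₂ * h * z₂⁻¹ * h⁻¹)
      have hd : z₂ * h * z₂⁻¹ * h⁻¹ ∈ Subgroup.center Q :=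
        (Subgroup.zpowers_le.mpr hz₁) (hcomm h)
      have hd' := Subgroup.mem_center_iff.mp hd g⁻¹
      calc z₂ * (g * h) * z₂⁻¹ * (g * h)⁻¹
          = z₂ * g * z₂⁻¹ * ((z₂ * h * z₂⁻¹ * h⁻¹) * g⁻¹) := by group
        _ = z₂ * g * z₂⁻¹ * (g⁻¹ * (z₂ * h * z₂⁻¹ * h⁻¹)) := by rw [hd']
        _ = (z₂ * g * z₂⁻¹ * g⁻¹) * (z₂ * h * z₂⁻¹ * h⁻¹) := by group)
  have hker : θ.ker ≤ Subgroup.centralizer ({z₂} : Set Q) := by
    intro g hg
    rw [MonoidHom.mem_ker] at hg
    have h1 : z₂ * g * z₂⁻¹ * g⁻¹ = 1 := congrArg Subtype.val hg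
    rw [Subgroup.mem_centralizer_iff]
    intro u hu
    rw [Set.mem_singleton_iff] at hu
    rw [hu]
    have h2 : z₂ * g * z₂⁻¹ * g⁻¹ * (g * z₂) = g * z₂ := by rw [h1, one_mul]
    rw [← h2]; group
  have hidxk : θ.ker.index ≤ p := by
    rw [Subgroup.index_ker]
    calc Nat.card θ.range ≤ Nat.card ↥(Subgroup.zpowers z₁) := Subgroup.card_le_card_group _
      _ = p := hZcard
  obtain ⟨c, hc⟩ := IsPGroup.iff_card.mp
    (hQ.to_subgroup (Subgroup.centralizer ({z₂} : Set Q)))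
  have hc3 : 3 ≤ c := by
    have h1 := Subgroup.card_mul_index θ.ker
    have h2 : Nat.card θ.ker ≤ Nat.card (Subgroup.centralizer ({z₂} : Set Q)) :=
      Subgroup.card_le_of_le hker
    have h3 : p ^ n ≤ p ^ c * p := by
      rw [← hcard, ← h1, ← hc]
      exact Nat.mul_le_mul h2 hidxk
    rw [← pow_succ] at h3
    have h4 := (Nat.pow_le_pow_iff_right hpp.one_lt).mp h3
    omega
  have hz₁C : z₁ ∈ Subgroup.centralizer ({z₂} : Set Q) := by
    rw [Subgroup.mem_centralizer_iff]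
    intro u hu
    exact hz₁c u
  have hz₂C : z₂ ∈ Subgroup.centralizer ({z₂} : Set Q) := by
    rw [Subgroup.mem_centralizer_iff]
    intro u hu
    rw [Set.mem_singleton_iff] at hu
    rw [hu]
  have hm1 : (⟨z₁, hz₁C⟩ : ↥(Subgroup.centralizer ({z₂} : Set Q))) ∈
      Subgroup.center ↥(Subgroup.centralizer ({z₂} : Set Q)) :=
    Subgroup.mem_center_iff.mpr (fun g => Subtype.ext (hz₁c g))
  have hm2 : (⟨z₂, hz₂C⟩ : ↥(Subgroup.centralizer ({z₂} : Set Q))) ∈
      Subgroup.center ↥(Subgroup.centralizer ({z₂} : Set Q)) :=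
    Subgroup.mem_center_iff.mpr (fun g => Subtype.ext
      ((Subgroup.mem_centralizer_iff.mp g.2) z₂ (Set.mem_singleton z₂)).symm)
  have hm3 : orderOf (⟨z₁, hz₁C⟩ : ↥(Subgroup.centralizer ({z₂} : Set Q))) = p := by
    rw [Subgroup.orderOf_mk]; exact ho₁
  have hm4 : (⟨z₂, hz₂C⟩ : ↥(Subgroup.centralizer ({z₂} : Set Q))) ∉
      Subgroup.zpowers (⟨z₁, hz₁C⟩ : ↥(Subgroup.centralizer ({z₂} : Set Q))) := by
    intro h
    obtain ⟨k, hk⟩ := Subgroup.mem_zpowers_iff.mp h
    apply hz₂n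
    rw [Subgroup.mem_zpowers_iff]
    exact ⟨k, by simpa using congrArg Subtype.val hk⟩
  obtain ⟨B, hB, hBab⟩ := exists_ab_of_center (p := p) (hQ.to_subgroup _) hc3 hc hm1 hm2 hm3 hm4
  refine ⟨B.map (Subgroup.centralizer ({z₂} : Set Q)).subtype, ?_, ?_⟩
  · rw [Subgroup.card_map_of_injective (Subgroup.subtype_injective _)]; exact hB
  · rintro ⟨_, a', ha', rfl⟩ ⟨_, b', hb', rfl⟩
    apply Subtype.ext
    have h1 : a' * b' = b' * a' := congrArg Subtype.val (hBab ⟨a', ha'⟩ ⟨b', hb'⟩)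
    have h2 : (a' : Q) * (b' : Q) = (b' : Q) * (a' : Q) := congrArg Subtype.val h1
    exact h2

theorem caseB (hQ : IsPGroup p Q) (hiso : Iso Q) (hexp : ∀ x : Q, x ^ p = 1)
    (hna : ¬ ∀ a b : Q, a * b = b * a) : Nat.card Q = p ^ 3 := by
  have hpp : p.Prime := Fact.out
  obtain ⟨n, hn⟩ := IsPGroup.iff_card.mp hQ
  obtain ⟨H, hH, hHna⟩ := exists_nonab_p3 hQ hexp hna
  have hn3 : 3 ≤ n := by
    have h1 := Subgroup.card_le_card_group H
    rw [hH, hn] at h1
    exact (Nat.pow_le_pow_iff_right hpp.one_lt).mp h1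
  by_contra hne
  have hn4 : 4 ≤ n := by
    rcases Nat.lt_or_ge n 4 with h | h
    · exfalso; apply hne; rw [hn]; congr 1; omega
    · exact h
  obtain ⟨B, hB, hBab⟩ := exists_ab_p3 hQ hexp hn4 hn
  obtain ⟨e⟩ := hiso B H (by rw [hB, hH])
  apply hHna
  intro a b
  have h1 := hBab (e.symm a) (e.symm b)
  have h2 := congrArg e h1
  simpa using h2

theorem exists_cyclic_p2 (hQ : IsPGroup p Q) {x : Q} (hx : x ^ p ≠ 1) :
    ∃ D : Subgroup Q, Nat.card D = p ^ 2 ∧ IsCyclic D := by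
  have hpp : p.Prime := Fact.out
  obtain ⟨k, hk⟩ := IsPGroup.iff_card.mp (hQ.to_subgroup (Subgroup.zpowers x))
  have hk2 : 2 ≤ k := by
    by_contra hcon
    apply hx
    have h1 : orderOf x ∣ p := by
      rw [← Nat.card_zpowers, hk]
      calc p ^ k ∣ p ^ 1 := pow_dvd_pow p (by omega)
        _ = p := pow_one p
    exact orderOf_dvd_iff_pow_eq_one.mp h1
  obtain ⟨D₀, hD₀⟩ := Sylow.exists_subgroup_card_pow_prime (G := ↥(Subgroup.zpowers x)) p
    (n := 2) (by rw [hk]; exact pow_dvd_pow p hk2)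
  refine ⟨D₀.map (Subgroup.zpowers x).subtype, ?_, ?_⟩
  · rw [Subgroup.card_map_of_injective (Subgroup.zpowers x).subtype_injective]; exact hD₀
  · have e := D₀.equivMapOfInjective (Subgroup.zpowers x).subtype
      (Subgroup.zpowers x).subtype_injective
    exact e.isCyclic.mp inferInstance

theorem unique_of_cyclic_p2 (hQ : IsPGroup p Q) (hiso : Iso Q) {D : Subgroup Q}
    (hD : Nat.card D = p ^ 2) (hDc : IsCyclic D) :
    ∀ H K : Subgroup Q, Nat.card H = p → Nat.card K = p → H = K := by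
  have hpp : p.Prime := Fact.out
  haveI : Nontrivial Q := by
    rw [← Finite.one_lt_card_iff_nontrivial]
    calc 1 < p ^ 2 := Nat.one_lt_pow (by norm_num) hpp.one_lt
      _ = Nat.card D := hD.symm
      _ ≤ Nat.card Q := Subgroup.card_le_card_group D
  haveI := hQ.center_nontrivial
  obtain ⟨j, hj⟩ := IsPGroup.iff_card.mp (hQ.to_subgroup (Subgroup.center Q))
  have hj0 : j ≠ 0 := by
    intro h0
    rw [h0, pow_zero] at hj
    have h1 := Finite.one_lt_card_iff_nontrivial.mpr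
      (inferInstance : Nontrivial ↥(Subgroup.center Q))
    omega
  have hdvd : p ∣ Nat.card ↥(Subgroup.center Q) := by rw [hj]; exact dvd_pow_self p hj0
  obtain ⟨⟨z, hzc⟩, hzo⟩ := exists_prime_orderOf_dvd_card' p hdvd
  have hzo' : orderOf z = p := by rw [← Subgroup.orderOf_mk z hzc]; exact hzo
  haveI hZn : (Subgroup.zpowers z).Normal := by
    constructor
    intro u hu g
    have h1 : u ∈ Subgroup.center Q := (Subgroup.zpowers_le.mpr hzc) hu
    have h2 : g * u * g⁻¹ = u := by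
      rw [Subgroup.mem_center_iff.mp h1 g, mul_inv_cancel_right]
    rw [h2]; exact hu
  have hZcard : Nat.card (Subgroup.zpowers z) = p := by rw [Nat.card_zpowers, hzo']
  have key : ∀ H : Subgroup Q, Nat.card H = p → H = Subgroup.zpowers z := by
    intro H hH
    by_contra hne
    have hinf : H ⊓ Subgroup.zpowers z = ⊥ := by
      have h1 : Nat.card ↥(H ⊓ Subgroup.zpowers z) ∣ p := by
        rw [← hH]; exact Subgroup.card_dvd_of_le inf_le_left
      rcases (Nat.dvd_prime hpp).mp h1 with h2 | h2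
      · exact Subgroup.eq_bot_of_card_eq _ h2
      · exfalso
        have h3 : H ⊓ Subgroup.zpowers z = H :=
          Subgroup.eq_of_le_of_card_ge inf_le_left (by rw [h2, hH])
        have h4 : H ≤ Subgroup.zpowers z := by rw [← h3]; exact inf_le_right
        exact hne (Subgroup.eq_of_le_of_card_ge h4 (by rw [hZcard, hH]))
    have hE : Nat.card ↥(H ⊔ Subgroup.zpowers z) = p ^ 2 := by
      rw [card_sup_eq' H (Subgroup.zpowers z) hinf, hH, hZcard, sq]
    obtain ⟨e⟩ := hiso (H ⊔ Subgroup.zpowers z) D (by rw [hE, hD])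
    haveI : IsCyclic ↥(H ⊔ Subgroup.zpowers z) := e.isCyclic.mpr hDc
    obtain ⟨g, hg⟩ := IsCyclic.exists_generator (α := ↥(H ⊔ Subgroup.zpowers z))
    have hgo : orderOf (g : Q) = p ^ 2 := by
      rw [Subgroup.orderOf_coe, orderOf_eq_card_of_forall_mem_zpowers hg, hE]
    have hW : ∀ u ∈ H ⊔ Subgroup.zpowers z, u ^ p = 1 →
        u ∈ Subgroup.zpowers ((g : Q) ^ p) := by
      intro u hu hup
      obtain ⟨i, hi⟩ := Cfsg.Agent.Helper8.Meta.exists_pow_of_mem_zpowers (hg ⟨u, hu⟩)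
      have hi' : (g : Q) ^ i = u := by simpa using congrArg Subtype.val hi
      rw [← hi', ← pow_mul] at hup
      have h1 := orderOf_dvd_of_pow_eq_one hup
      rw [hgo, sq] at h1
      have h2 : p ∣ i := (Nat.mul_dvd_mul_iff_right hpp.pos).mp h1
      obtain ⟨t, rfl⟩ := h2
      rw [← hi', pow_mul]
      exact Subgroup.pow_mem _ (Subgroup.mem_zpowers _) _
    have hWcard : Nat.card (Subgroup.zpowers ((g : Q) ^ p)) ≤ p := by
      rw [Nat.card_zpowers]
      apply Nat.le_of_dvd hpp.pos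
      apply orderOf_dvd_of_pow_eq_one
      rw [← pow_mul, ← sq, ← hgo]; exact pow_orderOf_eq_one _
    have hHW : H ≤ Subgroup.zpowers ((g : Q) ^ p) := by
      intro u hu
      refine hW u (Subgroup.mem_sup_left hu) ?_
      have h1 : (⟨u, hu⟩ : ↥H) ^ Nat.card ↥H = 1 := pow_card_eq_one'
      rw [hH] at h1
      simpa using congrArg Subtype.val h1
    have hZW : Subgroup.zpowers z ≤ Subgroup.zpowers ((g : Q) ^ p) := by
      rw [Subgroup.zpowers_le]
      refine hW z (Subgroup.mem_sup_right (Subgroup.mem_zpowers z)) ?_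
      rw [← hzo']; exact pow_orderOf_eq_one z
    have h5 := Subgroup.eq_of_le_of_card_ge hHW (by rw [hH]; exact hWcard)
    have h6 := Subgroup.eq_of_le_of_card_ge hZW (by rw [hZcard]; exact hWcard)
    exact hne (h5.trans h6.symm)
  intro H K hH hK
  rw [key H hH, key K hK]

theorem caseA (hQ : IsPGroup p Q) (hiso : Iso Q) {x : Q} (hx : x ^ p ≠ 1) :
    IsCyclic Q ∨ (p = 2 ∧ Nonempty (Q ≃* QuaternionGroup 2)) := by
  obtain ⟨D, hD, hDc⟩ := exists_cyclic_p2 hQ hx
  have huniq := unique_of_cyclic_p2 hQ hiso hD hDc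
  rcases Cfsg.Agent.Helper15.cyclic_or_quaternion_of_unique p hQ huniq with h | ⟨hp2, n, ⟨e⟩⟩
  · exact Or.inl h
  · rcases Nat.lt_or_ge n 2 with hn | hn
    · interval_cases n
      · left
        have e' : Q ≃* QuaternionGroup 1 := e
        exact e'.isCyclic.mpr QuaternionGroup.quaternionGroup_one_isCyclic
      · right
        have e' : Q ≃* QuaternionGroup 2 := e
        exact ⟨hp2, ⟨e'⟩⟩
    · exfalso
      refine quat_not_iso (2 ^ n) (dvd_pow_self 2 (by omega)) ?_ (hiso.equiv e)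
      calc 4 = 2 ^ 2 := by norm_num
        _ ≤ 2 ^ n := Nat.pow_le_pow_right (by norm_num) hn

theorem main (hQ : IsPGroup p Q) (hiso : Iso Q) :
    IsCyclic Q ∨ ((∀ a b : Q, a * b = b * a) ∧ ∀ x : Q, x ^ p = 1) ∨
      (p = 2 ∧ Nonempty (Q ≃* QuaternionGroup 2)) ∨
      (p ≠ 2 ∧ (¬ ∀ a b : Q, a * b = b * a) ∧ Nat.card Q = p ^ 3 ∧ Monoid.exponent Q = p) := by
  have hpp : p.Prime := Fact.out
  by_cases hexp : ∀ x : Q, x ^ p = 1
  · by_cases hab : ∀ a b : Q, a * b = b * a
    · exact Or.inr (Or.inl ⟨hab, hexp⟩)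
    · refine Or.inr (Or.inr (Or.inr ⟨?_, hab, caseB hQ hiso hexp hab, ?_⟩))
      · intro hp2
        apply hab
        have hinv : ∀ x : Q, x⁻¹ = x := by
          intro x
          rw [inv_eq_iff_mul_eq_one, ← sq, ← hp2]
          exact hexp x
        intro a b
        calc a * b = (a * b)⁻¹ := (hinv _).symm
          _ = b⁻¹ * a⁻¹ := mul_inv_rev a b
          _ = b * a := by rw [hinv, hinv]
      · have h1 : Monoid.exponent Q ∣ p := Monoid.exponent_dvd_of_forall_pow_eq_one hexp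
        rcases (Nat.dvd_prime hpp).mp h1 with h2 | h2
        · exfalso
          haveI : Subsingleton Q := Monoid.exp_eq_one_iff.mp h2
          exact hab (fun a b => by rw [Subsingleton.elim a b])
        · exact h2
  · obtain ⟨x, hx⟩ := not_forall.mp hexp
    rcases caseA hQ hiso hx with h | h
    · exact Or.inl h
    · exact Or.inr (Or.inr (Or.inl h))

end

end Cfsg.Agent.Helper8.SameOrd
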