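import Mathlib
import Cfsg.Prelude.Def_Local
import Cfsg.Agent.Helper8.SameOrd
import Cfsg.Agent.Helper26.OrderP3

set_option autoImplicit false
open Cfsg

/-! # Groups whose `p`-subgroups of equal order are conjugate: normal `p`-solvable subgroups -/

namespace Cfsg.Agent.Helper8.SameOrd

theorem comm_of_conj {𝓗 : Type*} [Group 𝓗] (K M R : Subgroup 𝓗) [hKn : K.Normal] [hMn : M.Normal]
    (hKR : ∀ t, t ∈ K → t ∈ R → t = 1)
    (hM : ∀ u ∈ M, ∃ k ∈ K, ∃ y ∈ R, u = k * y) (hRM : R ≤ M)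
    (hconj : ∀ x ∈ R, x ≠ 1 → ∃ h : 𝓗, ∃ z ∈ R, (∀ v ∈ R, v * z = z * v) ∧ x = h * z * h⁻¹) :
    ∀ x ∈ R, ∀ u ∈ R, x * u = u * x := by
  intro x hx u hu
  by_cases hx1 : x = 1
  · rw [hx1, one_mul, mul_one]
  obtain ⟨h, z, hz, hzc, rfl⟩ := hconj x hx hx1
  have hu'' : h⁻¹ * u * h ∈ M := by
    have h1 := hMn.conj_mem u (hRM hu) h⁻¹
    simpa using h1
  obtain ⟨k, hk, y, hy, hky⟩ := hM _ hu''
  have h3 : y * z⁻¹ = z⁻¹ * y := ((show Commute y z from hzc y hy).inv_right).eq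
  have hkey : h * z * h⁻¹ * u * (h * z * h⁻¹)⁻¹ * u⁻¹ = h * ((z * k * z⁻¹) * k⁻¹) * h⁻¹ := by
    have h1 : u = h * (k * y) * h⁻¹ := by rw [← hky]; group
    rw [h1]
    calc h * z * h⁻¹ * (h * (k * y) * h⁻¹) * (h * z * h⁻¹)⁻¹ * (h * (k * y) * h⁻¹)⁻¹
        = h * (z * k * (y * z⁻¹) * y⁻¹ * k⁻¹) * h⁻¹ := by group
      _ = h * (z * k * (z⁻¹ * y) * y⁻¹ * k⁻¹) * h⁻¹ := by rw [h3]
      _ = h * ((z * k * z⁻¹) * k⁻¹) * h⁻¹ := by group
  have hmemK : h * z * h⁻¹ * u * (h * z * h⁻¹)⁻¹ * u⁻¹ ∈ K := by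
    rw [hkey]
    exact hKn.conj_mem _ (mul_mem (hKn.conj_mem k hk z) (inv_mem hk)) h
  have hmemR : h * z * h⁻¹ * u * (h * z * h⁻¹)⁻¹ * u⁻¹ ∈ R :=
    mul_mem (mul_mem (mul_mem hx hu) (inv_mem hx)) (inv_mem hu)
  have h1 := hKR _ hmemK hmemR
  have h2 : h * z * h⁻¹ * u * (h * z * h⁻¹)⁻¹ * u⁻¹ * (u * (h * z * h⁻¹)) = u * (h * z * h⁻¹) := by
    rw [h1, one_mul]
  rw [← h2]; group

section
variable {G : Type*} [Group G] [Finite G] {p : ℕ} [Fact p.Prime]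

theorem le_of_exp
    (hC : ∀ H K : Subgroup G, IsPGroup p H → IsPGroup p K → Nat.card H = Nat.card K →
      ∃ g : G, K = H.map (MulAut.conj g).toMonoidHom) (P : Sylow p G)
    (H : Subgroup G) [hHn : H.Normal] (hdiv : p ∣ Nat.card H)
    (hexp : ∀ x ∈ (P : Subgroup G), x ^ p = 1) : (P : Subgroup G) ≤ H := by
  have hpp : p.Prime := Fact.out
  obtain ⟨h0, hh0⟩ := exists_prime_orderOf_dvd_card' p hdiv
  have ho : orderOf (h0 : G) = p := by rw [Subgroup.orderOf_coe]; exact hh0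
  intro x hx
  by_cases hx1 : x = 1
  · rw [hx1]; exact one_mem H
  have hox : orderOf x = p := orderOf_eq_prime (hexp x hx) hx1
  have hp1 : IsPGroup p (Subgroup.zpowers (h0 : G)) :=
    IsPGroup.of_card (n := 1) (by rw [Nat.card_zpowers, ho, pow_one])
  have hp2 : IsPGroup p (Subgroup.zpowers x) :=
    IsPGroup.of_card (n := 1) (by rw [Nat.card_zpowers, hox, pow_one])
  obtain ⟨g, hg⟩ := hC _ _ hp1 hp2 (by rw [Nat.card_zpowers, Nat.card_zpowers, ho, hox])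
  have hxm : x ∈ (Subgroup.zpowers (h0 : G)).map (MulAut.conj g).toMonoidHom := by
    rw [← hg]; exact Subgroup.mem_zpowers x
  obtain ⟨w, hw, hwx⟩ := Subgroup.mem_map.mp hxm
  have hwH : w ∈ H := (Subgroup.zpowers_le.mpr h0.2) hw
  have hwx' : g * w * g⁻¹ = x := hwx
  rw [← hwx']
  exact hHn.conj_mem w hwH g

theorem nonab_false
    (hC : ∀ H K : Subgroup G, IsPGroup p H → IsPGroup p K → Nat.card H = Nat.card K →
      ∃ g : G, K = H.map (MulAut.conj g).toMonoidHom) (P : Sylow p G)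
    (H : Subgroup G) [hHn : H.Normal] (hsolv : Cfsg.IsPSolvable p H)
    (hPH : (P : Subgroup G) ≤ H)
    (hna : ¬ ∀ a b : ↥(P : Subgroup G), a * b = b * a)
    (hcard : Nat.card ↥(P : Subgroup G) = p ^ 3)
    (hexp : ∀ x ∈ (P : Subgroup G), x ^ p = 1) : False := by
  classical
  have hpp : p.Prime := Fact.out
  -- the centre of `P`
  have hZc := Cfsg.Agent.Helper26.p3_center_card hcard hna
  haveI : Nontrivial ↥(Subgroup.center ↥(P : Subgroup G)) := by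
    rw [← Finite.one_lt_card_iff_nontrivial, hZc]; exact hpp.one_lt
  obtain ⟨⟨z₀', hz₀c⟩, hz₀ne⟩ := exists_ne (1 : ↥(Subgroup.center ↥(P : Subgroup G)))
  obtain ⟨z₀, hz₀⟩ : ∃ z₀ : G, z₀ = (z₀' : G) := ⟨_, rfl⟩
  have hz₀P : z₀ ∈ (P : Subgroup G) := hz₀ ▸ z₀'.2
  have hz₀1 : z₀ ≠ 1 := by
    intro h
    apply hz₀ne
    apply Subtype.ext
    apply Subtype.ext
    rw [← hz₀]; exact h
  have hz₀cen : ∀ v ∈ (P : Subgroup G), v * z₀ = z₀ * v := by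
    intro v hv
    have h1 := Subgroup.mem_center_iff.mp hz₀c ⟨v, hv⟩
    rw [hz₀]; exact congrArg Subtype.val h1
  have ho₀ : orderOf z₀ = p := orderOf_eq_prime (hexp z₀ hz₀P) hz₀1
  have Zgen : ∀ z ∈ (P : Subgroup G), (∀ v ∈ (P : Subgroup G), v * z = z * v) →
      z ∈ Subgroup.zpowers z₀ := by
    intro z hz hzc
    have h1 : (⟨z, hz⟩ : ↥(P : Subgroup G)) ∈ Subgroup.center ↥(P : Subgroup G) :=
      Subgroup.mem_center_iff.mpr (fun v => Subtype.ext (hzc v v.2))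
    have h2 := mem_zpowers_of_prime_card hZc (g := ⟨z₀', hz₀c⟩) (g' := ⟨⟨z, hz⟩, h1⟩) hz₀ne
    obtain ⟨k, hk⟩ := Subgroup.mem_zpowers_iff.mp h2
    have hk' : (z₀' : G) ^ k = z := by
      have h3 := congrArg (fun t : ↥(Subgroup.center ↥(P : Subgroup G)) =>
        ((t : ↥(P : Subgroup G)) : G)) hk
      simpa using h3
    rw [hz₀, Subgroup.mem_zpowers_iff]
    exact ⟨k, hk'⟩
  -- Frattini argument
  have hfr : ∀ g : G, ∃ h ∈ H, ∃ n : G,
      (∀ v, v ∈ (P : Subgroup G) ↔ n * v * n⁻¹ ∈ (P : Subgroup G)) ∧ g = h * n := by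
    intro g
    have h1 := Sylow.normalizer_sup_eq_top' P hPH
    have h2 : g ∈ (⊤ : Subgroup G) := Subgroup.mem_top g
    rw [← h1, sup_comm] at h2
    have h3 : g ∈ ((H ⊔ Subgroup.normalizer ((P : Subgroup G) : Set G) : Subgroup G) : Set G) := h2
    rw [Subgroup.normal_mul] at h3
    obtain ⟨h, hh, n, hn, rfl⟩ := Set.mem_mul.mp h3
    exact ⟨h, hh, n, fun v => Subgroup.mem_set_normalizer_iff.mp hn v, rfl⟩
  have hconj : ∀ y ∈ H, orderOf y = p →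
      ∃ h ∈ H, ∃ z ∈ Subgroup.zpowers z₀, z ≠ 1 ∧ y = h * z * h⁻¹ := by
    intro y hyH hoy
    have hp1 : IsPGroup p (Subgroup.zpowers z₀) :=
      IsPGroup.of_card (n := 1) (by rw [Nat.card_zpowers, ho₀, pow_one])
    have hp2 : IsPGroup p (Subgroup.zpowers y) :=
      IsPGroup.of_card (n := 1) (by rw [Nat.card_zpowers, hoy, pow_one])
    obtain ⟨g, hg⟩ := hC _ _ hp1 hp2 (by rw [Nat.card_zpowers, Nat.card_zpowers, ho₀, hoy])
    have hym : y ∈ (Subgroup.zpowers z₀).map (MulAut.conj g).toMonoidHom := by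
      rw [← hg]; exact Subgroup.mem_zpowers y
    obtain ⟨w, hw, hwy⟩ := Subgroup.mem_map.mp hym
    have hwy' : g * w * g⁻¹ = y := hwy
    obtain ⟨h, hh, n, hn, rfl⟩ := hfr g
    have hw1 : w ≠ 1 := by
      intro h1
      rw [h1] at hwy'
      have h2 : y = 1 := by rw [← hwy']; group
      rw [h2, orderOf_one] at hoy
      exact hpp.one_lt.ne hoy
    have hwP : w ∈ (P : Subgroup G) := (Subgroup.zpowers_le.mpr hz₀P) hw
    have hwc : ∀ v ∈ (P : Subgroup G), v * w = w * v := by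
      intro v hv
      obtain ⟨k, rfl⟩ := Subgroup.mem_zpowers_iff.mp hw
      exact ((show Commute v z₀ from hz₀cen v hv).zpow_right k).eq
    have hzP : n * w * n⁻¹ ∈ (P : Subgroup G) := (hn w).mp hwP
    have hzc : ∀ v ∈ (P : Subgroup G), v * (n * w * n⁻¹) = (n * w * n⁻¹) * v := by
      intro v hv
      have hv' : n⁻¹ * v * n ∈ (P : Subgroup G) := by
        rw [hn]
        have h4 : n * (n⁻¹ * v * n) * n⁻¹ = v := by group
        rw [h4]; exact hv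
      have h3 := hwc _ hv'
      calc v * (n * w * n⁻¹) = n * ((n⁻¹ * v * n) * w) * n⁻¹ := by group
        _ = n * (w * (n⁻¹ * v * n)) * n⁻¹ := by rw [h3]
        _ = (n * w * n⁻¹) * v := by group
    refine ⟨h, hh, n * w * n⁻¹, Zgen _ hzP hzc, ?_, ?_⟩
    · intro h1
      apply hw1
      have h4 : w = n⁻¹ * (n * w * n⁻¹) * n := by group
      rw [h4, h1]; group
    · rw [← hwy']; group
  have hgen : ∀ z ∈ Subgroup.zpowers z₀, z ≠ 1 → z₀ ∈ Subgroup.zpowers z := by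
    intro z hz hz1
    have h1 : Subgroup.zpowers z ≤ Subgroup.zpowers z₀ := Subgroup.zpowers_le.mpr hz
    have hzp : z ^ p = 1 := hexp z ((Subgroup.zpowers_le.mpr hz₀P) hz)
    have hoz : orderOf z = p := orderOf_eq_prime hzp hz1
    have h2 := Subgroup.eq_of_le_of_card_ge h1
      (by rw [Nat.card_zpowers, Nat.card_zpowers, ho₀, hoz])
    rw [h2]; exact Subgroup.mem_zpowers z₀
  -- the `p`-series of `H`
  obtain ⟨n, Hc, h0, hlast, hmono, hnorm, hfac⟩ := hsolv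
  have hpH : p ∣ Nat.card ↥H := by
    have h1 : Nat.card ↥(P : Subgroup G) ∣ Nat.card ↥H := Subgroup.card_dvd_of_le hPH
    rw [hcard] at h1
    exact dvd_trans (dvd_pow_self p (by norm_num)) h1
  have hex : ∃ j : ℕ, ∃ hj : j < n + 1, p ∣ Nat.card ↥(Hc ⟨j, hj⟩) := by
    refine ⟨n, Nat.lt_succ_self n, ?_⟩
    have h1 : Hc ⟨n, Nat.lt_succ_self n⟩ = ⊤ := hlast
    rw [h1, Subgroup.card_top]; exact hpH
  obtain ⟨hj₀, hdvd₀⟩ := Nat.find_spec hex
  have hj0 : Nat.find hex ≠ 0 := by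
    intro h
    have h1 : Hc ⟨Nat.find hex, hj₀⟩ = ⊥ := by
      have h2 : (⟨Nat.find hex, hj₀⟩ : Fin (n + 1)) = 0 := Fin.ext h
      rw [h2]; exact h0
    rw [h1, Subgroup.card_bot] at hdvd₀
    exact hpp.one_lt.ne' (Nat.dvd_one.mp hdvd₀)
  obtain ⟨j₁, hj₁⟩ : ∃ j₁, Nat.find hex = j₁ + 1 := ⟨Nat.find hex - 1, by omega⟩
  have hj₁n : j₁ < n := by omega
  have hKnd' : ¬ p ∣ Nat.card ↥(Hc (⟨j₁, hj₁n⟩ : Fin n).castSucc) := by
    intro h
    exact Nat.find_min hex (m := j₁) (by omega) ⟨by omega, h⟩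
  have hMd' : p ∣ Nat.card ↥(Hc (⟨j₁, hj₁n⟩ : Fin n).succ) := by
    have h2 : (⟨j₁, hj₁n⟩ : Fin n).succ = ⟨Nat.find hex, hj₀⟩ := Fin.ext hj₁.symm
    rw [h2]; exact hdvd₀
  obtain ⟨K, hK⟩ : ∃ K : Subgroup ↥H, K = Hc (⟨j₁, hj₁n⟩ : Fin n).castSucc := ⟨_, rfl⟩
  obtain ⟨M, hM⟩ : ∃ M : Subgroup ↥H, M = Hc (⟨j₁, hj₁n⟩ : Fin n).succ := ⟨_, rfl⟩
  haveI hKn : K.Normal := hK ▸ hnorm _
  haveI hMn : M.Normal := hM ▸ hnorm _
  have hKM : K ≤ M := by
    rw [hK, hM]; exact hmono (Fin.le_def.mpr (by simp))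
  have hKnd : ¬ p ∣ Nat.card ↥K := by rw [hK]; exact hKnd'
  have hMd : p ∣ Nat.card ↥M := by rw [hM]; exact hMd'
  have hcKM' : Nat.card ↥K * K.relIndex M = Nat.card ↥M := by
    have h1 := Subgroup.card_mul_index (K.subgroupOf M)
    have h2 : Nat.card ↥(K.subgroupOf M) = Nat.card ↥K :=
      Nat.card_congr (Subgroup.subgroupOfEquivOfLe hKM).toEquiv
    rw [h2] at h1
    exact h1
  have hrel : ∃ m : ℕ, K.relIndex M = p ^ m := by
    rcases hfac ⟨j₁, hj₁n⟩ with h | h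
    · rw [hK, hM]; exact h
    · exfalso
      rw [← hK, ← hM] at h
      rw [← hcKM'] at hMd
      rcases (hpp.dvd_mul).mp hMd with h1 | h1
      · exact hKnd h1
      · exact ((Nat.Prime.coprime_iff_not_dvd hpp).mp h.symm) h1
  obtain ⟨m, hm⟩ := hrel
  have hcKM : Nat.card ↥K * p ^ m = Nat.card ↥M := by rw [← hm]; exact hcKM'
  obtain ⟨R, hR⟩ : ∃ R : Subgroup ↥H, R = (P : Subgroup G).subgroupOf H := ⟨_, rfl⟩
  have hRmem : ∀ t : ↥H, t ∈ R ↔ (t : G) ∈ (P : Subgroup G) := by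
    intro t; rw [hR]; exact Subgroup.mem_subgroupOf
  have hRcard : Nat.card ↥R = p ^ 3 := by
    rw [hR, Nat.card_congr (Subgroup.subgroupOfEquivOfLe hPH).toEquiv]; exact hcard
  have hKR : ∀ t, t ∈ K → t ∈ R → t = 1 := by
    intro t htK htR
    have h1 : orderOf t ∣ Nat.card ↥K := by
      rw [← Subgroup.orderOf_mk t htK]; exact orderOf_dvd_natCard _
    have h2 : orderOf t ∣ p ^ 3 := by
      rw [← hRcard, ← Subgroup.orderOf_mk t htR]; exact orderOf_dvd_natCard _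
    obtain ⟨a, -, ha⟩ := (Nat.dvd_prime_pow hpp).mp h2
    rcases Nat.eq_zero_or_pos a with h3 | h3
    · rw [h3, pow_zero] at ha; exact orderOf_eq_one_iff.mp ha
    · exfalso
      apply hKnd
      refine dvd_trans ?_ h1
      rw [ha]; exact dvd_pow_self p (by omega)
  have hz₀M : ∀ z ∈ Subgroup.zpowers z₀, ∀ hz : z ∈ H, (⟨z, hz⟩ : ↥H) ∈ M := by
    obtain ⟨u, hu⟩ := exists_prime_orderOf_dvd_card' p hMd
    have hou : orderOf ((u : ↥H) : G) = p := by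
      rw [Subgroup.orderOf_coe, Subgroup.orderOf_coe]; exact hu
    obtain ⟨h, hh, z, hz, hz1, hzu⟩ := hconj ((u : ↥H) : G) (u : ↥H).2 hou
    have hzH : z ∈ H := hPH ((Subgroup.zpowers_le.mpr hz₀P) hz)
    have hzM : (⟨z, hzH⟩ : ↥H) ∈ M := by
      have h1 : (⟨z, hzH⟩ : ↥H) = (⟨h, hh⟩ : ↥H)⁻¹ * (u : ↥H) * (⟨h, hh⟩ : ↥H)⁻¹⁻¹ := by
        apply Subtype.ext
        show z = h⁻¹ * ((u : ↥H) : G) * h⁻¹⁻¹
        rw [hzu]; group
      rw [h1]
      exact hMn.conj_mem _ u.2 _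
    have hz₀z := hgen z hz hz1
    intro z' hz' hz'H
    have h2 : z' ∈ Subgroup.zpowers z := (Subgroup.zpowers_le.mpr hz₀z) hz'
    obtain ⟨k, hk⟩ := Subgroup.mem_zpowers_iff.mp h2
    have h3 : (⟨z', hz'H⟩ : ↥H) = (⟨z, hzH⟩ : ↥H) ^ k := by
      apply Subtype.ext
      rw [Subgroup.coe_zpow]
      exact hk.symm
    rw [h3]; exact zpow_mem hzM k
  have hRM : R ≤ M := by
    intro x hx
    by_cases hx1 : x = 1
    · rw [hx1]; exact one_mem M
    have hxP : (x : G) ∈ (P : Subgroup G) := (hRmem x).mp hx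
    have hx1' : (x : G) ≠ 1 := fun h => hx1 (Subtype.ext h)
    have hox : orderOf (x : G) = p := orderOf_eq_prime (hexp _ hxP) hx1'
    obtain ⟨h, hh, z, hz, hz1, hzx⟩ := hconj (x : G) x.2 hox
    have hzH : z ∈ H := hPH ((Subgroup.zpowers_le.mpr hz₀P) hz)
    have h1 : x = (⟨h, hh⟩ : ↥H) * ⟨z, hzH⟩ * (⟨h, hh⟩ : ↥H)⁻¹ := Subtype.ext hzx
    rw [h1]
    exact hMn.conj_mem _ (hz₀M z hz hzH) _
  have hMdec : ∀ u ∈ M, ∃ k ∈ K, ∃ y ∈ R, u = k * y := by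
    have hinf : R ⊓ K = ⊥ := by
      rw [eq_bot_iff]; intro t ht
      rw [Subgroup.mem_bot]
      exact hKR t ht.2 ht.1
    have hc1 := card_sup_eq' R K hinf
    have hle : R ⊔ K ≤ M := sup_le hRM hKM
    have hm3 : m ≤ 3 := by
      have h1 : p ^ m ∣ Nat.card G := by
        have h2 : p ^ m ∣ Nat.card ↥M := ⟨Nat.card ↥K, by rw [← hcKM, mul_comm]⟩
        exact dvd_trans h2 (dvd_trans (Subgroup.card_subgroup_dvd_card M)
          (Subgroup.card_subgroup_dvd_card H))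
      have h3 : Nat.card ↥(P : Subgroup G) = p ^ Nat.factorization (Nat.card G) p :=
        P.card_eq_multiplicity
      rw [hcard] at h3
      have h4 := Nat.pow_right_injective hpp.two_le h3
      have h5 := (hpp.pow_dvd_iff_le_factorization (Nat.card_pos.ne')).mp h1
      omega
    have hcard2 : Nat.card ↥M ≤ Nat.card ↥(R ⊔ K) := by
      calc Nat.card ↥M = Nat.card ↥K * p ^ m := hcKM.symm
        _ ≤ Nat.card ↥K * p ^ 3 := Nat.mul_le_mul_left _ (Nat.pow_le_pow_right hpp.pos hm3)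
        _ = Nat.card ↥R * Nat.card ↥K := by rw [hRcard, mul_comm]
        _ = Nat.card ↥(R ⊔ K) := hc1.symm
    have heq := Subgroup.eq_of_le_of_card_ge hle hcard2
    intro u hu
    rw [← heq, sup_comm] at hu
    have hu' : u ∈ ((K ⊔ R : Subgroup ↥H) : Set ↥H) := hu
    rw [Subgroup.normal_mul] at hu'
    obtain ⟨k, hk, y, hy, rfl⟩ := Set.mem_mul.mp hu'
    exact ⟨k, hk, y, hy, rfl⟩
  have hconjR : ∀ x ∈ R, x ≠ 1 →
      ∃ h : ↥H, ∃ z ∈ R, (∀ v ∈ R, v * z = z * v) ∧ x = h * z * h⁻¹ := by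
    intro x hx hx1
    have hxP : (x : G) ∈ (P : Subgroup G) := (hRmem x).mp hx
    have hx1' : (x : G) ≠ 1 := fun h => hx1 (Subtype.ext h)
    have hox : orderOf (x : G) = p := orderOf_eq_prime (hexp _ hxP) hx1'
    obtain ⟨h, hh, z, hz, hz1, hzx⟩ := hconj (x : G) x.2 hox
    have hzP : z ∈ (P : Subgroup G) := (Subgroup.zpowers_le.mpr hz₀P) hz
    refine ⟨⟨h, hh⟩, ⟨z, hPH hzP⟩, (hRmem _).mpr hzP, ?_, Subtype.ext hzx⟩
    intro v hv
    apply Subtype.ext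
    show (v : G) * z = z * (v : G)
    obtain ⟨k, hk⟩ := Subgroup.mem_zpowers_iff.mp hz
    rw [← hk]
    exact ((show Commute (v : G) z₀ from hz₀cen _ ((hRmem v).mp hv)).zpow_right k).eq
  have hfinal := comm_of_conj K M R hKR hMdec hRM hconjR
  apply hna
  intro a b
  have h1 := hfinal ⟨a, hPH a.2⟩ ((hRmem _).mpr a.2) ⟨b, hPH b.2⟩ ((hRmem _).mpr b.2)
  have h2 : ((⟨a, hPH a.2⟩ : ↥H) : G) * ((⟨b, hPH b.2⟩ : ↥H) : G) =
      ((⟨b, hPH b.2⟩ : ↥H) : G) * ((⟨a, hPH a.2⟩ : ↥H) : G) := congrArg Subtype.val h1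
  apply Subtype.ext
  show (a : G) * (b : G) = (b : G) * (a : G)
  exact h2

end

end Cfsg.Agent.Helper8.SameOrd
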