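import Mathlib
import Cfsg.Agent.Helper8.SameOrd2
import Cfsg.Agent.Lead.Coprime
import Cfsg.Agent.Helper1.Hall
import Cfsg.Agent.S0043
import Cfsg.Agent.S4023

set_option autoImplicit false
open Cfsg
open Pointwise

/-! # Solvable groups whose primary subgroups of equal order are conjugate -/

namespace Cfsg.Agent.Helper8.SameOrd

universe u

open Cfsg.Agent.S0001 (ConjTo conjTo_trans conjTo_map conjTo_smul conjTo_of_smul conjTo_of_subgroup)

theorem cyc_comm {C : Type*} [Group C] [IsCyclic C] (x y : C) : x * y = y * x := by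
  obtain ⟨g, hg⟩ := IsCyclic.exists_generator (α := C)
  obtain ⟨i, rfl⟩ := Subgroup.mem_zpowers_iff.mp (hg x)
  obtain ⟨j, rfl⟩ := Subgroup.mem_zpowers_iff.mp (hg y)
  exact zpow_mul_comm g i j

theorem cyc_sub_eq {C : Type*} [Group C] [Finite C] [IsCyclic C] (B₁ B₂ : Subgroup C)
    (h : Nat.card B₁ = Nat.card B₂) : B₁ = B₂ := by
  classical
  haveI := Fintype.ofFinite C
  have key : ∀ B : Subgroup C, (B : Set C) = {x : C | x ^ Nat.card B = 1} := by
    intro B
    have hsub : (B : Set C) ⊆ {x : C | x ^ Nat.card B = 1} := by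
      intro x hx
      have h1 : (⟨x, hx⟩ : B) ^ Nat.card B = 1 := pow_card_eq_one'
      exact congrArg Subtype.val h1
    have hle := IsCyclic.card_pow_eq_one_le (α := C) (n := Nat.card B) Nat.card_pos
    have h2 : ({x : C | x ^ Nat.card B = 1} : Set C).ncard ≤ Nat.card B := by
      rw [Set.ncard_eq_toFinset_card', Set.toFinset_ofPred]
      exact hle
    have h3 : (B : Set C).ncard = Nat.card B := (Nat.card_coe_set_eq (B : Set C)).symm
    exact Set.eq_of_subset_of_ncard_le hsub (by rw [h3]; exact h2)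
  apply SetLike.coe_injective
  rw [key B₁, key B₂, h]

theorem sub_eq_of_cyclic {G : Type*} [Group G] [Finite G] (T X Y : Subgroup G) [IsCyclic T]
    (hX : X ≤ T) (hY : Y ≤ T) (h : Nat.card X = Nat.card Y) : X = Y := by
  have h1 := cyc_sub_eq (X.subgroupOf T) (Y.subgroupOf T) (by
    rw [Nat.card_congr (Subgroup.subgroupOfEquivOfLe hX).toEquiv,
      Nat.card_congr (Subgroup.subgroupOfEquivOfLe hY).toEquiv, h])
  rw [← Subgroup.map_subgroupOf_eq_of_le hX, ← Subgroup.map_subgroupOf_eq_of_le hY, h1]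

theorem cyc_invol_eq {C : Type*} [Group C] [Finite C] [IsCyclic C] (x y : C) (hx : x ^ 2 = 1)
    (hy : y ^ 2 = 1) (hx1 : x ≠ 1) (hy1 : y ≠ 1) : x = y := by
  have ox : orderOf x = 2 := orderOf_eq_prime hx hx1
  have oy : orderOf y = 2 := orderOf_eq_prime hy hy1
  have h1 : Subgroup.zpowers x = Subgroup.zpowers y :=
    cyc_sub_eq _ _ (by rw [Nat.card_zpowers, Nat.card_zpowers, ox, oy])
  have h2 : y ∈ Subgroup.zpowers x := by rw [h1]; exact Subgroup.mem_zpowers y
  rw [← mem_powers_iff_mem_zpowers] at h2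
  obtain ⟨n, hn⟩ := h2
  have hn' : x ^ n = y := hn
  rw [← hn'] at hy1 ⊢
  rw [← pow_mod_orderOf, ox] at hy1 ⊢
  rcases Nat.mod_two_eq_zero_or_one n with h | h
  · rw [h, pow_zero] at hy1; exact absurd rfl hy1
  · rw [h, pow_one]

theorem relIndex_mul_card' {G : Type*} [Group G] {A₀ H : Subgroup G} (h : A₀ ≤ H) :
    A₀.relIndex H * Nat.card A₀ = Nat.card H := by
  have h1 := Subgroup.relIndex_mul_relIndex ⊥ A₀ H bot_le h
  rw [Subgroup.relIndex_bot_left, Subgroup.relIndex_bot_left] at h1
  rw [mul_comm]; exact h1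

theorem conjTo_symm {G : Type*} [Group G] {g : G} {H K : Subgroup G} (h : ConjTo g H K) :
    ConjTo g⁻¹ K H := by
  intro x
  rw [h (g⁻¹⁻¹ * x * g⁻¹)]
  simp [mul_assoc]

theorem conjTo_eq_map {G : Type*} [Group G] {g : G} {H K : Subgroup G} (h : ConjTo g H K) :
    K = H.map (MulAut.conj g).toMonoidHom := by
  ext x
  rw [h x, (conjTo_map g H) x]

theorem conjTo_card {G : Type*} [Group G] {g : G} {H K : Subgroup G} (h : ConjTo g H K) :
    Nat.card K = Nat.card H := by
  rw [conjTo_eq_map h]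
  exact Subgroup.card_map_of_injective (MulAut.conj g).injective

theorem conjTo_sup {G : Type*} [Group G] {g : G} {H₁ H₂ K₁ K₂ : Subgroup G}
    (h1 : ConjTo g H₁ K₁) (h2 : ConjTo g H₂ K₂) : ConjTo g (H₁ ⊔ H₂) (K₁ ⊔ K₂) := by
  apply conjTo_of_smul
  rw [Subgroup.smul_sup, conjTo_smul h1, conjTo_smul h2]

theorem exists_compl_in {G : Type u} [Group G] [Finite G] (H A₀ : Subgroup G) (hle : A₀ ≤ H)
    (hn : H ≤ Subgroup.normalizer (A₀ : Set G)) (hcop : (Nat.card A₀).Coprime (A₀.relIndex H)) :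
    ∃ L : Subgroup G, L ≤ H ∧ L ⊔ A₀ = H ∧ Nat.card L = A₀.relIndex H := by
  haveI : (A₀.subgroupOf H).Normal := (Subgroup.normal_subgroupOf_iff_le_normalizer hle).2 hn
  have hc : (Nat.card (A₀.subgroupOf H)).Coprime (A₀.subgroupOf H).index := by
    have h1 : Nat.card (A₀.subgroupOf H) = Nat.card A₀ :=
      Nat.card_congr (Subgroup.subgroupOfEquivOfLe hle).toEquiv
    rw [h1]; exact hcop
  obtain ⟨L', hL'⟩ := Subgroup.exists_right_complement'_of_coprime hc
  refine ⟨L'.map H.subtype, Subgroup.map_subtype_le L', ?_, ?_⟩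
  · have h1 := hL'.sup_eq_top
    have h2 := congrArg (Subgroup.map H.subtype) h1
    rw [Subgroup.map_sup, Subgroup.map_subgroupOf_eq_of_le hle, ← MonoidHom.range_eq_map,
      Subgroup.range_subtype] at h2
    rw [sup_comm]; exact h2
  · rw [Subgroup.card_map_of_injective H.subtype_injective]
    exact hL'.symm.index_eq_card.symm

theorem card_inf_hall {G : Type u} [Group G] [Finite G] (A : Subgroup G) [A.Normal]
    (hcop : (Nat.card A).Coprime A.index) (H : Subgroup G) :
    Nat.card (H ⊓ A : Subgroup G) = Nat.gcd (Nat.card H) (Nat.card A) ∧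
    ((Nat.card (H ⊓ A : Subgroup G)).Coprime ((H ⊓ A).relIndex H)) ∧
    ((H ⊓ A).relIndex H).Coprime (Nat.card A) := by
  have h1 : (H ⊓ A).relIndex H = A.relIndex H := Subgroup.inf_relIndex_left H A
  have h2 : A.relIndex H ∣ A.index := Subgroup.relIndex_dvd_index_of_normal A H
  have h3 : (H ⊓ A).relIndex H * Nat.card (H ⊓ A : Subgroup G) = Nat.card H :=
    relIndex_mul_card' inf_le_left
  have h4 : Nat.card (H ⊓ A : Subgroup G) ∣ Nat.card A := Subgroup.card_dvd_of_le inf_le_right
  have h5 : ((H ⊓ A).relIndex H).Coprime (Nat.card A) := by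
    rw [h1]; exact (Nat.Coprime.coprime_dvd_right h2 hcop).symm
  refine ⟨?_, ?_, h5⟩
  · rw [← h3, Nat.Coprime.gcd_mul_left_cancel _ h5]
    exact (Nat.gcd_eq_left h4).symm
  · exact (Nat.Coprime.coprime_dvd_right h4 h5).symm

theorem conj_into {G : Type u} [Group G] [Finite G] (A : Subgroup G) [hAn : A.Normal]
    (hsolv : Group.IsSolvable A)
    (M L X : Subgroup G) (hLsup : L ⊔ A = M) (hLcop : (Nat.card L).Coprime (Nat.card A))
    (hXM : X ≤ M) (hXcop : (Nat.card X).Coprime (Nat.card A)) :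
    ∃ n ∈ A, ∃ B : Subgroup G, B ≤ L ∧ ConjTo n X B := by
  have hB : ((X ⊔ A) ⊓ L) ⊔ A = X ⊔ A := by
    apply le_antisymm
    · exact sup_le inf_le_left le_sup_right
    · intro x hx
      obtain ⟨l, hl, a, ha, rfl⟩ := (Cfsg.Agent.S0001.mem_sup_normal X A x).1 hx
      have hlM : l ∈ L ⊔ A := by rw [hLsup]; exact hXM hl
      obtain ⟨l', hl', a', ha', rfl⟩ := (Cfsg.Agent.S0001.mem_sup_normal L A l).1 hlM
      have h1 : l' ∈ X ⊔ A := by
        have h2 : (l' * a') * a'⁻¹ ∈ X ⊔ A :=
          (X ⊔ A).mul_mem (Subgroup.mem_sup_left hl) (Subgroup.mem_sup_right (A.inv_mem ha'))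
        simpa using h2
      have h3 : l' * a' * a = l' * (a' * a) := mul_assoc _ _ _
      rw [h3]
      exact Subgroup.mul_mem _ (Subgroup.mem_sup_left ⟨h1, hl'⟩)
        (Subgroup.mem_sup_right (A.mul_mem ha' ha))
  have hBcop : (Nat.card ((X ⊔ A) ⊓ L : Subgroup G)).Coprime (Nat.card A) :=
    Nat.Coprime.coprime_dvd_left (Subgroup.card_dvd_of_le inf_le_right) hLcop
  obtain ⟨n, hn, hconj⟩ := Cfsg.Agent.Lead.conj_complement X A ((X ⊔ A) ⊓ L)
    (by rw [Subgroup.normalizer_eq_top]; exact le_top) hXcop (Or.inr hsolv) hB hBcop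
  exact ⟨n, hn, _, inf_le_right, hconj⟩

theorem stepB' {G : Type u} [Group G] [Finite G] (A : Subgroup G) [hAn : A.Normal]
    (hcop : (Nat.card A).Coprime A.index)
    (hsolv : Group.IsSolvable A)
    (hded : ∀ B : Subgroup G, B ≤ A → A ≤ Subgroup.normalizer (B : Set G))
    (hT : ∀ T X Y : Subgroup G, (Nat.card T).Coprime (Nat.card A) → X ≤ T → Y ≤ T →
        Nat.card X = Nat.card Y → ∃ t ∈ T, ConjTo t X Y)
    (H K : Subgroup G) (hHK : Nat.card H = Nat.card K) (hA0 : H ⊓ A = K ⊓ A) :
    ∃ g : G, ConjTo g H K := by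
  obtain ⟨A₀, hA₀⟩ : ∃ A₀ : Subgroup G, A₀ = H ⊓ A := ⟨_, rfl⟩
  have hA₀K : A₀ = K ⊓ A := hA₀.trans hA0
  obtain ⟨M, hM⟩ : ∃ M : Subgroup G, M = Subgroup.normalizer (A₀ : Set G) := ⟨_, rfl⟩
  have hA₀A : A₀ ≤ A := by rw [hA₀]; exact inf_le_right
  have hA₀H : A₀ ≤ H := by rw [hA₀]; exact inf_le_left
  have hA₀K' : A₀ ≤ K := by rw [hA₀K]; exact inf_le_left
  have hAM : A ≤ M := by rw [hM]; exact hded A₀ hA₀A
  have hnorm : ∀ X : Subgroup G, X ≤ Subgroup.normalizer ((X ⊓ A : Subgroup G) : Set G) := by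
    intro X x hx
    rw [Subgroup.mem_set_normalizer_iff]
    intro y
    constructor
    · rintro ⟨hy1, hy2⟩
      exact ⟨X.mul_mem (X.mul_mem hx hy1) (X.inv_mem hx), hAn.conj_mem y hy2 x⟩
    · rintro ⟨hy1, hy2⟩
      refine ⟨?_, ?_⟩
      · have := X.mul_mem (X.mul_mem (X.inv_mem hx) hy1) hx
        simpa [mul_assoc] using this
      · have := hAn.conj_mem _ hy2 x⁻¹
        simpa [mul_assoc] using this
  have hHM : H ≤ M := by rw [hM, hA₀]; exact hnorm H
  have hKM : K ≤ M := by rw [hM, hA₀K]; exact hnorm K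
  obtain ⟨-, hc2, hc3⟩ := card_inf_hall A hcop H
  obtain ⟨-, hk2, hk3⟩ := card_inf_hall A hcop K
  rw [← hA₀] at hc2 hc3
  rw [← hA₀K] at hk2 hk3
  have hAMrel : (Nat.card A).Coprime (A.relIndex M) :=
    Nat.Coprime.coprime_dvd_right (Subgroup.relIndex_dvd_index_of_normal A M) hcop
  obtain ⟨L, hLM, hLsup, hLcard⟩ := exists_compl_in M A hAM
    (by rw [Subgroup.normalizer_eq_top]; exact le_top) hAMrel
  have hLcop : (Nat.card L).Coprime (Nat.card A) := by rw [hLcard]; exact hAMrel.symm
  obtain ⟨LH, hLH, hLHsup, hLHcard⟩ := exists_compl_in H A₀ hA₀H (by rw [← hM]; exact hHM) hc2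
  obtain ⟨LK, hLK, hLKsup, hLKcard⟩ := exists_compl_in K A₀ hA₀K' (by rw [← hM]; exact hKM) hk2
  obtain ⟨n, hn, B, hBL, hnB⟩ := conj_into A hsolv M L LH hLsup hLcop (hLH.trans hHM)
    (by rw [hLHcard]; exact hc3)
  obtain ⟨n', hn', B', hB'L, hn'B'⟩ := conj_into A hsolv M L LK hLsup hLcop (hLK.trans hKM)
    (by rw [hLKcard]; exact hk3)
  have hcardB : Nat.card B = Nat.card B' := by
    rw [conjTo_card hnB, conjTo_card hn'B', hLHcard, hLKcard]
    have e1 := relIndex_mul_card' hA₀H
    have e2 := relIndex_mul_card' hA₀K'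
    have hpos : 0 < Nat.card A₀ := Nat.card_pos
    have h3 : A₀.relIndex H * Nat.card A₀ = A₀.relIndex K * Nat.card A₀ := by rw [e1, e2, hHK]
    exact Nat.eq_of_mul_eq_mul_right hpos h3
  obtain ⟨t, ht, htB⟩ := hT L B B' hLcop hBL hB'L hcardB
  have hx1 : ConjTo (n'⁻¹ * (t * n)) LH LK :=
    conjTo_trans (conjTo_trans hnB htB) (conjTo_symm hn'B')
  have hxM : n'⁻¹ * (t * n) ∈ M := M.mul_mem (M.inv_mem (hAM hn')) (M.mul_mem (hLM ht) (hAM hn))
  have hx2 : ConjTo (n'⁻¹ * (t * n)) A₀ A₀ := by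
    intro y
    have h0 := M.inv_mem hxM
    rw [hM] at h0
    have h1 := Subgroup.mem_set_normalizer_iff.mp h0 y
    rw [inv_inv] at h1
    exact h1
  have hx3 := conjTo_sup hx1 hx2
  rw [hLHsup, hLKsup] at hx3
  exact ⟨_, hx3⟩

theorem stepB {G : Type u} [Group G] [Finite G] (A : Subgroup G) [hAn : A.Normal]
    (hcop : (Nat.card A).Coprime A.index)
    (hsolv : Group.IsSolvable A)
    (hded : ∀ B : Subgroup G, B ≤ A → A ≤ Subgroup.normalizer (B : Set G))
    (hconjA : ∀ B C : Subgroup G, B ≤ A → C ≤ A → Nat.card B = Nat.card C →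
        ∃ g : G, ConjTo g B C)
    (hT : ∀ T X Y : Subgroup G, (Nat.card T).Coprime (Nat.card A) → X ≤ T → Y ≤ T →
        Nat.card X = Nat.card Y → ∃ t ∈ T, ConjTo t X Y)
    (H K : Subgroup G) (hHK : Nat.card H = Nat.card K) : ∃ g : G, ConjTo g H K := by
  have hc : Nat.card (H ⊓ A : Subgroup G) = Nat.card (K ⊓ A : Subgroup G) := by
    rw [(card_inf_hall A hcop H).1, (card_inf_hall A hcop K).1, hHK]
  obtain ⟨g₀, hg₀⟩ := hconjA _ _ inf_le_right inf_le_right hc
  have h1 : ConjTo g₀ H (H.map (MulAut.conj g₀).toMonoidHom) := conjTo_map g₀ H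
  have h2 : H.map (MulAut.conj g₀).toMonoidHom ⊓ A = K ⊓ A := by
    ext x
    have hA : x ∈ A ↔ g₀⁻¹ * x * g₀ ∈ A := by
      constructor
      · intro hx
        have := hAn.conj_mem x hx g₀⁻¹
        simpa using this
      · intro hx
        have := hAn.conj_mem _ hx g₀
        simpa [mul_assoc] using this
    rw [Subgroup.mem_inf, h1 x, hg₀ x, Subgroup.mem_inf, hA]
  have h3 : Nat.card (H.map (MulAut.conj g₀).toMonoidHom) = Nat.card K := by
    rw [Subgroup.card_map_of_injective (MulAut.conj g₀).injective, hHK]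
  obtain ⟨g₁, hg₁⟩ := stepB' A hcop hsolv hded hT _ K h3 h2
  exact ⟨g₁ * g₀, conjTo_trans h1 hg₁⟩

theorem zgroup_conj {G : Type u} [Group G] [Finite G] [IsZGroup G] (H K : Subgroup G)
    (h : Nat.card H = Nat.card K) : ∃ g : G, ConjTo g H K := by
  haveI : IsCyclic (commutator G) := IsZGroup.isCyclic_commutator G
  have hcomm : ∀ a ∈ commutator G, ∀ b ∈ commutator G, a * b = b * a := by
    intro a ha b hb
    have h1 := cyc_comm (⟨a, ha⟩ : commutator G) ⟨b, hb⟩
    exact congrArg Subtype.val h1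
  apply stepB (commutator G) (IsZGroup.coprime_commutator_index G) inferInstance
  · intro B hB a ha
    rw [Subgroup.mem_set_normalizer_iff]
    intro y
    have key : ∀ y ∈ B, a * y * a⁻¹ = y := by
      intro y hy
      rw [hcomm a ha y (hB hy)]; group
    constructor
    · intro hy
      have hy' : y ∈ B := hy
      rw [key y hy']; exact hy
    · intro hy
      have hy' : a * y * a⁻¹ ∈ B := hy
      have h1 := hB hy'
      have h2 : y = a⁻¹ * (a * y * a⁻¹) * a := by group
      have h3 : a⁻¹ * (a * y * a⁻¹) * a = a * y * a⁻¹ := by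
        have h4 := hcomm _ h1 a ha
        rw [mul_assoc, h4]; group
      rw [h2, h3]; exact hy
  · intro B C hB hC hBC
    refine ⟨1, ?_⟩
    have h1 : B = C := sub_eq_of_cyclic (commutator G) B C hB hC hBC
    subst h1
    intro x; simp
  · intro T X Y hTcop hX hY hXY
    have hTA : T ⊓ commutator G = ⊥ := disjoint_iff.mp (Subgroup.disjoint_of_coprime_natCard hTcop)
    haveI : IsCyclic (G ⧸ commutator G) := IsZGroup.isCyclic_abelianization
    have hinj : Function.Injective ((QuotientGroup.mk' (commutator G)).comp T.subtype) := by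
      rw [injective_iff_map_eq_one]
      intro x hx
      have h1 : (x : G) ∈ commutator G := (QuotientGroup.eq_one_iff _).mp hx
      have h2 : (x : G) ∈ T ⊓ commutator G := ⟨x.2, h1⟩
      rw [hTA] at h2
      exact Subtype.ext (Subgroup.mem_bot.mp h2)
    haveI : IsCyclic T := isCyclic_of_injective _ hinj
    have h1 : X = Y := sub_eq_of_cyclic T X Y hX hY hXY
    subst h1
    exact ⟨1, T.one_mem, fun x => by simp⟩
  · exact h

theorem lift_pgroup {G : Type u} [Group G] [Finite G] (r : ℕ) [Fact r.Prime] (N : Subgroup G)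
    [N.Normal] (Hb : Subgroup (G ⧸ N)) (hHb : IsPGroup r Hb) :
    ∃ H : Subgroup G, IsPGroup r H ∧ H.map (QuotientGroup.mk' N) = Hb ∧
      Nat.card H = r ^ (Nat.card N * Nat.card Hb).factorization r := by
  obtain ⟨Q₀⟩ : Nonempty (Sylow r (Hb.comap (QuotientGroup.mk' N))) := inferInstance
  have hsurj : Function.Surjective ((QuotientGroup.mk' N).subgroupComap Hb) :=
    (QuotientGroup.mk' N).subgroupComap_surjective_of_surjective Hb (QuotientGroup.mk'_surjective N)
  have h1 : (Q₀ : Subgroup (Hb.comap (QuotientGroup.mk' N))).map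
      ((QuotientGroup.mk' N).subgroupComap Hb) = ⊤ :=
    ((Q₀.mapSurjective hsurj).3 (hHb.to_subgroup ⊤) le_top).symm
  refine ⟨(Q₀ : Subgroup (Hb.comap (QuotientGroup.mk' N))).map
    (Hb.comap (QuotientGroup.mk' N)).subtype, Q₀.2.map _, ?_, ?_⟩
  · have h2 : ((Q₀ : Subgroup (Hb.comap (QuotientGroup.mk' N))).map
        (Hb.comap (QuotientGroup.mk' N)).subtype).map (QuotientGroup.mk' N) =
        ((Q₀ : Subgroup (Hb.comap (QuotientGroup.mk' N))).map
          ((QuotientGroup.mk' N).subgroupComap Hb)).map Hb.subtype := by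
      rw [Subgroup.map_map, Subgroup.map_map]; rfl
    rw [h2, h1, ← MonoidHom.range_eq_map, Subgroup.range_subtype]
  · rw [Subgroup.card_map_of_injective (Subgroup.subtype_injective _), Sylow.card_eq_multiplicity]
    rw [Cfsg.Agent.Helper1.card_comap_mk N Hb]

theorem hD_quot {G : Type u} [Group G] [Finite G] (r : ℕ) [Fact r.Prime]
    (hC : ∀ H K : Subgroup G, IsPGroup r H → IsPGroup r K → Nat.card H = Nat.card K →
      ∃ g : G, K = H.map (MulAut.conj g).toMonoidHom) (N : Subgroup G) [N.Normal] :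
    ∀ H K : Subgroup (G ⧸ N), IsPGroup r H → IsPGroup r K → Nat.card H = Nat.card K →
      ∃ g : G ⧸ N, K = H.map (MulAut.conj g).toMonoidHom := by
  intro Hb Kb hH hK hcard
  obtain ⟨H, hH1, hH2, hH3⟩ := lift_pgroup r N Hb hH
  obtain ⟨K, hK1, hK2, hK3⟩ := lift_pgroup r N Kb hK
  obtain ⟨g, hg⟩ := hC H K hH1 hK1 (by rw [hH3, hK3, hcard])
  refine ⟨QuotientGroup.mk' N g, ?_⟩
  rw [← hH2, ← hK2, hg, Subgroup.map_map, Subgroup.map_map]
  congr 1

theorem quat_fact1 : ∀ x : QuaternionGroup 2, x ^ 2 = 1 → ∀ y, x * y = y * x := by decide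

theorem quat_fact2 : ∀ x y : QuaternionGroup 2, x * y * x⁻¹ = y ∨ x * y * x⁻¹ = y⁻¹ := by decide

theorem quat_fact3 : ∀ x : QuaternionGroup 2, ∃ w : QuaternionGroup 2, w ^ 2 ≠ 1 ∧
    ∃ k : Fin 4, x = w ^ (k : ℕ) := by decide

theorem quat_fact4 : ∀ w : QuaternionGroup 2, w ^ 4 = 1 := by decide

theorem quat_fact5 :
    (QuaternionGroup.a 1 : QuaternionGroup 2) * QuaternionGroup.xa 0 * (QuaternionGroup.a 1)⁻¹ *
      (QuaternionGroup.xa 0)⁻¹ = (QuaternionGroup.a 1) ^ 2 ∧
    (QuaternionGroup.a 1 : QuaternionGroup 2) * QuaternionGroup.xa 0 * (QuaternionGroup.a 1)⁻¹ *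
      (QuaternionGroup.xa 0)⁻¹ = (QuaternionGroup.xa 0) ^ 2 ∧
    (QuaternionGroup.a 1 : QuaternionGroup 2) ^ 2 ≠ 1 ∧
    (QuaternionGroup.xa 0 : QuaternionGroup 2) ^ 2 ≠ 1 ∧
    ((QuaternionGroup.a 1 : QuaternionGroup 2) * (QuaternionGroup.xa 0)⁻¹) ^ 2 ≠ 1 ∧
    (QuaternionGroup.a 1 : QuaternionGroup 2) * QuaternionGroup.xa 0 ≠
      QuaternionGroup.xa 0 * QuaternionGroup.a 1 := by decide

section

variable {G : Type u} [Group G] [Finite G] {r : ℕ} [Fact r.Prime]

theorem quat_le_normal
    (hC : ∀ H K : Subgroup G, IsPGroup r H → IsPGroup r K → Nat.card H = Nat.card K →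
      ∃ g : G, K = H.map (MulAut.conj g).toMonoidHom) (R : Sylow r G)
    (e : ↥(R : Subgroup G) ≃* QuaternionGroup 2)
    (K : Subgroup G) [hKn : K.Normal] (u : ↥(R : Subgroup G)) (huK : (u : G) ∈ K)
    (hu2 : u ^ 2 ≠ 1) : (R : Subgroup G) ≤ K := by
  have ord4 : ∀ v : ↥(R : Subgroup G), v ^ 2 ≠ 1 → orderOf (v : G) = 4 := by
    intro v hv
    have h4 : v ^ 4 = 1 := by
      apply e.injective
      rw [map_pow, map_one]; exact quat_fact4 _
    have h1 : ¬ (v : G) ^ 2 ^ 1 = 1 := by
      intro h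
      apply hv
      apply Subtype.ext
      rw [pow_one] at h
      exact h
    have h2 : (v : G) ^ 2 ^ (1 + 1) = 1 := by
      have := congrArg Subtype.val h4
      exact this
    exact orderOf_eq_prime_pow h1 h2
  intro x hx
  obtain ⟨w, hw2, k, hk⟩ := quat_fact3 (e ⟨x, hx⟩)
  have hw' : (e.symm w) ^ 2 ≠ 1 := by
    intro h
    apply hw2
    have := congrArg e h
    rw [map_pow, map_one, e.apply_symm_apply] at this
    exact this
  have hxw : (⟨x, hx⟩ : ↥(R : Subgroup G)) = (e.symm w) ^ (k : ℕ) := by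
    apply e.injective
    rw [map_pow, e.apply_symm_apply]; exact hk
  have hc : Nat.card (Subgroup.zpowers (u : G)) = Nat.card (Subgroup.zpowers ((e.symm w : ↥(R : Subgroup G)) : G)) := by
    rw [Nat.card_zpowers, Nat.card_zpowers, ord4 u hu2, ord4 _ hw']
  obtain ⟨g, hg⟩ := hC _ _ (R.2.to_le (Subgroup.zpowers_le.mpr u.2))
    (R.2.to_le (Subgroup.zpowers_le.mpr (e.symm w).2)) hc
  have hwK : ((e.symm w : ↥(R : Subgroup G)) : G) ∈ K := by
    have h1 : ((e.symm w : ↥(R : Subgroup G)) : G) ∈ Subgroup.zpowers ((e.symm w : ↥(R : Subgroup G)) : G) :=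
      Subgroup.mem_zpowers _
    rw [hg] at h1
    obtain ⟨v, hv, hvw⟩ := Subgroup.mem_map.mp h1
    have hvK : v ∈ K := (Subgroup.zpowers_le.mpr huK) hv
    rw [← hvw]
    exact hKn.conj_mem v hvK g
  have hx' : x = ((e.symm w : ↥(R : Subgroup G)) : G) ^ (k : ℕ) := by
    have := congrArg Subtype.val hxw
    exact this
  rw [hx']
  exact K.pow_mem hwK _

theorem le_ker_of_cyclic
    (hC : ∀ H K : Subgroup G, IsPGroup r H → IsPGroup r K → Nat.card H = Nat.card K →
      ∃ g : G, K = H.map (MulAut.conj g).toMonoidHom) (R : Sylow r G) (hnc : ¬ IsCyclic R)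
    (hstruct : (∀ x ∈ (R : Subgroup G), x ^ r = 1) ∨
      Nonempty (↥(R : Subgroup G) ≃* QuaternionGroup 2))
    {C : Type*} [Group C] [Finite C] [IsCyclic C] (f : G →* C) : (R : Subgroup G) ≤ f.ker := by
  have hrp : r.Prime := Fact.out
  rcases hstruct with hexp | ⟨⟨e⟩⟩
  · by_cases hdiv : r ∣ Nat.card f.ker
    · exact le_of_exp hC R f.ker hdiv hexp
    · exfalso
      apply hnc
      refine isCyclic_of_injective (f.comp (R : Subgroup G).subtype) ?_
      rw [injective_iff_map_eq_one]
      intro x hx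
      by_contra hx1
      have hx1' : (x : G) ≠ 1 := fun h => hx1 (Subtype.ext h)
      have ho : orderOf (x : G) = r := orderOf_eq_prime (hexp _ x.2) hx1'
      have hxk : (x : G) ∈ f.ker := MonoidHom.mem_ker.mpr hx
      have h1 : orderOf (⟨(x : G), hxk⟩ : f.ker) ∣ Nat.card f.ker := orderOf_dvd_natCard _
      rw [Subgroup.orderOf_mk, ho] at h1
      exact hdiv h1
  · obtain ⟨F, hF⟩ : ∃ F : ↥(R : Subgroup G) →* C, F = f.comp (R : Subgroup G).subtype := ⟨_, rfl⟩
    obtain ⟨i, hi⟩ : ∃ i : ↥(R : Subgroup G), i = e.symm (QuaternionGroup.a 1) := ⟨_, rfl⟩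
    obtain ⟨j, hj⟩ : ∃ j : ↥(R : Subgroup G), j = e.symm (QuaternionGroup.xa 0) := ⟨_, rfl⟩
    have hei : e i = QuaternionGroup.a 1 := by rw [hi, e.apply_symm_apply]
    have hej : e j = QuaternionGroup.xa 0 := by rw [hj, e.apply_symm_apply]
    have hi2 : i * j * i⁻¹ * j⁻¹ = i ^ 2 := by
      apply e.injective
      rw [map_mul, map_mul, map_mul, map_inv, map_inv, map_pow, hei, hej]
      exact quat_fact5.1
    have hj2 : i * j * i⁻¹ * j⁻¹ = j ^ 2 := by
      apply e.injective
      rw [map_mul, map_mul, map_mul, map_inv, map_inv, map_pow, hei, hej]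
      exact quat_fact5.2.1
    have hcomm1 : F (i * j * i⁻¹ * j⁻¹) = 1 := by
      rw [map_mul, map_mul, map_mul, map_inv, map_inv, cyc_comm (F i) (F j)]
      group
    have hFi : F i ^ 2 = 1 := by rw [← map_pow, ← hi2]; exact hcomm1
    have hFj : F j ^ 2 = 1 := by rw [← map_pow, ← hj2]; exact hcomm1
    have hne_i : i ^ 2 ≠ 1 := by
      intro h
      have := congrArg e h
      rw [map_pow, map_one, hei] at this
      exact quat_fact5.2.2.1 this
    have hne_j : j ^ 2 ≠ 1 := by
      intro h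
      have := congrArg e h
      rw [map_pow, map_one, hej] at this
      exact quat_fact5.2.2.2.1 this
    have hne_ij : (i * j⁻¹) ^ 2 ≠ 1 := by
      intro h
      have := congrArg e h
      rw [map_pow, map_one, map_mul, map_inv, hei, hej] at this
      exact quat_fact5.2.2.2.2.1 this
    have hex : ∃ u : ↥(R : Subgroup G), F u = 1 ∧ u ^ 2 ≠ 1 := by
      by_cases h1 : F i = 1
      · exact ⟨i, h1, hne_i⟩
      by_cases h2 : F j = 1
      · exact ⟨j, h2, hne_j⟩
      refine ⟨i * j⁻¹, ?_, hne_ij⟩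
      rw [map_mul, map_inv, cyc_invol_eq (F i) (F j) hFi hFj h1 h2, mul_inv_cancel]
    obtain ⟨u, hu1, hu2⟩ := hex
    have huK : (u : G) ∈ f.ker := by
      rw [MonoidHom.mem_ker]
      rw [hF] at hu1
      exact hu1
    exact quat_le_normal hC R e f.ker u huK hu2

end

theorem sylow_normal_aux (r : ℕ) [Fact r.Prime] : ∀ n : ℕ, ∀ (G : Type u) [Group G] [Finite G]
    [Group.IsSolvable G], Nat.card G = n →
    (∀ H K : Subgroup G, IsPGroup r H → IsPGroup r K → Nat.card H = Nat.card K →
      ∃ g : G, K = H.map (MulAut.conj g).toMonoidHom) →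
    (∀ q : ℕ, q.Prime → q ≠ r → ∀ Q : Sylow q G, IsCyclic Q) →
    ∀ R : Sylow r G, ¬ IsCyclic R → (R : Subgroup G).Normal := by
  intro n
  induction n using Nat.strongRecOn with | ind n ih => ?_
  intro G _ _ _ hcard hC hcyc R hnc
  have hrp : r.Prime := Fact.out
  haveI : Nontrivial G := by
    by_contra h
    rw [not_nontrivial_iff_subsingleton] at h
    exact hnc isCyclic_of_subsingleton
  obtain ⟨N, hNn, hne, hmin⟩ := Cfsg.Agent.Helper1.exists_minimal_normal (G := G)
  haveI := hNn
  obtain ⟨hNc, q, hq, hNexp⟩ := Cfsg.Agent.S0043.result N hne hmin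
  haveI : Fact q.Prime := ⟨hq⟩
  have hstruct : (∀ x ∈ (R : Subgroup G), x ^ r = 1) ∨
      (r = 2 ∧ Nonempty (↥(R : Subgroup G) ≃* QuaternionGroup 2)) := by
    rcases Cfsg.Agent.S4023.result hC R with h | h | h | h
    · exact absurd h hnc
    · exact Or.inl h.2
    · exact Or.inr h
    · left
      intro x hx
      have h0 := Monoid.pow_exponent_eq_one (⟨x, hx⟩ : ↥(R : Subgroup G))
      have h00 : Monoid.exponent ↥(R : Subgroup G) = r := h.2.2.2
      rw [h00] at h0
      exact congrArg Subtype.val h0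
  have hstruct' : (∀ x ∈ (R : Subgroup G), x ^ r = 1) ∨
      Nonempty (↥(R : Subgroup G) ≃* QuaternionGroup 2) := hstruct.imp id (fun h => h.2)
  have hNpg : IsPGroup q N := by
    intro x
    exact ⟨1, by rw [pow_one]; exact Subtype.ext (hNexp x x.2)⟩
  have hπs : Function.Surjective (QuotientGroup.mk' N) := QuotientGroup.mk'_surjective N
  have hlt : Nat.card (G ⧸ N) < n := hcard ▸ Cfsg.Agent.S0001.card_quot_lt N hne
  have hCq := hD_quot r hC N
  have hcycq : ∀ q' : ℕ, q'.Prime → q' ≠ r → ∀ Q : Sylow q' (G ⧸ N), IsCyclic Q := by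
    intro q' hq' hq'r Q
    haveI := Fact.mk hq'
    obtain ⟨Q₀, rfl⟩ := Sylow.mapSurjective_surjective hπs q' Q
    haveI := hcyc q' hq' hq'r Q₀
    exact isCyclic_of_surjective _ ((QuotientGroup.mk' N).subgroupMap_surjective Q₀)
  have hIH := ih (Nat.card (G ⧸ N)) hlt (G ⧸ N) rfl hCq hcycq (R.mapSurjective hπs)
  have hcardR : ∀ x ∈ (R : Subgroup G), x ^ Nat.card (R : Subgroup G) = 1 := by
    intro x hx
    have h1 : (⟨x, hx⟩ : ↥(R : Subgroup G)) ^ Nat.card (R : Subgroup G) = 1 := pow_card_eq_one'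
    exact congrArg Subtype.val h1
  by_cases hqr : q = r
  · subst hqr
    have hNR : N ≤ (R : Subgroup G) := hNpg.le_sylow_of_normal R
    have hdiv : q ∣ Nat.card N := by
      obtain ⟨k, hk⟩ := IsPGroup.iff_card.mp hNpg
      rcases Nat.eq_zero_or_pos k with h0 | h0
      · exfalso
        rw [h0, pow_zero] at hk
        exact hne (Subgroup.eq_bot_of_card_eq N hk)
      · rw [hk]; exact dvd_pow_self q (Nat.pos_iff_ne_zero.mp h0)
    rcases hstruct with hexp | ⟨hr2, ⟨e⟩⟩
    · have h1 := le_of_exp hC R N hdiv hexp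
      have hRN : (R : Subgroup G) = N := le_antisymm h1 hNR
      rw [hRN]; exact hNn
    · have hncq : ¬ IsCyclic ↥((R.mapSurjective hπs : Sylow q (G ⧸ N)) : Subgroup (G ⧸ N)) := by
        intro hcycR
        haveI : IsCyclic ↥(Subgroup.map (QuotientGroup.mk' N) (R : Subgroup G)) := hcycR
        have hker : ((QuotientGroup.mk' N).subgroupMap (R : Subgroup G)).ker ≤
            Subgroup.center ↥(R : Subgroup G) := by
          intro x hx
          have h1 : QuotientGroup.mk' N (x : G) = 1 :=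
            congrArg Subtype.val (MonoidHom.mem_ker.mp hx)
          have h2 : (x : G) ∈ N := (QuotientGroup.eq_one_iff _).mp h1
          have h3' : (x : G) ^ q = 1 := hNexp _ h2
          have hq2 : (x : G) ^ q = (x : G) ^ 2 := congrArg (fun k => (x : G) ^ k) hr2
          have h3 : (x : G) ^ 2 = 1 := by rw [← hq2]; exact h3'
          have h4 : e x ^ 2 = 1 := by
            rw [← map_pow]
            have h5 : x ^ 2 = 1 := Subtype.ext h3
            rw [h5, map_one]
          rw [Subgroup.mem_center_iff]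
          intro y
          apply e.injective
          rw [map_mul, map_mul]
          exact (quat_fact1 (e x) h4 (e y)).symm
        have hcomm := commutative_of_cyclic_center_quotient
          ((QuotientGroup.mk' N).subgroupMap (R : Subgroup G)) hker
        have h6 := hcomm (e.symm (QuaternionGroup.a 1)) (e.symm (QuaternionGroup.xa 0))
        have h7 := congrArg e h6
        rw [map_mul, map_mul, e.apply_symm_apply, e.apply_symm_apply] at h7
        exact quat_fact5.2.2.2.2.2 h7
      have hRbn := hIH hncq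
      have h8 : (R : Subgroup G) =
          ((R.mapSurjective hπs : Sylow q (G ⧸ N)) : Subgroup (G ⧸ N)).comap
            (QuotientGroup.mk' N) := by
        rw [Sylow.coe_mapSurjective, Subgroup.comap_map_eq, QuotientGroup.ker_mk',
          sup_eq_left.mpr hNR]
      rw [h8]; exact hRbn.comap (QuotientGroup.mk' N)
  · have hco : (Nat.card (R : Subgroup G)).Coprime q := by
      obtain ⟨k, hk⟩ := IsPGroup.iff_card.mp R.2
      rw [hk]
      exact Nat.Coprime.pow_left k ((Nat.coprime_primes hrp hq).mpr (Ne.symm hqr))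
    obtain ⟨Q, hNQ⟩ := hNpg.exists_le_sylow
    haveI := hcyc q hq hqr Q
    haveI hNcyc : IsCyclic N :=
      isCyclic_of_surjective _ (Subgroup.subgroupOfEquivOfLe hNQ).surjective
    have hNcard : Nat.card N = q := by
      have h1 : Monoid.exponent N ∣ q :=
        Monoid.exponent_dvd_of_forall_pow_eq_one (fun x => Subtype.ext (hNexp x x.2))
      rw [IsCyclic.exponent_eq_card] at h1
      rcases (Nat.dvd_prime hq).mp h1 with h | h
      · exact absurd (Subgroup.eq_bot_of_card_eq N h) hne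
      · exact h
    haveI : IsCyclic (MulAut N) := by
      have e := IsCyclic.mulAutMulEquiv N
      haveI : IsCyclic (ZMod (Nat.card N))ˣ := by
        rw [hNcard]; infer_instance
      exact isCyclic_of_surjective e.symm e.symm.surjective
    have hRker := le_ker_of_cyclic hC R hnc hstruct' (MulAut.conjNormal (H := N))
    have hcent : ∀ x ∈ (R : Subgroup G), ∀ m ∈ N, x * m = m * x := by
      intro x hx m hm
      have h1 := MonoidHom.mem_ker.mp (hRker hx)
      have h2 := congrArg (fun φ : MulAut N => ((φ ⟨m, hm⟩ : N) : G)) h1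
      have h3 : x * m * x⁻¹ = m := by simpa [MulAut.conjNormal_apply] using h2
      calc x * m = x * m * x⁻¹ * x := by group
        _ = m * x := by rw [h3]
    have hRN : ∀ x ∈ (R : Subgroup G), x ∈ N → x = 1 := by
      intro x hx hxN
      have hd1 : orderOf x ∣ Nat.card (R : Subgroup G) := orderOf_dvd_of_pow_eq_one (hcardR x hx)
      have hd2 : orderOf x ∣ q := orderOf_dvd_of_pow_eq_one (hNexp x hxN)
      exact orderOf_eq_one_iff.mp (Nat.eq_one_of_dvd_coprimes hco hd1 hd2)
    have hncq : ¬ IsCyclic ↥((R.mapSurjective hπs : Sylow r (G ⧸ N)) : Subgroup (G ⧸ N)) := by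
      intro hcycR
      apply hnc
      haveI : IsCyclic ↥(Subgroup.map (QuotientGroup.mk' N) (R : Subgroup G)) := hcycR
      refine isCyclic_of_injective ((QuotientGroup.mk' N).subgroupMap (R : Subgroup G)) ?_
      rw [injective_iff_map_eq_one]
      intro x hx
      have h1 : QuotientGroup.mk' N (x : G) = 1 := congrArg Subtype.val hx
      exact Subtype.ext (hRN _ x.2 ((QuotientGroup.eq_one_iff _).mp h1))
    have hRbn := hIH hncq
    constructor
    intro x hx g
    have h1 : QuotientGroup.mk' N (g * x * g⁻¹) ∈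
        ((R.mapSurjective hπs : Sylow r (G ⧸ N)) : Subgroup (G ⧸ N)) := by
      have h2 := hRbn.conj_mem (QuotientGroup.mk' N x) (Subgroup.mem_map_of_mem _ hx)
        (QuotientGroup.mk' N g)
      rw [map_mul, map_mul, map_inv]
      exact h2
    obtain ⟨y, hy, hyx⟩ := Subgroup.mem_map.mp h1
    have hm : y⁻¹ * (g * x * g⁻¹) ∈ N := by
      rw [← QuotientGroup.eq_one_iff, ← QuotientGroup.mk'_apply, map_mul, map_inv, hyx,
        inv_mul_cancel]
    obtain ⟨m, hmdef⟩ : ∃ m : G, m = y⁻¹ * (g * x * g⁻¹) := ⟨_, rfl⟩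
    rw [← hmdef] at hm
    have hgx : g * x * g⁻¹ = y * m := by rw [hmdef]; group
    have h2 : (g * x * g⁻¹) ^ Nat.card (R : Subgroup G) =
        y ^ Nat.card (R : Subgroup G) * m ^ Nat.card (R : Subgroup G) := by
      rw [hgx]
      exact (show Commute y m from hcent y hy m hm).mul_pow _
    have h3 : (g * x * g⁻¹) ^ Nat.card (R : Subgroup G) = 1 := by
      rw [conj_pow, hcardR x hx]; group
    rw [h3, hcardR y hy, one_mul] at h2
    have hm1 : m = 1 := by
      have hd1 : orderOf m ∣ Nat.card (R : Subgroup G) := orderOf_dvd_of_pow_eq_one h2.symm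
      have hd2 : orderOf m ∣ q := orderOf_dvd_of_pow_eq_one (hNexp m hm)
      exact orderOf_eq_one_iff.mp (Nat.eq_one_of_dvd_coprimes hco hd1 hd2)
    rw [hgx, hm1, mul_one]
    exact hy

theorem comm_of_normal_exp {G : Type u} [Group G] [Finite G] {r : ℕ} [Fact r.Prime]
    (hC : ∀ H K : Subgroup G, IsPGroup r H → IsPGroup r K → Nat.card H = Nat.card K →
      ∃ g : G, K = H.map (MulAut.conj g).toMonoidHom) (R : Sylow r G)
    (hRn : (R : Subgroup G).Normal) (hexp : ∀ x ∈ (R : Subgroup G), x ^ r = 1)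
    (hnt : Nontrivial ↥(R : Subgroup G)) :
    ∀ a ∈ (R : Subgroup G), ∀ b ∈ (R : Subgroup G), a * b = b * a := by
  haveI := hRn
  haveI := hnt
  haveI : ((Subgroup.center ↥(R : Subgroup G)).map (R : Subgroup G).subtype).Normal :=
    ConjAct.normal_of_characteristic_of_normal
  haveI : Nontrivial (Subgroup.center ↥(R : Subgroup G)) := IsPGroup.center_nontrivial R.2
  have hdiv : r ∣ Nat.card ((Subgroup.center ↥(R : Subgroup G)).map (R : Subgroup G).subtype) := by
    rw [Subgroup.card_map_of_injective (Subgroup.subtype_injective _)]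
    have hpg : IsPGroup r (Subgroup.center ↥(R : Subgroup G)) := R.2.to_subgroup _
    obtain ⟨k, hk⟩ := IsPGroup.iff_card.mp hpg
    rcases Nat.eq_zero_or_pos k with h0 | h0
    · exfalso
      rw [h0, pow_zero] at hk
      have h1 := Finite.one_lt_card (α := Subgroup.center ↥(R : Subgroup G))
      omega
    · rw [hk]; exact dvd_pow_self r (Nat.pos_iff_ne_zero.mp h0)
  have hle := le_of_exp hC R _ hdiv hexp
  intro a ha b hb
  obtain ⟨z, hz, hza⟩ := Subgroup.mem_map.mp (hle ha)
  have h1 := Subgroup.mem_center_iff.mp hz ⟨b, hb⟩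
  have h2 : b * (z : G) = (z : G) * b := congrArg Subtype.val h1
  have hza' : (z : G) = a := hza
  rw [← hza']
  exact h2.symm

theorem solv_main {G : Type u} [Group G] [Finite G] [Group.IsSolvable G]
    (hD : ∀ p : ℕ, p.Prime → ∀ H K : Subgroup G, IsPGroup p H → IsPGroup p K →
      Nat.card H = Nat.card K → ∃ g : G, K = H.map (MulAut.conj g).toMonoidHom)
    (r : ℕ) (hcyc : ∀ p : ℕ, p.Prime → p ≠ r → ∀ P : Sylow p G, IsCyclic P) :
    ∀ H K : Subgroup G, Nat.card H = Nat.card K → ∃ g : G, ConjTo g H K := by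
  intro H K hHK
  by_cases hr : r.Prime
  · haveI := Fact.mk hr
    obtain ⟨R⟩ : Nonempty (Sylow r G) := inferInstance
    by_cases hRc : IsCyclic R
    · haveI : IsZGroup G := by
        rw [isZGroup_iff]
        intro p hp P
        by_cases hpr : p = r
        · subst hpr
          exact isCyclic_of_surjective (Sylow.equiv R P) (MulEquiv.surjective _)
        · exact hcyc p hp hpr P
      exact zgroup_conj H K hHK
    · have hRn := sylow_normal_aux r _ G rfl (hD r hr) hcyc R hRc
      haveI := hRn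
      have hnt : Nontrivial ↥(R : Subgroup G) := by
        by_contra h
        rw [not_nontrivial_iff_subsingleton] at h
        exact hRc isCyclic_of_subsingleton
      have hrdiv : r ∣ Nat.card (R : Subgroup G) := by
        obtain ⟨k, hk⟩ := IsPGroup.iff_card.mp R.2
        rcases Nat.eq_zero_or_pos k with h0 | h0
        · exfalso
          rw [h0, pow_zero] at hk
          have h1 := Finite.one_lt_card (α := ↥(R : Subgroup G))
          omega
        · rw [hk]; exact dvd_pow_self r (Nat.pos_iff_ne_zero.mp h0)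
      -- Dedekind property of `R`
      have hDed : ∀ a ∈ (R : Subgroup G), ∀ b ∈ (R : Subgroup G),
          a * b * a⁻¹ = b ∨ a * b * a⁻¹ = b⁻¹ := by
        have hE : (∀ x ∈ (R : Subgroup G), x ^ r = 1) →
            ∀ a ∈ (R : Subgroup G), ∀ b ∈ (R : Subgroup G),
              a * b * a⁻¹ = b ∨ a * b * a⁻¹ = b⁻¹ := by
          intro hexp a ha b hb
          left
          rw [comm_of_normal_exp (hD r hr) R hRn hexp hnt a ha b hb]; group
        rcases Cfsg.Agent.S4023.result (hD r hr) R with h | h | h | h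
        · exact absurd h hRc
        · exact hE h.2
        · obtain ⟨-, ⟨e⟩⟩ := h
          intro a ha b hb
          rcases quat_fact2 (e ⟨a, ha⟩) (e ⟨b, hb⟩) with h1 | h1
          · left
            have h2 : (⟨a, ha⟩ : ↥(R : Subgroup G)) * ⟨b, hb⟩ * (⟨a, ha⟩)⁻¹ = ⟨b, hb⟩ := by
              apply e.injective
              rw [map_mul, map_mul, map_inv]; exact h1
            exact congrArg Subtype.val h2
          · right
            have h2 : (⟨a, ha⟩ : ↥(R : Subgroup G)) * ⟨b, hb⟩ * (⟨a, ha⟩)⁻¹ = (⟨b, hb⟩)⁻¹ := by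
              apply e.injective
              rw [map_mul, map_mul, map_inv, map_inv]; exact h1
            exact congrArg Subtype.val h2
        · apply hE
          intro x hx
          have h0 := Monoid.pow_exponent_eq_one (⟨x, hx⟩ : ↥(R : Subgroup G))
          have h00 : Monoid.exponent ↥(R : Subgroup G) = r := h.2.2.2
          rw [h00] at h0
          exact congrArg Subtype.val h0
      apply stepB (R : Subgroup G) R.card_coprime_index inferInstance
      · intro B hB a ha
        rw [Subgroup.mem_set_normalizer_iff]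
        intro y
        constructor
        · intro hy
          have hy' : y ∈ B := hy
          rcases hDed a ha y (hB hy') with h1 | h1
          · rw [h1]; exact hy
          · rw [h1]; exact B.inv_mem hy'
        · intro hy
          have hy' : a * y * a⁻¹ ∈ B := hy
          have h2 : y = a⁻¹ * (a * y * a⁻¹) * a⁻¹⁻¹ := by group
          rcases hDed a⁻¹ (Subgroup.inv_mem _ ha) _ (hB hy') with h1 | h1
          · rw [h2, h1]; exact hy
          · rw [h2, h1]; exact B.inv_mem hy'
      · intro B C hB hC hBC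
        obtain ⟨g, hg⟩ := hD r hr B C (R.2.to_le hB) (R.2.to_le hC) hBC
        exact ⟨g, hg ▸ conjTo_map g B⟩
      · intro T X Y hTcop hX hY hXY
        haveI : IsZGroup T := by
          rw [isZGroup_iff]
          intro p hp P
          haveI := Fact.mk hp
          by_cases hpr : p = r
          · subst hpr
            have h1 : Nat.card P = 1 := by
              by_contra hne1
              obtain ⟨k, hk⟩ := IsPGroup.iff_card.mp P.2
              have hk0 : k ≠ 0 := by
                rintro rfl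
                exact hne1 (by rw [hk, pow_zero])
              have h2 : p ∣ Nat.card P := by rw [hk]; exact dvd_pow_self p hk0
              have h3 : p ∣ Nat.card T := h2.trans (Subgroup.card_subgroup_dvd_card _)
              have h4 := Nat.eq_one_of_dvd_coprimes hTcop h3 hrdiv
              exact hp.one_lt.ne' h4
            haveI : Subsingleton ↥(P : Subgroup T) := (Nat.card_eq_one_iff_unique.mp h1).1
            exact isCyclic_of_subsingleton
          · obtain ⟨Q, hQ⟩ := (P.2.map T.subtype).exists_le_sylow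
            haveI := hcyc p hp hpr Q
            have := isCyclic_of_surjective _ (Subgroup.subgroupOfEquivOfLe hQ).surjective
            exact isCyclic_of_surjective _
              (Subgroup.equivMapOfInjective (P : Subgroup T) T.subtype T.subtype_injective).symm.surjective
        have hc : Nat.card (X.subgroupOf T) = Nat.card (Y.subgroupOf T) := by
          rw [Nat.card_congr (Subgroup.subgroupOfEquivOfLe hX).toEquiv,
            Nat.card_congr (Subgroup.subgroupOfEquivOfLe hY).toEquiv, hXY]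
        exact conjTo_of_subgroup T X Y hX hY (zgroup_conj _ _ hc)
      · exact hHK
  · haveI : IsZGroup G := by
      rw [isZGroup_iff]
      intro p hp P
      exact hcyc p hp (fun h => hr (h ▸ hp)) P
    exact zgroup_conj H K hHK

end Cfsg.Agent.Helper8.SameOrd
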