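import Mathlib
import Cfsg.Agent.Helper8.SameOrd3

set_option autoImplicit false
open Cfsg

/-! # Groups whose abelian subgroups of equal order are conjugate: quotients by odd normal subgroups -/

namespace Cfsg.Agent.Helper8.AbConj

universe u

open Cfsg.Agent.Helper8.SameOrd

section pgroup

variable {p : ℕ} [Fact p.Prime] {Q : Type*} [Group Q] [Finite Q]

/-- Variant of `unique_of_cyclic_p2` using only commutative subgroups. -/
theorem unique_of_cyclic_p2' (hQ : IsPGroup p Q)
    (hiso : ∀ H K : Subgroup Q, (∀ a b : H, a * b = b * a) → (∀ a b : K, a * b = b * a) →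
      Nat.card H = Nat.card K → Nonempty (H ≃* K))
    {D : Subgroup Q} (hD : Nat.card D = p ^ 2) (hDc : IsCyclic D) :
    ∀ H K : Subgroup Q, Nat.card H = p → Nat.card K = p → H = K := by
  have hpp : p.Prime := Fact.out
  haveI : Nontrivial Q := by
    rw [← Finite.one_lt_card_iff_nontrivial]
    calc 1 < p ^ 2 := Nat.one_lt_pow (by norm_num) hpp.one_lt
      _ = Nat.card D := hD.symm
      _ ≤ Nat.card Q := Subgroup.card_le_card_group D
  haveI := hQ.center_nontrivial
  obtain ⟨j, hj⟩ := IsPGroup.iff_card.mp (hQ.to_subgroup (Subgroup.center Q))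
  have hj0 : j ≠ 0 := by
    intro h0
    rw [h0, pow_zero] at hj
    have h1 := Finite.one_lt_card_iff_nontrivial.mpr
      (inferInstance : Nontrivial ↥(Subgroup.center Q))
    omega
  have hdvd : p ∣ Nat.card ↥(Subgroup.center Q) := by rw [hj]; exact dvd_pow_self p hj0
  obtain ⟨⟨z, hzc⟩, hzo⟩ := exists_prime_orderOf_dvd_card' p hdvd
  have hzo' : orderOf z = p := by rw [← Subgroup.orderOf_mk z hzc]; exact hzo
  haveI hZn : (Subgroup.zpowers z).Normal := by
    constructor
    intro u hu g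
    have h1 : u ∈ Subgroup.center Q := (Subgroup.zpowers_le.mpr hzc) hu
    have h2 : g * u * g⁻¹ = u := by
      rw [Subgroup.mem_center_iff.mp h1 g, mul_inv_cancel_right]
    rw [h2]; exact hu
  have hZcard : Nat.card (Subgroup.zpowers z) = p := by rw [Nat.card_zpowers, hzo']
  have key : ∀ H : Subgroup Q, Nat.card H = p → H = Subgroup.zpowers z := by
    intro H hH
    by_contra hne
    have hinf : H ⊓ Subgroup.zpowers z = ⊥ := by
      have h1 : Nat.card ↥(H ⊓ Subgroup.zpowers z) ∣ p := by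
        rw [← hH]; exact Subgroup.card_dvd_of_le inf_le_left
      rcases (Nat.dvd_prime hpp).mp h1 with h2 | h2
      · exact Subgroup.eq_bot_of_card_eq _ h2
      · exfalso
        have h3 : H ⊓ Subgroup.zpowers z = H :=
          Subgroup.eq_of_le_of_card_ge inf_le_left (by rw [h2, hH])
        have h4 : H ≤ Subgroup.zpowers z := by rw [← h3]; exact inf_le_right
        exact hne (Subgroup.eq_of_le_of_card_ge h4 (by rw [hZcard, hH]))
    have hE : Nat.card ↥(H ⊔ Subgroup.zpowers z) = p ^ 2 := by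
      rw [card_sup_eq' H (Subgroup.zpowers z) hinf, hH, hZcard, sq]
    haveI := hDc
    obtain ⟨e⟩ := hiso (H ⊔ Subgroup.zpowers z) D (comm_of_card_le hE le_rfl)
      (fun a b => cyc_comm a b) (by rw [hE, hD])
    haveI : IsCyclic ↥(H ⊔ Subgroup.zpowers z) := e.isCyclic.mpr hDc
    obtain ⟨g, hg⟩ := IsCyclic.exists_generator (α := ↥(H ⊔ Subgroup.zpowers z))
    have hgo : orderOf (g : Q) = p ^ 2 := by
      rw [Subgroup.orderOf_coe, orderOf_eq_card_of_forall_mem_zpowers hg, hE]
    have hW : ∀ u ∈ H ⊔ Subgroup.zpowers z, u ^ p = 1 →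
        u ∈ Subgroup.zpowers ((g : Q) ^ p) := by
      intro u hu hup
      obtain ⟨i, hi⟩ := Cfsg.Agent.Helper8.Meta.exists_pow_of_mem_zpowers (hg ⟨u, hu⟩)
      have hi' : (g : Q) ^ i = u := by simpa using congrArg Subtype.val hi
      rw [← hi', ← pow_mul] at hup
      have h1 := orderOf_dvd_of_pow_eq_one hup
      rw [hgo, sq] at h1
      have h2 : p ∣ i := (Nat.mul_dvd_mul_iff_right hpp.pos).mp h1
      obtain ⟨t, rfl⟩ := h2
      rw [← hi', pow_mul]
      exact Subgroup.pow_mem _ (Subgroup.mem_zpowers _) _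
    have hWcard : Nat.card (Subgroup.zpowers ((g : Q) ^ p)) ≤ p := by
      rw [Nat.card_zpowers]
      apply Nat.le_of_dvd hpp.pos
      apply orderOf_dvd_of_pow_eq_one
      rw [← pow_mul, ← sq, ← hgo]; exact pow_orderOf_eq_one _
    have hHW : H ≤ Subgroup.zpowers ((g : Q) ^ p) := by
      intro u hu
      refine hW u (Subgroup.mem_sup_left hu) ?_
      have h1 : (⟨u, hu⟩ : ↥H) ^ Nat.card ↥H = 1 := pow_card_eq_one'
      rw [hH] at h1
      simpa using congrArg Subtype.val h1
    have hZW : Subgroup.zpowers z ≤ Subgroup.zpowers ((g : Q) ^ p) := by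
      rw [Subgroup.zpowers_le]
      refine hW z (Subgroup.mem_sup_right (Subgroup.mem_zpowers z)) ?_
      rw [← hzo']; exact pow_orderOf_eq_one z
    have h5 := Subgroup.eq_of_le_of_card_ge hHW (by rw [hH]; exact hWcard)
    have h6 := Subgroup.eq_of_le_of_card_ge hZW (by rw [hZcard]; exact hWcard)
    exact hne (h5.trans h6.symm)
  intro H K hH hK
  rw [key H hH, key K hK]

end pgroup

section

variable {G : Type u} [Group G] [Finite G]

theorem card_map_mk (M : Subgroup G) [M.Normal] (A : Subgroup G) :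
    Nat.card (A.map (QuotientGroup.mk' M)) * Nat.card (A ⊓ M : Subgroup G) = Nat.card A := by
  have h1 := Subgroup.relIndex_ker (QuotientGroup.mk' M) (K := A)
  rw [QuotientGroup.ker_mk'] at h1
  rw [← h1, ← Subgroup.inf_relIndex_left A M]
  exact relIndex_mul_card' inf_le_left

theorem cyc_chain {p : ℕ} [Fact p.Prime] (P X Y : Subgroup G) [IsCyclic P] (hP : IsPGroup p P)
    (hX : X ≤ P) (hY : Y ≤ P) : X ≤ Y ∨ Y ≤ X := by
  have key : ∀ X Y : Subgroup G, X ≤ P → Y ≤ P → Nat.card X ≤ Nat.card Y → X ≤ Y := by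
    intro X Y hX hY hle
    obtain ⟨a, ha⟩ := IsPGroup.iff_card.mp (hP.to_le hX)
    obtain ⟨b, hb⟩ := IsPGroup.iff_card.mp (hP.to_le hY)
    have hab : a ≤ b := by
      rw [ha, hb] at hle
      exact (Nat.pow_le_pow_iff_right (Fact.out : p.Prime).one_lt).mp hle
    obtain ⟨K', hK'⟩ := Sylow.exists_subgroup_card_pow_prime (G := ↥Y) p (n := a)
      (by rw [hb]; exact pow_dvd_pow p hab)
    have h1 : Nat.card (K'.map Y.subtype) = Nat.card X := by
      rw [Subgroup.card_map_of_injective Y.subtype_injective, hK', ha]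
    have h2 : X = K'.map Y.subtype :=
      sub_eq_of_cyclic P X _ hX ((Subgroup.map_subtype_le K').trans hY) h1.symm
    rw [h2]; exact Subgroup.map_subtype_le K'
  rcases Nat.le_total (Nat.card X) (Nat.card Y) with h | h
  · exact Or.inl (key X Y hX hY h)
  · exact Or.inr (key Y X hY hX h)

theorem card_sylow_inf (M : Subgroup G) [M.Normal] {p : ℕ} [Fact p.Prime] (P : Sylow p G) :
    Nat.card ((P : Subgroup G) ⊓ M : Subgroup G) = p ^ (Nat.card M).factorization p := by
  have hpp : p.Prime := Fact.out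
  obtain ⟨a, ha⟩ := IsPGroup.iff_card.mp (P.2.to_le (inf_le_left : (P : Subgroup G) ⊓ M ≤ P))
  obtain ⟨b, hb⟩ := IsPGroup.iff_card.mp (P.2.map (QuotientGroup.mk' M))
  have h1 := card_map_mk M (P : Subgroup G)
  rw [ha, hb, Sylow.card_eq_multiplicity, ← pow_add] at h1
  have h2 : b + a = (Nat.card G).factorization p := Nat.pow_right_injective hpp.two_le h1
  have h3 : Nat.card G = Nat.card M * Nat.card (G ⧸ M) := by
    rw [mul_comm, ← Subgroup.index_eq_card]; exact (Subgroup.index_mul_card M).symm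
  have h4 : (Nat.card G).factorization p =
      (Nat.card M).factorization p + (Nat.card (G ⧸ M)).factorization p := by
    rw [h3, Nat.factorization_mul Nat.card_pos.ne' Nat.card_pos.ne']; rfl
  have h5 : a ≤ (Nat.card M).factorization p := by
    rw [← Nat.Prime.pow_dvd_iff_le_factorization hpp Nat.card_pos.ne', ← ha]
    exact Subgroup.card_dvd_of_le inf_le_right
  have h6 : b ≤ (Nat.card (G ⧸ M)).factorization p := by
    rw [← Nat.Prime.pow_dvd_iff_le_factorization hpp Nat.card_pos.ne', ← hb]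
    exact Subgroup.card_subgroup_dvd_card _
  rw [ha]
  congr 1
  omega

theorem sylow_cyclic_of_not_le
    (hB : ∀ A B : Subgroup G, IsMulCommutative ↥A → IsMulCommutative ↥B →
      Nat.card ↥A = Nat.card ↥B → ∃ g : G, B = A.map (MulAut.conj g).toMonoidHom)
    (M : Subgroup G) [hMn : M.Normal] (hM : Odd (Nat.card ↥M)) {p : ℕ} [Fact p.Prime]
    (hpM : p ∣ Nat.card M) (P : Sylow p G) (hPM : ¬ (P : Subgroup G) ≤ M) : IsCyclic P := by
  have hpp : p.Prime := Fact.out
  have hp2 : p ≠ 2 := by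
    rintro rfl
    exact (Nat.not_even_iff_odd.mpr hM) (even_iff_two_dvd.mpr hpM)
  by_contra hnc
  have hisoAb : ∀ H K : Subgroup ↥(P : Subgroup G), (∀ a b : H, a * b = b * a) →
      (∀ a b : K, a * b = b * a) → Nat.card H = Nat.card K → Nonempty (H ≃* K) := by
    intro H K hH hK hc
    obtain ⟨eH⟩ : Nonempty (H ≃* H.map (P : Subgroup G).subtype) :=
      ⟨H.equivMapOfInjective _ (Subgroup.subtype_injective _)⟩
    obtain ⟨eK⟩ : Nonempty (K ≃* K.map (P : Subgroup G).subtype) :=
      ⟨K.equivMapOfInjective _ (Subgroup.subtype_injective _)⟩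
    have hH' : IsMulCommutative ↥(H.map (P : Subgroup G).subtype) := ⟨⟨fun a b => by
      apply eH.symm.injective; rw [map_mul, map_mul]; exact hH _ _⟩⟩
    have hK' : IsMulCommutative ↥(K.map (P : Subgroup G).subtype) := ⟨⟨fun a b => by
      apply eK.symm.injective; rw [map_mul, map_mul]; exact hK _ _⟩⟩
    obtain ⟨g, hg⟩ := hB _ _ hH' hK'
      (by rw [← Nat.card_congr eH.toEquiv, ← Nat.card_congr eK.toEquiv, hc])
    obtain ⟨eg⟩ : Nonempty (↥(H.map (P : Subgroup G).subtype) ≃*
        ↥((H.map (P : Subgroup G).subtype).map (MulAut.conj g).toMonoidHom)) :=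
      ⟨Subgroup.equivMapOfInjective _ _ (MulAut.conj g).injective⟩
    exact ⟨eH.trans (eg.trans ((MulEquiv.subgroupCongr hg.symm).trans eK.symm))⟩
  have hexp : ∀ x : ↥(P : Subgroup G), x ^ p = 1 := by
    by_contra hne
    obtain ⟨x, hx⟩ := not_forall.mp hne
    obtain ⟨D, hD, hDc⟩ := exists_cyclic_p2 P.2 hx
    have huniq := unique_of_cyclic_p2' P.2 hisoAb hD hDc
    rcases Cfsg.Agent.Helper15.cyclic_or_quaternion_of_unique p P.2 huniq with h | ⟨h, -⟩
    · exact hnc h
    · exact hp2 h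
  apply hPM
  obtain ⟨h0, hh0⟩ := exists_prime_orderOf_dvd_card' p hpM
  intro x hx
  by_cases hx1 : x = 1
  · rw [hx1]; exact M.one_mem
  have hxp : x ^ p = 1 := congrArg Subtype.val (hexp ⟨x, hx⟩)
  have hox : orderOf x = p := orderOf_eq_prime hxp hx1
  have hoh : orderOf (h0 : G) = p := by rw [Subgroup.orderOf_coe]; exact hh0
  obtain ⟨g, hg⟩ := hB (Subgroup.zpowers (h0 : G)) (Subgroup.zpowers x) inferInstance inferInstance
    (by rw [Nat.card_zpowers, Nat.card_zpowers, hoh, hox])
  have h1 : x ∈ Subgroup.zpowers x := Subgroup.mem_zpowers x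
  rw [hg] at h1
  obtain ⟨v, hv, hvx⟩ := Subgroup.mem_map.mp h1
  have hvM : v ∈ M := (Subgroup.zpowers_le.mpr h0.2) hv
  rw [← hvx]; exact hMn.conj_mem v hvM g

theorem exists_lift
    (hB : ∀ A B : Subgroup G, IsMulCommutative ↥A → IsMulCommutative ↥B →
      Nat.card ↥A = Nat.card ↥B → ∃ g : G, B = A.map (MulAut.conj g).toMonoidHom)
    (M : Subgroup G) [hMn : M.Normal] (hM : Odd (Nat.card ↥M))
    (Ab : Subgroup (G ⧸ M)) (hAb : IsMulCommutative Ab) :
    ∃ A : Subgroup G, IsMulCommutative A ∧ A.map (QuotientGroup.mk' M) = Ab ∧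
      ∀ p : ℕ, p.Prime → (Nat.card A).factorization p =
        if p ∣ Nat.card Ab then (Nat.card Ab).factorization p + (Nat.card M).factorization p
        else 0 := by
  obtain ⟨A, -, hAmin⟩ := exists_minimal_le_of_wellFoundedLT
    (fun A : Subgroup G => A ⊔ M = Ab.comap (QuotientGroup.mk' M))
    (Ab.comap (QuotientGroup.mk' M))
    (sup_eq_left.mpr (by
      intro m hm
      rw [Subgroup.mem_comap]
      have h1 : QuotientGroup.mk' M m = 1 := (QuotientGroup.eq_one_iff m).mpr hm
      rw [h1]; exact Ab.one_mem))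
  have hAsup : A ⊔ M = Ab.comap (QuotientGroup.mk' M) := hAmin.prop
  have hmin : ∀ A' : Subgroup G, A' ≤ A → A' ⊔ M = Ab.comap (QuotientGroup.mk' M) → A' = A :=
    fun A' h1 h2 => le_antisymm h1 (hAmin.le_of_le h2 h1)
  have hAmap : A.map (QuotientGroup.mk' M) = Ab := by
    have h1 : (A ⊔ M).map (QuotientGroup.mk' M) = A.map (QuotientGroup.mk' M) := by
      rw [Subgroup.map_sup, QuotientGroup.map_mk'_self, sup_bot_eq]
    rw [← h1, hAsup]
    exact Subgroup.map_comap_eq_self_of_surjective (QuotientGroup.mk'_surjective M) Ab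
  have hcommM : ∀ a ∈ A, ∀ b ∈ A, a * b * a⁻¹ * b⁻¹ ∈ M := by
    intro a ha b hb
    have h1 : QuotientGroup.mk' M a ∈ Ab := hAmap ▸ Subgroup.mem_map_of_mem _ ha
    have h2 : QuotientGroup.mk' M b ∈ Ab := hAmap ▸ Subgroup.mem_map_of_mem _ hb
    have h3 : (⟨_, h1⟩ : Ab) * ⟨_, h2⟩ = ⟨_, h2⟩ * ⟨_, h1⟩ := hAb.is_comm.comm _ _
    have h4 : QuotientGroup.mk' M a * QuotientGroup.mk' M b =
        QuotientGroup.mk' M b * QuotientGroup.mk' M a := congrArg Subtype.val h3
    apply (QuotientGroup.eq_one_iff _).mp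
    show QuotientGroup.mk' M (a * b * a⁻¹ * b⁻¹) = 1
    rw [map_mul, map_mul, map_mul, map_inv, map_inv, h4]; group
  have hsupp : ∀ X : Subgroup ↥A, X ⊔ M.subgroupOf A = ⊤ → X = ⊤ := by
    intro X hX
    have h1 : A ≤ X.map A.subtype ⊔ M := by
      intro a ha
      have h2 : (⟨a, ha⟩ : ↥A) ∈ X ⊔ M.subgroupOf A := by rw [hX]; trivial
      obtain ⟨x, hx, m, hm, hxm⟩ := (Cfsg.Agent.S0001.mem_sup_normal X (M.subgroupOf A) _).1 h2
      have h3 : a = (x : G) * (m : G) := congrArg Subtype.val hxm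
      rw [h3]
      exact Subgroup.mul_mem _ (Subgroup.mem_sup_left (Subgroup.mem_map_of_mem _ hx))
        (Subgroup.mem_sup_right (Subgroup.mem_subgroupOf.mp hm))
    have h4 : X.map A.subtype ⊔ M = Ab.comap (QuotientGroup.mk' M) := by
      apply le_antisymm
      · rw [← hAsup]; exact sup_le ((Subgroup.map_subtype_le X).trans le_sup_left) le_sup_right
      · rw [← hAsup]; exact sup_le h1 le_sup_right
    have h5 := hmin _ (Subgroup.map_subtype_le X) h4
    rw [eq_top_iff]
    intro y _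
    have h6 : (y : G) ∈ X.map A.subtype := by rw [h5]; exact y.2
    obtain ⟨x, hx, hxy⟩ := Subgroup.mem_map.mp h6
    have h7 : x = y := Subtype.ext hxy
    rw [← h7]; exact hx
  have hcommM' : ∀ a b : ↥A, a * b * a⁻¹ * b⁻¹ ∈ M.subgroupOf A := by
    intro a b
    rw [Subgroup.mem_subgroupOf]
    exact hcommM a a.2 b b.2
  have hnormal : ∀ (p : ℕ) [Fact p.Prime] (S : Sylow p ↥A), (S : Subgroup ↥A).Normal := by
    intro p _ S
    haveI hTn : ((S : Subgroup ↥A) ⊔ M.subgroupOf A).Normal := by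
      constructor
      intro t ht a
      have h1 : a * t * a⁻¹ = (a * t * a⁻¹ * t⁻¹) * t := by group
      rw [h1]
      exact Subgroup.mul_mem _ (Subgroup.mem_sup_right (hcommM' a t)) ht
    have h2 := Sylow.normalizer_sup_eq_top' S
      (le_sup_left : (S : Subgroup ↥A) ≤ (S : Subgroup ↥A) ⊔ M.subgroupOf A)
    have h3 : Subgroup.normalizer ((S : Subgroup ↥A) : Set ↥A) ⊔ M.subgroupOf A = ⊤ := by
      rw [eq_top_iff, ← h2]
      exact sup_le le_sup_left (sup_le (Subgroup.le_normalizer.trans le_sup_left) le_sup_right)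
    exact Subgroup.normalizer_eq_top_iff.mp (hsupp _ h3)
  have htriv : ∀ (p : ℕ) [Fact p.Prime] (S : Sylow p ↥A),
      (S : Subgroup ↥A) ≤ M.subgroupOf A → (S : Subgroup ↥A) = ⊥ := by
    intro p _ S hS
    haveI := hnormal p S
    obtain ⟨K, hK⟩ := Subgroup.exists_right_complement'_of_coprime S.card_coprime_index
    have h1 : K ⊔ M.subgroupOf A = ⊤ := by
      rw [eq_top_iff, ← hK.sup_eq_top]
      exact sup_le (hS.trans le_sup_right) le_sup_left
    have h2 := hsupp K h1
    have h3 := hK.disjoint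
    rw [h2] at h3
    exact disjoint_top.mp h3
  have hScomm : ∀ (p : ℕ) [Fact p.Prime] (S : Sylow p ↥A), ∀ x ∈ (S : Subgroup ↥A),
      ∀ y ∈ (S : Subgroup ↥A), x * y = y * x := by
    intro p _ S x hx y hy
    have hpp : p.Prime := Fact.out
    by_cases hSM : (S : Subgroup ↥A) ≤ M.subgroupOf A
    · have h1 := htriv p S hSM
      rw [h1] at hx hy
      rw [Subgroup.mem_bot.mp hx, Subgroup.mem_bot.mp hy]
    by_cases hpM : p ∣ Nat.card M
    · obtain ⟨s, hs, hsM⟩ := SetLike.not_le_iff_exists.mp hSM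
      obtain ⟨P, hP⟩ := (S.2.map A.subtype).exists_le_sylow
      have hPM : ¬ (P : Subgroup G) ≤ M := fun h =>
        hsM (Subgroup.mem_subgroupOf.mpr (h (hP (Subgroup.mem_map_of_mem _ hs))))
      haveI := sylow_cyclic_of_not_le hB M hM hpM P hPM
      have h1 := cyc_comm (⟨(x : G), hP (Subgroup.mem_map_of_mem _ hx)⟩ : ↥(P : Subgroup G))
        ⟨(y : G), hP (Subgroup.mem_map_of_mem _ hy)⟩
      have h2 : (x : G) * (y : G) = (y : G) * (x : G) := congrArg Subtype.val h1
      exact Subtype.ext h2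
    · have hc := hcommM' x y
      have hcS : x * y * x⁻¹ * y⁻¹ ∈ (S : Subgroup ↥A) :=
        Subgroup.mul_mem _ (Subgroup.mul_mem _ (Subgroup.mul_mem _ hx hy) (Subgroup.inv_mem _ hx))
          (Subgroup.inv_mem _ hy)
      have h1 : x * y * x⁻¹ * y⁻¹ = 1 := by
        obtain ⟨k, hk⟩ := S.2 ⟨_, hcS⟩
        have hk' : (x * y * x⁻¹ * y⁻¹) ^ p ^ k = 1 := congrArg Subtype.val hk
        have hd1 : orderOf (x * y * x⁻¹ * y⁻¹) ∣ p ^ k := orderOf_dvd_of_pow_eq_one hk'
        have hd2 : orderOf (x * y * x⁻¹ * y⁻¹) ∣ Nat.card M := by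
          have h3 : orderOf (⟨_, hc⟩ : ↥(M.subgroupOf A)) ∣ Nat.card (M.subgroupOf A) :=
            orderOf_dvd_natCard _
          rw [Subgroup.orderOf_mk] at h3
          exact h3.trans (Cfsg.Agent.S0001.card_subgroupOf_dvd M A)
        have hco : (p ^ k).Coprime (Nat.card M) :=
          Nat.Coprime.pow_left k ((Nat.Prime.coprime_iff_not_dvd hpp).mpr hpM)
        exact orderOf_eq_one_iff.mp (Nat.eq_one_of_dvd_coprimes hco hd1 hd2)
      calc x * y = (x * y * x⁻¹ * y⁻¹) * (y * x) := by group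
        _ = y * x := by rw [h1, one_mul]
  have hAcomm : ∀ x y : ↥A, x * y = y * x := by
    have h4 : ∀ (p : ℕ) (_hp : Fact p.Prime) (P : Sylow p ↥A), (P : Subgroup ↥A).Normal :=
      fun p hp P => @hnormal p hp P
    obtain ⟨e⟩ := ((Group.isNilpotent_of_finite_tfae (G := ↥A)).out 3 4).mp h4
    intro x y
    have h5 : e.symm x * e.symm y = e.symm y * e.symm x := by
      funext q
      funext P
      haveI : Fact (q : ℕ).Prime := ⟨Nat.prime_of_mem_primeFactors q.2⟩
      have h6 := hScomm q P ((e.symm x) q P) ((e.symm x) q P).2 ((e.symm y) q P) ((e.symm y) q P).2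
      exact Subtype.ext h6
    have h7 := congrArg e h5
    rw [map_mul, map_mul, e.apply_symm_apply, e.apply_symm_apply] at h7
    exact h7
  refine ⟨A, ⟨⟨hAcomm⟩⟩, hAmap, ?_⟩
  intro p hp
  haveI : Fact p.Prime := ⟨hp⟩
  obtain ⟨S⟩ : Nonempty (Sylow p ↥A) := inferInstance
  have hcardA := card_map_mk M A
  rw [hAmap] at hcardA
  have hfac : (Nat.card A).factorization p = (Nat.card Ab).factorization p +
      (Nat.card (A ⊓ M : Subgroup G)).factorization p := by
    rw [← hcardA, Nat.factorization_mul Nat.card_pos.ne' Nat.card_pos.ne']; rfl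
  have hScard : Nat.card (S : Subgroup ↥A) = p ^ (Nat.card A).factorization p :=
    S.card_eq_multiplicity
  have hSne : (S : Subgroup ↥A) = ⊥ → (Nat.card A).factorization p = 0 := by
    intro h
    rw [h, Subgroup.card_bot] at hScard
    by_contra h0
    have h1 := Nat.one_lt_pow h0 hp.one_lt
    omega
  by_cases hpn : p ∣ Nat.card Ab
  · rw [if_pos hpn, hfac]
    congr 1
    by_cases hpM : p ∣ Nat.card M
    · have hSM : ¬ (S : Subgroup ↥A) ≤ M.subgroupOf A := by
        intro h
        have h0 := hSne (htriv p S h)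
        have h1 : p ∣ Nat.card A := hpn.trans (Dvd.intro _ hcardA)
        have h2 : 1 ≤ (Nat.card A).factorization p :=
          (Nat.Prime.pow_dvd_iff_le_factorization hp Nat.card_pos.ne').mp (by simpa using h1)
        omega
      obtain ⟨s, hs, hsM⟩ := SetLike.not_le_iff_exists.mp hSM
      obtain ⟨P, hP⟩ := (S.2.map A.subtype).exists_le_sylow
      have hsM' : (s : G) ∉ M := fun h => hsM (Subgroup.mem_subgroupOf.mpr h)
      have hPM : ¬ (P : Subgroup G) ≤ M := fun h =>
        hsM' (h (hP (Subgroup.mem_map_of_mem _ hs)))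
      haveI := sylow_cyclic_of_not_le hB M hM hpM P hPM
      have hchain := cyc_chain (P : Subgroup G) ((S : Subgroup ↥A).map A.subtype)
        ((P : Subgroup G) ⊓ M) P.2 hP inf_le_left
      have hle : (P : Subgroup G) ⊓ M ≤ A ⊓ M := by
        rcases hchain with h | h
        · exact absurd (h (Subgroup.mem_map_of_mem _ hs)).2 hsM'
        · exact le_inf (h.trans (Subgroup.map_subtype_le _)) inf_le_right
      apply le_antisymm
      · exact (Nat.factorization_le_iff_dvd Nat.card_pos.ne' Nat.card_pos.ne').mpr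
          (Subgroup.card_dvd_of_le inf_le_right) p
      · rw [← Nat.Prime.pow_dvd_iff_le_factorization hp Nat.card_pos.ne', ← card_sylow_inf M P]
        exact Subgroup.card_dvd_of_le hle
    · rw [Nat.factorization_eq_zero_of_not_dvd hpM]
      exact Nat.factorization_eq_zero_of_not_dvd
        (fun h => hpM (h.trans (Subgroup.card_dvd_of_le inf_le_right)))
  · rw [if_neg hpn]
    apply hSne
    apply htriv p S
    intro s hs
    rw [Subgroup.mem_subgroupOf]
    apply (QuotientGroup.eq_one_iff _).mp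
    have h1 : QuotientGroup.mk' M (s : G) ∈ Ab := hAmap ▸ Subgroup.mem_map_of_mem _ s.2
    obtain ⟨k, hk⟩ := S.2 ⟨s, hs⟩
    have hk0 : s ^ p ^ k = 1 := congrArg Subtype.val hk
    have hk' : (s : G) ^ p ^ k = 1 := congrArg Subtype.val hk0
    have hd1 : orderOf (QuotientGroup.mk' M (s : G)) ∣ p ^ k :=
      orderOf_dvd_of_pow_eq_one (by rw [← map_pow, hk', map_one])
    have hd2 : orderOf (QuotientGroup.mk' M (s : G)) ∣ Nat.card Ab := by
      have h3 : orderOf (⟨_, h1⟩ : ↥Ab) ∣ Nat.card Ab := orderOf_dvd_natCard _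
      rw [Subgroup.orderOf_mk] at h3
      exact h3
    have hco : (p ^ k).Coprime (Nat.card Ab) :=
      Nat.Coprime.pow_left k ((Nat.Prime.coprime_iff_not_dvd hp).mpr hpn)
    exact orderOf_eq_one_iff.mp (Nat.eq_one_of_dvd_coprimes hco hd1 hd2)

theorem quot_main
    (hB : ∀ A B : Subgroup G, IsMulCommutative ↥A → IsMulCommutative ↥B →
      Nat.card ↥A = Nat.card ↥B → ∃ g : G, B = A.map (MulAut.conj g).toMonoidHom)
    (M : Subgroup G) [hMn : M.Normal] (hM : Odd (Nat.card ↥M)) :
    ∀ A B : Subgroup (G ⧸ M), IsMulCommutative ↥A → IsMulCommutative ↥B →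
      Nat.card ↥A = Nat.card ↥B → ∃ g : G ⧸ M, B = A.map (MulAut.conj g).toMonoidHom := by
  intro Ab Bb hA hBb hc
  obtain ⟨A, hA1, hA2, hA3⟩ := exists_lift hB M hM Ab hA
  obtain ⟨B, hB1, hB2, hB3⟩ := exists_lift hB M hM Bb hBb
  have hcard : Nat.card A = Nat.card B := by
    apply Nat.eq_of_factorization_eq Nat.card_pos.ne' Nat.card_pos.ne'
    intro p
    by_cases hp : p.Prime
    · rw [hA3 p hp, hB3 p hp, hc]
    · rw [Nat.factorization_eq_zero_of_not_prime _ hp, Nat.factorization_eq_zero_of_not_prime _ hp]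
  obtain ⟨g, hg⟩ := hB A B hA1 hB1 hcard
  refine ⟨QuotientGroup.mk' M g, ?_⟩
  rw [← hA2, ← hB2, hg, Subgroup.map_map, Subgroup.map_map]
  congr 1

end

end Cfsg.Agent.Helper8.AbConj
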