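import Mathlib
import Cfsg.Agent.Helper8.AbConj

set_option autoImplicit false

/-! # Wielandt's order formula: basics (fixed points, invariance, restriction, quotients) -/

namespace Cfsg.Agent.Helper8.Wielandt

/-- Two commuting permutations of `p`-power order on a set of size prime to `p` have a common
fixed point. -/
theorem perm_fixed2 {T : Type*} [Finite T] (p : ℕ) [Fact p.Prime] (σ τ : Equiv.Perm T)
    (hσ : σ ^ p = 1) (hτ : τ ^ p = 1) (hc : Commute σ τ) (hT : ¬ p ∣ Nat.card T) :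
    ∃ t, σ t = t ∧ τ t = t := by
  have hpz : ∀ ρ : Equiv.Perm T, ρ ^ p = 1 → IsPGroup p ↥(Subgroup.zpowers ρ) := by
    intro ρ hρ g
    refine ⟨1, Subtype.ext ?_⟩
    obtain ⟨k, hk⟩ := Subgroup.mem_zpowers_iff.mp g.2
    rw [pow_one, Subgroup.coe_pow, ← hk, ← zpow_natCast, ← zpow_mul, mul_comm, zpow_mul,
      zpow_natCast, hρ, one_zpow]
    rfl
  have hnorm : Subgroup.zpowers σ ≤ Subgroup.normalizer (Subgroup.zpowers τ : Set _) := by
    intro g hg
    obtain ⟨k, rfl⟩ := Subgroup.mem_zpowers_iff.mp hg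
    rw [Subgroup.mem_normalizer_iff]
    intro h
    have hcomm : ∀ l : ℤ, σ ^ k * τ ^ l * (σ ^ k)⁻¹ = τ ^ l := by
      intro l
      rw [(hc.zpow_zpow k l).eq, mul_inv_cancel_right]
    constructor
    · intro hh
      obtain ⟨l, rfl⟩ := Subgroup.mem_zpowers_iff.mp hh
      rw [hcomm]
      exact hh
    · intro hh
      obtain ⟨l, hl⟩ := Subgroup.mem_zpowers_iff.mp hh
      have h2 : h = τ ^ l := by
        have h3 : σ ^ k * h * (σ ^ k)⁻¹ = σ ^ k * τ ^ l * (σ ^ k)⁻¹ := by rw [← hl, hcomm]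
        exact mul_left_cancel (mul_right_cancel h3)
      rw [h2]
      exact zpow_mem (Subgroup.mem_zpowers τ) l
  have hP : IsPGroup p ↥(Subgroup.zpowers σ ⊔ Subgroup.zpowers τ) :=
    IsPGroup.to_sup_of_normal_right' (hpz σ hσ) (hpz τ hτ) hnorm
  obtain ⟨t, ht⟩ := hP.nonempty_fixed_point_of_prime_not_dvd_card T hT
  refine ⟨t, ?_, ?_⟩
  · exact ht ⟨σ, Subgroup.mem_sup_left (Subgroup.mem_zpowers σ)⟩
  · exact ht ⟨τ, Subgroup.mem_sup_right (Subgroup.mem_zpowers τ)⟩

variable {L : Type*} [Group L]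

/-- Fixed points of an automorphism. -/
def fix (γ : MulAut L) : Subgroup L where
  carrier := {x | γ x = x}
  mul_mem' := fun {a b} ha hb => by
    show γ (a * b) = a * b
    rw [map_mul, (ha : γ a = a), (hb : γ b = b)]
  one_mem' := map_one γ
  inv_mem' := fun {a} ha => by
    show γ a⁻¹ = a⁻¹
    rw [map_inv, (ha : γ a = a)]

theorem mem_fix {γ : MulAut L} {x : L} : x ∈ fix γ ↔ γ x = x := Iff.rfl

theorem fix_pow {γ : MulAut L} {x : L} (h : x ∈ fix γ) (k : ℕ) : x ∈ fix (γ ^ k) := by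
  induction k with
  | zero => rw [pow_zero]; rfl
  | succ k ih =>
    show (γ ^ (k + 1)) x = x
    rw [pow_succ, MulAut.mul_apply, (h : γ x = x)]
    exact ih

theorem fix_mul {γ δ : MulAut L} {x : L} (h : x ∈ fix γ) (h' : x ∈ fix δ) : x ∈ fix (γ * δ) := by
  show (γ * δ) x = x
  rw [MulAut.mul_apply, (h' : δ x = x)]
  exact h

/-- Invariance of a subgroup. -/
def Inv (γ : MulAut L) (S : Subgroup L) : Prop := ∀ x, γ x ∈ S ↔ x ∈ S

theorem Inv.one (S : Subgroup L) : Inv (1 : MulAut L) S := fun _ => Iff.rfl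

theorem Inv.mul {γ δ : MulAut L} {S : Subgroup L} (h : Inv γ S) (h' : Inv δ S) :
    Inv (γ * δ) S := fun x => by
  rw [MulAut.mul_apply, h, h']

theorem Inv.pow {γ : MulAut L} {S : Subgroup L} (h : Inv γ S) (k : ℕ) : Inv (γ ^ k) S := by
  induction k with
  | zero => rw [pow_zero]; exact Inv.one S
  | succ k ih => rw [pow_succ]; exact ih.mul h

theorem Inv.inv {γ : MulAut L} {S : Subgroup L} (h : Inv γ S) : Inv γ⁻¹ S := fun x => by
  rw [← h (γ⁻¹ x), MulAut.apply_inv_self]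

theorem Inv.inf {γ : MulAut L} {S T : Subgroup L} (h : Inv γ S) (h' : Inv γ T) :
    Inv γ (S ⊓ T) := fun x => by
  rw [Subgroup.mem_inf, Subgroup.mem_inf, h, h']

theorem Inv.top (γ : MulAut L) : Inv γ (⊤ : Subgroup L) := fun _ => by simp

theorem Inv.bot (γ : MulAut L) : Inv γ (⊥ : Subgroup L) := fun x => by
  rw [Subgroup.mem_bot, Subgroup.mem_bot, map_eq_one_iff γ γ.injective]

theorem Inv.fix {γ δ : MulAut L} (h : Commute γ δ) : Inv γ (fix δ) := fun x => by
  rw [mem_fix, mem_fix, ← MulAut.mul_apply, ← h.eq, MulAut.mul_apply]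
  exact γ.injective.eq_iff

theorem Inv.center (γ : MulAut L) : Inv γ (Subgroup.center L) := fun x => by
  rw [Subgroup.mem_center_iff, Subgroup.mem_center_iff]
  constructor
  · intro h g
    have := h (γ g)
    rw [← map_mul, ← map_mul] at this
    exact γ.injective this
  · intro h g
    have := h (γ⁻¹ g)
    have h2 := congrArg γ this
    rw [map_mul, map_mul, MulAut.apply_inv_self] at h2
    exact h2

theorem Inv.normalizer {γ : MulAut L} {S : Subgroup L} (h : Inv γ S) :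
    Inv γ (Subgroup.normalizer (S : Set L)) := fun x => by
  rw [Subgroup.mem_normalizer_iff, Subgroup.mem_normalizer_iff]
  constructor
  · intro hx g
    have := hx (γ g)
    rw [← map_inv, ← map_mul, ← map_mul] at this
    rw [← h g, this, h]
  · intro hx g
    have e : γ x * g * (γ x)⁻¹ = γ (x * γ⁻¹ g * x⁻¹) := by
      rw [map_mul, map_mul, map_inv, MulAut.apply_inv_self]
    rw [e, h, ← hx, h.inv]

/-- Restriction of an automorphism to an invariant subgroup. -/
def res (γ : MulAut L) (S : Subgroup L) (h : Inv γ S) : MulAut ↥S where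
  toFun := fun x => ⟨γ x, (h x).mpr x.2⟩
  invFun := fun x => ⟨γ⁻¹ x, (h.inv x).mpr x.2⟩
  left_inv := fun x => Subtype.ext (MulAut.inv_apply_self _ _ _)
  right_inv := fun x => Subtype.ext (MulAut.apply_inv_self _ _ _)
  map_mul' := fun x y => Subtype.ext (map_mul γ _ _)

theorem res_apply (γ : MulAut L) (S : Subgroup L) (h : Inv γ S) (x : ↥S) :
    ((res γ S h x : ↥S) : L) = γ x := rfl

theorem res_pow_apply (γ : MulAut L) (S : Subgroup L) (h : Inv γ S) (k : ℕ) (x : ↥S) :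
    (((res γ S h) ^ k) x : L) = (γ ^ k) x := by
  induction k generalizing x with
  | zero => rfl
  | succ k ih =>
    rw [pow_succ, pow_succ, MulAut.mul_apply, MulAut.mul_apply, ih, res_apply]

theorem res_pow_eq_one (γ : MulAut L) (S : Subgroup L) (h : Inv γ S) {p : ℕ} (hp : γ ^ p = 1) :
    (res γ S h) ^ p = 1 := by
  refine MulEquiv.ext (fun x => Subtype.ext ?_)
  rw [res_pow_apply, hp]
  rfl

theorem res_commute {γ δ : MulAut L} (S : Subgroup L) (h : Inv γ S) (h' : Inv δ S)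
    (hc : Commute γ δ) : Commute (res γ S h) (res δ S h') := by
  refine MulEquiv.ext (fun x => Subtype.ext ?_)
  show γ (δ x) = δ (γ x)
  rw [← MulAut.mul_apply, hc.eq, MulAut.mul_apply]

theorem fix_res (γ : MulAut L) (S : Subgroup L) (h : Inv γ S) :
    fix (res γ S h) = (fix γ).subgroupOf S := by
  ext x
  rw [mem_fix, Subgroup.mem_subgroupOf, mem_fix, Subtype.ext_iff, res_apply]

theorem fix_res_pow_mul (γ δ : MulAut L) (S : Subgroup L) (h : Inv γ S) (h' : Inv δ S)
    (k : ℕ) : fix ((res γ S h) ^ k * res δ S h') = (fix (γ ^ k * δ)).subgroupOf S := by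
  ext x
  rw [mem_fix, Subgroup.mem_subgroupOf, mem_fix, Subtype.ext_iff, MulAut.mul_apply,
    res_pow_apply, res_apply, MulAut.mul_apply]

theorem card_subgroupOf (H S : Subgroup L) :
    Nat.card ↥(H.subgroupOf S) = Nat.card ↥(S ⊓ H) := by
  rw [← Subgroup.inf_subgroupOf_left]
  exact Nat.card_congr (Subgroup.subgroupOfEquivOfLe inf_le_left).toEquiv

/-- Two commuting automorphisms of order dividing `p` have a common fixed point in every
invariant subset of size prime to `p`. -/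
theorem set_fixed2 [Finite L] (p : ℕ) [Fact p.Prime] (α β : MulAut L) (hα : α ^ p = 1)
    (hβ : β ^ p = 1) (hc : Commute α β) (T : Set L) (hTα : ∀ x, α x ∈ T ↔ x ∈ T)
    (hTβ : ∀ x, β x ∈ T ↔ x ∈ T) (hT : ¬ p ∣ Nat.card T) : ∃ t ∈ T, α t = t ∧ β t = t := by
  let σ : Equiv.Perm ↥T := Equiv.Perm.subtypePerm α.toEquiv hTα
  let τ : Equiv.Perm ↥T := Equiv.Perm.subtypePerm β.toEquiv hTβ
  have hσk : ∀ (k : ℕ) (x : ↥T), (((σ ^ k) x : ↥T) : L) = (α ^ k) x := by
    intro k
    induction k with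
    | zero => intro x; rfl
    | succ k ih =>
      intro x
      rw [pow_succ, pow_succ, Equiv.Perm.mul_apply, MulAut.mul_apply, ih]
      rfl
  have hτk : ∀ (k : ℕ) (x : ↥T), (((τ ^ k) x : ↥T) : L) = (β ^ k) x := by
    intro k
    induction k with
    | zero => intro x; rfl
    | succ k ih =>
      intro x
      rw [pow_succ, pow_succ, Equiv.Perm.mul_apply, MulAut.mul_apply, ih]
      rfl
  have hσ : σ ^ p = 1 := by
    refine Equiv.ext (fun x => Subtype.ext ?_)
    rw [hσk, hα]; rfl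
  have hτ : τ ^ p = 1 := by
    refine Equiv.ext (fun x => Subtype.ext ?_)
    rw [hτk, hβ]; rfl
  have hcc : Commute σ τ := by
    refine Equiv.ext (fun x => Subtype.ext ?_)
    show α (β x) = β (α x)
    rw [← MulAut.mul_apply, hc.eq, MulAut.mul_apply]
  obtain ⟨t, h1, h2⟩ := perm_fixed2 p σ τ hσ hτ hcc hT
  exact ⟨t.1, t.2, congrArg Subtype.val h1, congrArg Subtype.val h2⟩

section quot

variable (N : Subgroup L) [N.Normal]

theorem map_eq_of_inv {γ : MulAut L} (h : Inv γ N) :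
    Subgroup.map (MulEquiv.toMonoidHom γ) N = N := by
  ext x
  rw [Subgroup.mem_map]
  constructor
  · rintro ⟨y, hy, rfl⟩
    exact (h y).mpr hy
  · intro hx
    exact ⟨γ⁻¹ x, (h.inv x).mpr hx, MulAut.apply_inv_self _ _ _⟩

/-- The induced automorphism of the quotient. -/
def qa (γ : MulAut L) (h : Inv γ N) : MulAut (L ⧸ N) :=
  QuotientGroup.congr N N γ (map_eq_of_inv N h)

theorem qa_mk (γ : MulAut L) (h : Inv γ N) (x : L) :
    qa N γ h (x : L ⧸ N) = ((γ x : L) : L ⧸ N) := rfl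

theorem qa_ext {φ ψ : MulAut (L ⧸ N)} (h : ∀ x : L, φ (x : L ⧸ N) = ψ (x : L ⧸ N)) : φ = ψ :=
  MulEquiv.ext (fun y => QuotientGroup.induction_on y h)

theorem qa_pow_mk (γ : MulAut L) (h : Inv γ N) (k : ℕ) (x : L) :
    ((qa N γ h) ^ k) (x : L ⧸ N) = (((γ ^ k) x : L) : L ⧸ N) := by
  induction k generalizing x with
  | zero => rfl
  | succ k ih =>
    rw [pow_succ, pow_succ, MulAut.mul_apply, MulAut.mul_apply, qa_mk, ih]

theorem qa_pow_eq_one (γ : MulAut L) (h : Inv γ N) {p : ℕ} (hp : γ ^ p = 1) :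
    (qa N γ h) ^ p = 1 := by
  refine qa_ext N (fun x => ?_)
  rw [qa_pow_mk, hp]
  rfl

theorem qa_commute {γ δ : MulAut L} (h : Inv γ N) (h' : Inv δ N) (hc : Commute γ δ) :
    Commute (qa N γ h) (qa N δ h') := by
  refine qa_ext N (fun x => ?_)
  rw [MulAut.mul_apply, MulAut.mul_apply, qa_mk, qa_mk, qa_mk, qa_mk, ← MulAut.mul_apply,
    hc.eq, MulAut.mul_apply]

theorem qa_pow_mul (γ δ : MulAut L) (h : Inv γ N) (h' : Inv δ N) (k : ℕ) :
    (qa N γ h) ^ k * qa N δ h' = qa N (γ ^ k * δ) ((h.pow k).mul h') := by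
  refine qa_ext N (fun x => ?_)
  rw [MulAut.mul_apply, qa_mk, qa_pow_mk, qa_mk, MulAut.mul_apply]

theorem fix_qa2 [Finite L] (p : ℕ) [Fact p.Prime] (hN : ¬ p ∣ Nat.card N) (α β : MulAut L)
    (hα : α ^ p = 1) (hβ : β ^ p = 1) (hc : Commute α β) (hαN : Inv α N) (hβN : Inv β N) :
    fix (qa N α hαN) ⊓ fix (qa N β hβN) = (fix α ⊓ fix β).map (QuotientGroup.mk' N) := by
  ext y
  rw [Subgroup.mem_inf, Subgroup.mem_map]
  constructor
  · rintro ⟨h1, h2⟩
    obtain ⟨x, rfl⟩ := QuotientGroup.mk_surjective y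
    rw [mem_fix, qa_mk, eq_comm, QuotientGroup.eq] at h1 h2
    let T : Set L := {t | x⁻¹ * t ∈ N}
    have hT : ∀ (γ : MulAut L), Inv γ N → x⁻¹ * γ x ∈ N → ∀ t, γ t ∈ T ↔ t ∈ T := by
      intro γ hγ hx t
      show x⁻¹ * γ t ∈ N ↔ x⁻¹ * t ∈ N
      have e : x⁻¹ * γ t = (x⁻¹ * γ x) * γ (x⁻¹ * t) := by
        rw [map_mul, map_inv]; group
      rw [e, Subgroup.mul_mem_cancel_left N hx, hγ]
    have hcard : Nat.card ↥T = Nat.card ↥N := by
      refine Nat.card_congr
        { toFun := fun t => ⟨x⁻¹ * t.1, t.2⟩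
          invFun := fun n => ⟨x * n.1, by
            show x⁻¹ * (x * n.1) ∈ N
            rw [inv_mul_cancel_left]; exact n.2⟩
          left_inv := fun t => Subtype.ext (mul_inv_cancel_left _ _)
          right_inv := fun n => Subtype.ext (inv_mul_cancel_left _ _) }
    obtain ⟨t, htT, h3, h4⟩ := set_fixed2 p α β hα hβ hc T (hT α hαN h1) (hT β hβN h2)
      (by rw [hcard]; exact hN)
    refine ⟨t, ⟨h3, h4⟩, ?_⟩
    exact (QuotientGroup.eq.mpr htT).symm
  · rintro ⟨t, ⟨h1, h2⟩, rfl⟩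
    constructor
    · show qa N α hαN (t : L ⧸ N) = _
      rw [qa_mk, (h1 : α t = t)]; rfl
    · show qa N β hβN (t : L ⧸ N) = _
      rw [qa_mk, (h2 : β t = t)]; rfl

theorem fix_qa [Finite L] (p : ℕ) [Fact p.Prime] (hN : ¬ p ∣ Nat.card N) (γ : MulAut L)
    (hγ : γ ^ p = 1) (hγN : Inv γ N) :
    fix (qa N γ hγN) = (fix γ).map (QuotientGroup.mk' N) := by
  have h := fix_qa2 N p hN γ γ hγ hγ (Commute.refl γ) hγN hγN
  rw [inf_idem, inf_idem] at h
  exact h

end quot

/-- Wielandt's formula for a group with two commuting automorphisms. -/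
def W (p : ℕ) (α β : MulAut L) : Prop :=
  Nat.card L * Nat.card ↥(fix α ⊓ fix β) ^ p =
    Nat.card ↥(fix α) * ∏ i ∈ Finset.range p, Nat.card ↥(fix (α ^ i * β))

/-- Wielandt's formula relative to an invariant subgroup. -/
def Wrel (p : ℕ) (α β : MulAut L) (K : Subgroup L) : Prop :=
  Nat.card ↥K * Nat.card ↥(K ⊓ (fix α ⊓ fix β)) ^ p =
    Nat.card ↥(K ⊓ fix α) * ∏ i ∈ Finset.range p, Nat.card ↥(K ⊓ fix (α ^ i * β))

theorem W_res_iff (p : ℕ) (α β : MulAut L) (K : Subgroup L) (hα : Inv α K) (hβ : Inv β K) :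
    W p (res α K hα) (res β K hβ) ↔ Wrel p α β K := by
  unfold W Wrel
  have h1 : fix (res α K hα) ⊓ fix (res β K hβ) = (fix α ⊓ fix β).subgroupOf K := by
    rw [fix_res, fix_res]
    ext x
    rw [Subgroup.mem_inf, Subgroup.mem_subgroupOf, Subgroup.mem_subgroupOf,
      Subgroup.mem_subgroupOf, Subgroup.mem_inf]
  have h2 : ∀ i : ℕ, Nat.card ↥(fix ((res α K hα) ^ i * res β K hβ)) =
      Nat.card ↥(K ⊓ fix (α ^ i * β)) := by
    intro i
    rw [fix_res_pow_mul, card_subgroupOf]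
  rw [h1, card_subgroupOf, fix_res, card_subgroupOf]
  simp only [h2]

end Cfsg.Agent.Helper8.Wielandt
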