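import Mathlib
import Cfsg.Agent.Helper8.Wielandt

set_option autoImplicit false
open scoped Pointwise

/-! # Wielandt's order formula: invariant Sylow subgroups -/

namespace Cfsg.Agent.Helper8.Wielandt

variable {L : Type*} [Group L] [Finite L]

theorem inv_of_forall (γ : MulAut L) (S : Subgroup L) (h : ∀ x ∈ S, γ x ∈ S) : Inv γ S := by
  intro x
  refine ⟨fun hx => ?_, h x⟩
  let f : ↥S → ↥S := fun y => ⟨γ y, h y y.2⟩
  have hf : Function.Injective f := fun a b hab =>
    Subtype.ext (γ.injective (congrArg Subtype.val hab))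
  obtain ⟨y, hy⟩ := (Finite.injective_iff_surjective.mp hf) ⟨γ x, hx⟩
  have h2 : γ y = γ x := congrArg Subtype.val hy
  rw [← γ.injective h2]
  exact y.2

theorem inv_of_smul {q : ℕ} (γ : MulAut L) (P : Sylow q L) (h : γ • P = P) :
    Inv γ (P : Subgroup L) := by
  have e2 : γ • (P : Subgroup L) = (P : Subgroup L) := by
    rw [← Sylow.pointwise_smul_def, h]
  intro x
  constructor
  · intro hx
    rw [← e2] at hx
    exact Subgroup.smul_mem_pointwise_smul_iff.mp hx
  · intro hx
    rw [← e2]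
    exact Subgroup.smul_mem_pointwise_smul_iff.mpr hx

theorem smul_of_inv {q : ℕ} (γ : MulAut L) (P : Sylow q L) (h : Inv γ (P : Subgroup L)) :
    γ • P = P := by
  apply Sylow.ext
  rw [Sylow.pointwise_smul_def]
  ext x
  rw [Subgroup.mem_pointwise_smul_iff_inv_smul_mem]
  exact h.inv x

/-- An invariant Sylow subgroup exists. -/
theorem exists_inv_sylow (p : ℕ) [Fact p.Prime] (α β : MulAut L) (hα : α ^ p = 1)
    (hβ : β ^ p = 1) (hc : Commute α β) (hcop : ¬ p ∣ Nat.card L) (q : ℕ) [Fact q.Prime] :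
    ∃ P : Sylow q L, Inv α (P : Subgroup L) ∧ Inv β (P : Subgroup L) := by
  let φ := MulAction.toPermHom (MulAut L) (Sylow q L)
  have h1 : (φ α) ^ p = 1 := by rw [← map_pow, hα, map_one]
  have h2 : (φ β) ^ p = 1 := by rw [← map_pow, hβ, map_one]
  have h3 : Commute (φ α) (φ β) := hc.map φ
  have h4 : ¬ p ∣ Nat.card (Sylow q L) := by
    intro h
    obtain ⟨P0⟩ : Nonempty (Sylow q L) := inferInstance
    exact hcop (h.trans ((Sylow.card_dvd_index P0).trans (Subgroup.index_dvd_card _)))
  obtain ⟨P, hP1, hP2⟩ := perm_fixed2 p (φ α) (φ β) h1 h2 h3 h4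
  exact ⟨P, inv_of_smul α P hP1, inv_of_smul β P hP2⟩

/-- An invariant Sylow subgroup of an invariant subgroup exists. -/
theorem exists_inv_sylow_in (p : ℕ) [Fact p.Prime] (α β : MulAut L) (hα : α ^ p = 1)
    (hβ : β ^ p = 1) (hc : Commute α β) (hcop : ¬ p ∣ Nat.card L) (q : ℕ) [Fact q.Prime]
    (M : Subgroup L) (hαM : Inv α M) (hβM : Inv β M) :
    ∃ S : Subgroup L, S ≤ M ∧ IsPGroup q S ∧ Inv α S ∧ Inv β S ∧
      Nat.card S = q ^ (Nat.card M).factorization q := by
  have hcopM : ¬ p ∣ Nat.card M := fun h => hcop (h.trans (Subgroup.card_subgroup_dvd_card M))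
  obtain ⟨P, hP1, hP2⟩ := exists_inv_sylow p (res α M hαM) (res β M hβM)
    (res_pow_eq_one α M hαM hα) (res_pow_eq_one β M hβM hβ) (res_commute M hαM hβM hc) hcopM q
  refine ⟨(P : Subgroup ↥M).map M.subtype, Subgroup.map_subtype_le _, P.isPGroup'.map _, ?_, ?_,
    ?_⟩
  · apply inv_of_forall
    rintro _ ⟨y, hy, rfl⟩
    exact ⟨res α M hαM y, (hP1 y).mpr hy, rfl⟩
  · apply inv_of_forall
    rintro _ ⟨y, hy, rfl⟩
    exact ⟨res β M hβM y, (hP2 y).mpr hy, rfl⟩
  · rw [Subgroup.card_map_of_injective M.subtype_injective]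
    exact P.card_eq_multiplicity

/-- An invariant `q`-subgroup lies in an invariant Sylow `q`-subgroup. -/
theorem exists_inv_sylow_ge (p : ℕ) [Fact p.Prime] (α β : MulAut L) (hα : α ^ p = 1)
    (hβ : β ^ p = 1) (hc : Commute α β) (hcop : ¬ p ∣ Nat.card L) (q : ℕ) [Fact q.Prime]
    (S : Subgroup L) (hS : IsPGroup q S) (hαS : Inv α S) (hβS : Inv β S) :
    ∃ P : Sylow q L, S ≤ (P : Subgroup L) ∧ Inv α (P : Subgroup L) ∧ Inv β (P : Subgroup L) := by
  have hq : q.Prime := Fact.out
  induction S using WellFoundedGT.induction with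
  | ind S ih =>
    by_cases hcard : Nat.card S = q ^ (Nat.card L).factorization q
    · refine ⟨Sylow.ofCard S hcard, ?_, ?_, ?_⟩
      · exact le_of_eq rfl
      · exact hαS
      · exact hβS
    · obtain ⟨T, hTN, hTq, hαT, hβT, hTcard⟩ := exists_inv_sylow_in p α β hα hβ hc hcop q
        (Subgroup.normalizer (S : Set L)) hαS.normalizer hβS.normalizer
      have hSN : S ≤ Subgroup.normalizer (S : Set L) := Subgroup.le_normalizer
      have hST : S ≤ T := by
        have h1 : IsPGroup q ↥(T ⊔ S) := IsPGroup.to_sup_of_normal_right' hTq hS hTN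
        obtain ⟨k, hk⟩ := IsPGroup.iff_card.mp h1
        have h2 : T ⊔ S ≤ Subgroup.normalizer (S : Set L) := sup_le hTN hSN
        have h3 : q ^ k ∣ Nat.card ↥(Subgroup.normalizer (S : Set L)) := by
          rw [← hk]; exact Subgroup.card_dvd_of_le h2
        have h4 : k ≤ (Nat.card ↥(Subgroup.normalizer (S : Set L))).factorization q :=
          (hq.pow_dvd_iff_le_factorization Nat.card_pos.ne').mp h3
        have h5 : Nat.card ↥(T ⊔ S) ≤ Nat.card ↥T := by
          rw [hk, hTcard]
          exact Nat.pow_le_pow_right hq.pos h4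
        have h6 : T ⊔ S = T := (Subgroup.eq_of_le_of_card_ge le_sup_left h5).symm
        rw [← h6]
        exact le_sup_right
      have hne : S ≠ T := by
        intro hST'
        obtain ⟨k, hk⟩ := IsPGroup.iff_card.mp hS
        have h3 : q ^ k ∣ Nat.card L := by
          rw [← hk]; exact Subgroup.card_subgroup_dvd_card S
        have h4 : k ≤ (Nat.card L).factorization q :=
          (hq.pow_dvd_iff_le_factorization Nat.card_pos.ne').mp h3
        have h5 : k ≠ (Nat.card L).factorization q := by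
          intro h
          rw [← h] at hcard
          exact hcard hk
        have h6 : q ^ (k + 1) ∣ Nat.card L :=
          (hq.pow_dvd_iff_le_factorization Nat.card_pos.ne').mpr (by omega)
        have h7 := Sylow.prime_dvd_card_quotient_normalizer h6 hk
        have h8 := Subgroup.card_eq_card_quotient_mul_card_subgroup
          (S.subgroupOf (Subgroup.normalizer (S : Set L)))
        have h9 : Nat.card ↥(S.subgroupOf (Subgroup.normalizer (S : Set L))) = Nat.card S :=
          Nat.card_congr (Subgroup.subgroupOfEquivOfLe hSN).toEquiv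
        rw [h9] at h8
        rw [hk] at h8
        have h11 : q ^ (k + 1) ∣ Nat.card ↥(Subgroup.normalizer (S : Set L)) := by
          rw [h8, pow_succ, mul_comm (q ^ k) q]
          exact Nat.mul_dvd_mul h7 (dvd_refl _)
        have h12 : k + 1 ≤ (Nat.card ↥(Subgroup.normalizer (S : Set L))).factorization q :=
          (hq.pow_dvd_iff_le_factorization Nat.card_pos.ne').mp h11
        have h13 : Nat.card T = q ^ k := by rw [← hST']; exact hk
        rw [hTcard] at h13
        have h14 := Nat.pow_right_injective hq.two_le h13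
        omega
      obtain ⟨P, hTP, hαP, hβP⟩ := ih T (lt_of_le_of_ne hST hne) hTq hαT hβT
      exact ⟨P, hST.trans hTP, hαP, hβP⟩

theorem conj_mul_aut (γ : MulAut L) (g : L) :
    MulAut.conj (γ g) = γ * MulAut.conj g * γ⁻¹ := by
  refine MulEquiv.ext (fun x => ?_)
  rw [MulAut.mul_apply, MulAut.mul_apply, MulAut.conj_apply, MulAut.conj_apply, map_mul,
    map_mul, map_inv, MulAut.apply_inv_self]

/-- Invariant Sylow subgroups are conjugate under a common fixed point. -/
theorem exists_conj_fixed (p : ℕ) [Fact p.Prime] (α β : MulAut L) (hα : α ^ p = 1)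
    (hβ : β ^ p = 1) (hc : Commute α β) (hcop : ¬ p ∣ Nat.card L) (q : ℕ) [Fact q.Prime]
    (P P' : Sylow q L) (hαP : Inv α (P : Subgroup L)) (hβP : Inv β (P : Subgroup L))
    (hαP' : Inv α (P' : Subgroup L)) (hβP' : Inv β (P' : Subgroup L)) :
    ∃ c : L, α c = c ∧ β c = c ∧ c • P = P' := by
  let T : Set L := {g | g • P = P'}
  have hT : ∀ (γ : MulAut L), Inv γ (P : Subgroup L) → Inv γ (P' : Subgroup L) →
      ∀ g, γ g ∈ T ↔ g ∈ T := by
    intro γ h1 h2 g
    show γ g • P = P' ↔ g • P = P'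
    have e1 : γ • P = P := smul_of_inv γ P h1
    have e2 : γ • P' = P' := smul_of_inv γ P' h2
    have e3 : γ⁻¹ • P = P := by
      rw [inv_smul_eq_iff, e1]
    have e4 : γ g • P = γ • (g • P) := by
      rw [Sylow.smul_def, conj_mul_aut, mul_smul, mul_smul, e3, ← Sylow.smul_def]
    rw [e4]
    constructor
    · intro h
      rw [← e2] at h
      exact smul_left_cancel γ h
    · intro h
      rw [h, e2]
  obtain ⟨g0, hg0⟩ := MulAction.exists_smul_eq L P P'
  have hcard : Nat.card ↥T = Nat.card ↥(MulAction.stabilizer L P) := by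
    refine Nat.card_congr
      { toFun := fun t => ⟨g0⁻¹ * t.1, by
          rw [MulAction.mem_stabilizer_iff, mul_smul, (t.2 : t.1 • P = P'), ← hg0,
            inv_smul_smul]⟩
        invFun := fun s => ⟨g0 * s.1, by
          show (g0 * s.1) • P = P'
          rw [mul_smul, MulAction.mem_stabilizer_iff.mp s.2, hg0]⟩
        left_inv := fun t => Subtype.ext (mul_inv_cancel_left _ _)
        right_inv := fun s => Subtype.ext (inv_mul_cancel_left _ _) }
  have hTc : ¬ p ∣ Nat.card ↥T := by
    rw [hcard]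
    exact fun h => hcop (h.trans (Subgroup.card_subgroup_dvd_card _))
  obtain ⟨c, hcT, h1, h2⟩ := set_fixed2 p α β hα hβ hc T (hT α hαP hαP') (hT β hβP hβP') hTc
  exact ⟨c, h1, h2, hcT⟩

/-- The intersection of an invariant Sylow subgroup with a suitable invariant subgroup is a
Sylow subgroup of the latter. -/
theorem sylow_inf_card (p : ℕ) [Fact p.Prime] (α β : MulAut L) (hα : α ^ p = 1)
    (hβ : β ^ p = 1) (hc : Commute α β) (hcop : ¬ p ∣ Nat.card L) (q : ℕ) [Fact q.Prime]
    (P : Sylow q L) (hαP : Inv α (P : Subgroup L)) (hβP : Inv β (P : Subgroup L))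
    (M : Subgroup L) (hαM : Inv α M) (hβM : Inv β M) (hM : fix α ⊓ fix β ≤ M) :
    Nat.card ↥((P : Subgroup L) ⊓ M) = q ^ (Nat.card M).factorization q := by
  have hq : q.Prime := Fact.out
  obtain ⟨S, hSM, hSq, hαS, hβS, hScard⟩ := exists_inv_sylow_in p α β hα hβ hc hcop q M hαM hβM
  obtain ⟨P', hSP', hαP', hβP'⟩ := exists_inv_sylow_ge p α β hα hβ hc hcop q S hSq hαS hβS
  obtain ⟨c, hc1, hc2, hcP⟩ := exists_conj_fixed p α β hα hβ hc hcop q P P' hαP hβP hαP' hβP'
  have hcM : c ∈ M := hM ⟨hc1, hc2⟩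
  have hle : S.map (MulAut.conj c⁻¹).toMonoidHom ≤ (P : Subgroup L) ⊓ M := by
    rintro _ ⟨s, hs, rfl⟩
    constructor
    · have h1 : s ∈ (P' : Subgroup L) := hSP' hs
      rw [← hcP, Sylow.smul_def, Sylow.pointwise_smul_def,
        Subgroup.mem_pointwise_smul_iff_inv_smul_mem] at h1
      have e : (MulAut.conj c)⁻¹ = MulAut.conj c⁻¹ := (map_inv MulAut.conj c).symm
      rw [e] at h1
      exact h1
    · show (MulAut.conj c⁻¹) s ∈ M
      rw [MulAut.conj_apply]
      exact M.mul_mem (M.mul_mem (M.inv_mem hcM) (hSM hs)) (by rw [inv_inv]; exact hcM)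
  have hcardS : Nat.card ↥(S.map (MulAut.conj c⁻¹).toMonoidHom) =
      q ^ (Nat.card M).factorization q := by
    rw [Subgroup.card_map_of_injective (MulAut.conj c⁻¹).injective, hScard]
  have hPM : IsPGroup q ↥((P : Subgroup L) ⊓ M) := P.isPGroup'.to_le inf_le_left
  obtain ⟨k, hk⟩ := IsPGroup.iff_card.mp hPM
  have h1 : q ^ k ∣ Nat.card M := by
    rw [← hk]; exact Subgroup.card_dvd_of_le inf_le_right
  have h2 : k ≤ (Nat.card M).factorization q :=
    (hq.pow_dvd_iff_le_factorization Nat.card_pos.ne').mp h1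
  have h3 : q ^ (Nat.card M).factorization q ∣ q ^ k := by
    rw [← hk, ← hcardS]; exact Subgroup.card_dvd_of_le hle
  have h4 : (Nat.card M).factorization q ≤ k := (Nat.pow_dvd_pow_iff_le_right hq.one_lt).mp h3
  rw [hk, le_antisymm h2 h4]

end Cfsg.Agent.Helper8.Wielandt
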