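import Mathlib
import Cfsg.Agent.Helper8.Wielandt2

set_option autoImplicit false
universe u

/-! # Wielandt's order formula: the abelian case and the main induction -/

namespace Cfsg.Agent.Helper8.Wielandt

section comm

variable {L : Type*} [CommGroup L]

/-- The norm of an element under a cyclic group of automorphisms. -/
def Nm (p : ℕ) (γ : MulAut L) (x : L) : L := ∏ k ∈ Finset.range p, (γ ^ k) x

theorem Nm_fixed {p : ℕ} {γ : MulAut L} (hγ : γ ^ p = 1) (x : L) :
    γ (Nm p γ x) = Nm p γ x := by
  unfold Nm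
  rw [map_prod]
  have h1 : ∏ k ∈ Finset.range p, γ ((γ ^ k) x) = ∏ k ∈ Finset.range p, (γ ^ (k + 1)) x := by
    refine Finset.prod_congr rfl (fun k _ => ?_)
    rw [pow_succ', MulAut.mul_apply]
  rw [h1]
  have h2 := Finset.prod_range_succ' (fun k => (γ ^ k) x) p
  have h3 := Finset.prod_range_succ (fun k => (γ ^ k) x) p
  rw [h3] at h2
  simp only [pow_zero, hγ, MulAut.one_apply] at h2
  exact (mul_right_cancel h2).symm

theorem Nm_eq_one {p : ℕ} {γ : MulAut L} (hγ : γ ^ p = 1) (hfix : fix γ = ⊥) (x : L) :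
    Nm p γ x = 1 := by
  have h : Nm p γ x ∈ fix γ := Nm_fixed hγ x
  rw [hfix, Subgroup.mem_bot] at h
  exact h

theorem prod_mul_mod (p : ℕ) [Fact p.Prime] (k : ℕ) (hk0 : k ≠ 0) (hkp : k < p) (f : ℕ → L) :
    ∏ i ∈ Finset.range p, f ((i * k) % p) = ∏ m ∈ Finset.range p, f m := by
  have hp : p.Prime := Fact.out
  have hinj : ∀ i ∈ Finset.range p, ∀ j ∈ Finset.range p,
      (i * k) % p = (j * k) % p → i = j := by
    intro i hi j hj hij
    rw [Finset.mem_range] at hi hj
    have h1 : i * k ≡ j * k [MOD p] := hij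
    have hcop : Nat.Coprime p k := Nat.coprime_of_lt_prime hk0 hkp hp
    have h2 : i ≡ j [MOD p] := Nat.ModEq.cancel_right_of_coprime hcop h1
    exact Nat.ModEq.eq_of_lt_of_lt h2 hi hj
  have himg : (Finset.range p).image (fun i => (i * k) % p) = Finset.range p := by
    apply Finset.eq_of_subset_of_card_le
    · intro m hm
      obtain ⟨i, _, rfl⟩ := Finset.mem_image.mp hm
      exact Finset.mem_range.mpr (Nat.mod_lt _ hp.pos)
    · rw [Finset.card_image_of_injOn (fun i hi j hj h => hinj i hi j hj h)]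
  calc ∏ i ∈ Finset.range p, f ((i * k) % p)
      = ∏ m ∈ (Finset.range p).image (fun i => (i * k) % p), f m :=
        (Finset.prod_image hinj).symm
    _ = ∏ m ∈ Finset.range p, f m := by rw [himg]

theorem comm_trivial [Finite L] (p : ℕ) [Fact p.Prime] (α β : MulAut L) (hα : α ^ p = 1)
    (hβ : β ^ p = 1) (hc : Commute α β) (hcop : ¬ p ∣ Nat.card L) (h1 : fix α = ⊥)
    (h2 : ∀ i < p, fix (α ^ i * β) = ⊥) (x : L) : x = 1 := by
  have hp : p.Prime := Fact.out
  have hγ : ∀ i : ℕ, (α ^ i * β) ^ p = 1 := fun i => by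
    rw [(hc.pow_left i).mul_pow, ← pow_mul, mul_comm, pow_mul, hα, one_pow, hβ, mul_one]
  have e1 : ∏ i ∈ Finset.range p, Nm p (α ^ i * β) x = 1 :=
    Finset.prod_eq_one (fun i hi => Nm_eq_one (hγ i) (h2 i (Finset.mem_range.mp hi)) x)
  have e2 : ∀ i k : ℕ, ((α ^ i * β) ^ k) x = (α ^ ((i * k) % p)) ((β ^ k) x) := by
    intro i k
    rw [(hc.pow_left i).mul_pow, ← pow_mul, MulAut.mul_apply, pow_eq_pow_mod (i * k) hα]
  have e3 : ∏ i ∈ Finset.range p, Nm p (α ^ i * β) x =
      ∏ k ∈ Finset.range p, ∏ i ∈ Finset.range p, (α ^ ((i * k) % p)) ((β ^ k) x) := by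
    unfold Nm
    rw [Finset.prod_comm]
    exact Finset.prod_congr rfl (fun k _ => Finset.prod_congr rfl (fun i _ => e2 i k))
  have e4 : ∀ k : ℕ, k ≠ 0 → k < p →
      ∏ i ∈ Finset.range p, (α ^ ((i * k) % p)) ((β ^ k) x) = 1 := by
    intro k hk0 hkp
    rw [prod_mul_mod p k hk0 hkp (fun m => (α ^ m) ((β ^ k) x))]
    exact Nm_eq_one hα h1 _
  have e5 : ∏ i ∈ Finset.range p, (α ^ ((i * 0) % p)) ((β ^ 0) x) = x ^ p := by
    simp
  rw [e3] at e1
  have e6 : ∀ p' : ℕ, p = p' + 1 →
      ∏ k ∈ Finset.range p, ∏ i ∈ Finset.range p, (α ^ ((i * k) % p)) ((β ^ k) x) = x ^ p := by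
    intro p' hp'
    have e7 : ∏ k ∈ Finset.range (p' + 1),
        ∏ i ∈ Finset.range p, (α ^ ((i * k) % p)) ((β ^ k) x) = x ^ p := by
      rw [Finset.prod_range_succ'
        (fun k => ∏ i ∈ Finset.range p, (α ^ ((i * k) % p)) ((β ^ k) x)) p', e5]
      rw [Finset.prod_eq_one (fun k hk => e4 (k + 1) (Nat.succ_ne_zero k)
        (by have := Finset.mem_range.mp hk; omega)), one_mul]
    rw [← hp'] at e7
    exact e7
  rw [e6 (p - 1) (by have := hp.pos; omega)] at e1
  have h3 : orderOf x ∣ p := orderOf_dvd_of_pow_eq_one e1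
  have h4 : orderOf x ∣ Nat.card L := orderOf_dvd_natCard x
  rcases (Nat.dvd_prime hp).mp h3 with h5 | h5
  · exact orderOf_eq_one_iff.mp h5
  · exact absurd (h5 ▸ h4) hcop

end comm

variable {L : Type*} [Group L]

theorem fix_of_pow {p : ℕ} [Fact p.Prime] {γ : MulAut L} (hγ : γ ^ p = 1) {d : ℕ} (hd0 : d ≠ 0)
    (hdp : d < p) {y : L} (hy : (γ ^ d) y = y) : γ y = y := by
  have hp : p.Prime := Fact.out
  have hcop : Nat.Coprime d p := (Nat.coprime_of_lt_prime hd0 hdp hp).symm
  obtain ⟨m, -, hm⟩ := Nat.exists_mul_mod_eq_one_of_coprime hcop hp.one_lt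
  have h1 : γ = (γ ^ d) ^ m := by
    rw [← pow_mul, pow_eq_pow_mod (d * m) hγ, hm, pow_one]
  have h2 : y ∈ fix ((γ ^ d) ^ m) := fix_pow (hy : y ∈ fix (γ ^ d)) m
  rw [← h1] at h2
  exact h2

theorem W_of_abelian [Finite L] (p : ℕ) [Fact p.Prime] (hab : ∀ x y : L, x * y = y * x)
    (α β : MulAut L) (hα : α ^ p = 1) (hβ : β ^ p = 1) (hc : Commute α β)
    (hcop : ¬ p ∣ Nat.card L)
    (hmin : ∀ N : Subgroup L, Inv α N → Inv β N → N = ⊥ ∨ N = ⊤) : W p α β := by
  have hinvα : ∀ i : ℕ, Inv α (fix (α ^ i * β)) := fun i =>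
    Inv.fix (((Commute.refl α).pow_right i).mul_right hc)
  have hinvβ : ∀ i : ℕ, Inv β (fix (α ^ i * β)) := fun i =>
    Inv.fix ((hc.symm.pow_right i).mul_right (Commute.refl β))
  rcases hmin (fix α) (Inv.fix (Commute.refl α)) (Inv.fix hc.symm) with h1 | h1
  · by_cases h2 : ∃ j < p, fix (α ^ j * β) = ⊤
    · obtain ⟨j, hj, h2⟩ := h2
      have hfix : ∀ i < p, i ≠ j → fix (α ^ i * β) = ⊥ := by
        intro i hi hij
        rw [eq_bot_iff]
        intro x hx
        rw [Subgroup.mem_bot]
        have e1 : (α ^ i) (β x) = x := hx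
        have e2 : (α ^ j) (β x) = x := (h2 ▸ Subgroup.mem_top x : x ∈ fix (α ^ j * β))
        have e3 : α (β x) = β x := by
          rcases Nat.lt_or_gt_of_ne hij with hlt | hlt
          · apply fix_of_pow hα (d := j - i) (by omega) (by omega)
            have e4 : (α ^ j) (β x) = (α ^ i) ((α ^ (j - i)) (β x)) := by
              have e0 : α ^ j = α ^ i * α ^ (j - i) := by
                rw [← pow_add]
                congr 1
                omega
              rw [e0]
              rfl
            rw [e4, ← e1] at e2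
            have e5 := (α ^ i).injective e2
            rw [e1] at e5
            exact e5
          · apply fix_of_pow hα (d := i - j) (by omega) (by omega)
            have e4 : (α ^ i) (β x) = (α ^ j) ((α ^ (i - j)) (β x)) := by
              have e0 : α ^ i = α ^ j * α ^ (i - j) := by
                rw [← pow_add]
                congr 1
                omega
              rw [e0]
              rfl
            rw [e4, ← e2] at e1
            have e5 := (α ^ j).injective e1
            rw [e2] at e5
            exact e5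
        have e6 : β x ∈ fix α := e3
        rw [h1, Subgroup.mem_bot] at e6
        exact (map_eq_one_iff β β.injective).mp e6
      unfold W
      rw [Finset.prod_eq_single j
        (fun i hi hij => by rw [hfix i (Finset.mem_range.mp hi) hij]; simp)
        (fun h => absurd (Finset.mem_range.mpr hj) h), h1, h2]
      simp
    · have h3 : ∀ i < p, fix (α ^ i * β) = ⊥ := by
        intro i hi
        rcases hmin (fix (α ^ i * β)) (hinvα i) (hinvβ i) with h | h
        · exact h
        · exact absurd ⟨i, hi, h⟩ h2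
      letI : CommGroup L := { ‹Group L› with mul_comm := hab }
      have htriv : ∀ x : L, x = 1 := comm_trivial p α β hα hβ hc hcop h1 h3
      haveI : Subsingleton L := ⟨fun a b => by rw [htriv a, htriv b]⟩
      unfold W
      simp
  · have hα1 : α = 1 := MulEquiv.ext (fun x => (h1 ▸ Subgroup.mem_top x : x ∈ fix α))
    unfold W
    rw [h1, hα1]
    simp

theorem pow_mul_eq_one {p : ℕ} {α β : MulAut L} (hα : α ^ p = 1) (hβ : β ^ p = 1)
    (hc : Commute α β) (i : ℕ) : (α ^ i * β) ^ p = 1 := by
  rw [(hc.pow_left i).mul_pow, ← pow_mul, mul_comm, pow_mul, hα, one_pow, hβ, mul_one]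

theorem fix_inf_le_pow_mul (α β : MulAut L) (i : ℕ) : fix α ⊓ fix β ≤ fix (α ^ i * β) :=
  fun _ hx => fix_mul (fix_pow hx.1 i) hx.2

/-- **Wielandt's order formula** for two commuting automorphisms of order dividing `p` of a
group of order prime to `p`. -/
theorem wielandt_aux (p : ℕ) [Fact p.Prime] : ∀ (n : ℕ) (L : Type u) [Group L] [Finite L]
    (α β : MulAut L), Nat.card L = n → α ^ p = 1 → β ^ p = 1 → Commute α β →
    ¬ p ∣ Nat.card L → W p α β := by
  intro n
  induction n using Nat.strong_induction_on with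
  | _ n ih =>
    intro L _ _ α β hn hα hβ hc hcop
    by_cases hA : ∃ N : Subgroup L, N.Normal ∧ N ≠ ⊥ ∧ N ≠ ⊤ ∧ Inv α N ∧ Inv β N
    · obtain ⟨N, hNn, hN0, hN1, hαN, hβN⟩ := hA
      haveI := hNn
      have r0 : Nat.card L = Nat.card (L ⧸ N) * Nat.card N :=
        Subgroup.card_eq_card_quotient_mul_card_subgroup N
      have hN2 : 1 < Nat.card N := N.one_lt_card_iff_ne_bot.mpr hN0
      have hQ2 : 1 < Nat.card (L ⧸ N) := by
        by_contra h
        have h1 : Nat.card (L ⧸ N) = 1 := by
          have := Nat.card_pos (α := L ⧸ N)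
          omega
        rw [h1, one_mul] at r0
        exact hN1 (Subgroup.eq_top_of_card_eq N r0.symm)
      have hcN : Nat.card N < n := by
        rw [← hn, r0]
        nlinarith
      have hcQ : Nat.card (L ⧸ N) < n := by
        rw [← hn, r0]
        nlinarith
      have hcopN : ¬ p ∣ Nat.card N :=
        fun h => hcop (h.trans (Subgroup.card_subgroup_dvd_card N))
      have hcopQ : ¬ p ∣ Nat.card (L ⧸ N) :=
        fun h => hcop (h.trans (Subgroup.card_quotient_dvd_card N))
      have W1 := (W_res_iff p α β N hαN hβN).mp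
        (ih _ hcN ↥N (res α N hαN) (res β N hβN) rfl (res_pow_eq_one α N hαN hα)
          (res_pow_eq_one β N hβN hβ) (res_commute N hαN hβN hc) hcopN)
      have W2 := ih _ hcQ (L ⧸ N) (qa N α hαN) (qa N β hβN) rfl (qa_pow_eq_one N α hαN hα)
        (qa_pow_eq_one N β hβN hβ) (qa_commute N hαN hβN hc) hcopQ
      have rP : Nat.card ↥(fix α ⊓ fix β) =
          Nat.card ↥(fix (qa N α hαN) ⊓ fix (qa N β hβN)) * Nat.card ↥(N ⊓ (fix α ⊓ fix β)) := by
        rw [fix_qa2 N p hcopN α β hα hβ hc hαN hβN, inf_comm N, AbConj.card_map_mk]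
      have rγ : ∀ (γ : MulAut L) (_ : γ ^ p = 1) (hγN : Inv γ N),
          Nat.card ↥(fix γ) = Nat.card ↥(fix (qa N γ hγN)) * Nat.card ↥(N ⊓ fix γ) := by
        intro γ hγ hγN
        rw [fix_qa N p hcopN γ hγ hγN, inf_comm N, AbConj.card_map_mk]
      have e1 : ∀ i : ℕ, Nat.card ↥(fix (α ^ i * β)) =
          Nat.card ↥(fix ((qa N α hαN) ^ i * qa N β hβN)) * Nat.card ↥(N ⊓ fix (α ^ i * β)) := by
        intro i
        rw [qa_pow_mul]
        exact rγ _ (pow_mul_eq_one hα hβ hc i) _
      unfold W at W2 ⊢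
      unfold Wrel at W1
      rw [r0, rP, rγ α hα hαN, Finset.prod_congr rfl (fun i _ => e1 i), Finset.prod_mul_distrib,
        mul_pow]
      calc Nat.card (L ⧸ N) * Nat.card ↥N *
            (Nat.card ↥(fix (qa N α hαN) ⊓ fix (qa N β hβN)) ^ p *
              Nat.card ↥(N ⊓ (fix α ⊓ fix β)) ^ p)
          = (Nat.card (L ⧸ N) * Nat.card ↥(fix (qa N α hαN) ⊓ fix (qa N β hβN)) ^ p) *
              (Nat.card ↥N * Nat.card ↥(N ⊓ (fix α ⊓ fix β)) ^ p) := by ring
        _ = _ := by rw [W2, W1]; ring
    · have hA' : ∀ N : Subgroup L, N.Normal → Inv α N → Inv β N → N = ⊥ ∨ N = ⊤ := by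
        intro N hNn h1 h2
        by_contra h
        exact hA ⟨N, hNn, fun h0 => h (Or.inl h0), fun h0 => h (Or.inr h0), h1, h2⟩
      by_cases hab : ∀ x y : L, x * y = y * x
      · exact W_of_abelian p hab α β hα hβ hc hcop
          (fun N h1 h2 => hA' N ⟨fun n hn g => by rw [hab g n, mul_inv_cancel_right]; exact hn⟩
            h1 h2)
      · have hZ : Subgroup.center L = ⊥ := by
          rcases hA' (Subgroup.center L) inferInstance (Inv.center α) (Inv.center β) with h | h
          · exact h
          · exfalso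
            apply hab
            intro x y
            have hx : x ∈ Subgroup.center L := h ▸ Subgroup.mem_top x
            exact (Subgroup.mem_center_iff.mp hx y).symm
        haveI : Nontrivial L := by
          by_contra h
          rw [not_nontrivial_iff_subsingleton] at h
          exact hab (fun x y => Subsingleton.elim _ _)
        have hpos : ∀ S : Subgroup L, Nat.card ↥S ≠ 0 := fun S => Nat.card_pos.ne'
        have hL0 : Nat.card L ≠ 0 := Nat.card_pos.ne'
        have hprod0 : ∏ i ∈ Finset.range p, Nat.card ↥(fix (α ^ i * β)) ≠ 0 :=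
          Finset.prod_ne_zero_iff.mpr (fun i _ => hpos _)
        unfold W
        apply Nat.eq_of_factorization_eq (mul_ne_zero hL0 (pow_ne_zero _ (hpos _)))
          (mul_ne_zero (hpos _) hprod0)
        intro q
        by_cases hq : q.Prime
        · haveI : Fact q.Prime := ⟨hq⟩
          obtain ⟨P, hαP, hβP⟩ := exists_inv_sylow p α β hα hβ hc hcop q
          have hPlt : Nat.card ↥(P : Subgroup L) < n := by
            rw [← hn]
            refine lt_of_le_of_ne (Subgroup.card_le_card_group _) (fun hcard => ?_)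
            have h1 : IsPGroup q L := by
              rw [P.card_eq_multiplicity] at hcard
              exact IsPGroup.of_card hcard.symm
            haveI := h1.center_nontrivial
            exact (Subgroup.nontrivial_iff_ne_bot (Subgroup.center L)).mp inferInstance hZ
          have hcopP : ¬ p ∣ Nat.card ↥(P : Subgroup L) :=
            fun h => hcop (h.trans (Subgroup.card_subgroup_dvd_card _))
          have WP := (W_res_iff p α β (P : Subgroup L) hαP hβP).mp
            (ih _ hPlt ↥(P : Subgroup L) (res α _ hαP) (res β _ hβP) rfl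
              (res_pow_eq_one α _ hαP hα) (res_pow_eq_one β _ hβP hβ)
              (res_commute _ hαP hβP hc) hcopP)
          unfold Wrel at WP
          have s1 := sylow_inf_card p α β hα hβ hc hcop q P hαP hβP (fix α ⊓ fix β)
            ((Inv.fix (Commute.refl α)).inf (Inv.fix hc)) ((Inv.fix hc.symm).inf
              (Inv.fix (Commute.refl β))) le_rfl
          have s2 := sylow_inf_card p α β hα hβ hc hcop q P hαP hβP (fix α)
            (Inv.fix (Commute.refl α)) (Inv.fix hc.symm) inf_le_left
          have s3 : ∀ i : ℕ, Nat.card ↥((P : Subgroup L) ⊓ fix (α ^ i * β)) =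
              q ^ (Nat.card ↥(fix (α ^ i * β))).factorization q := fun i =>
            sylow_inf_card p α β hα hβ hc hcop q P hαP hβP (fix (α ^ i * β))
              (Inv.fix (((Commute.refl α).pow_right i).mul_right hc))
              (Inv.fix ((hc.symm.pow_right i).mul_right (Commute.refl β)))
              (fix_inf_le_pow_mul α β i)
          rw [P.card_eq_multiplicity, s1, s2, Finset.prod_congr rfl (fun i _ => s3 i),
            ← pow_mul, ← pow_add, Finset.prod_pow_eq_pow_sum, ← pow_add] at WP
          have WP' := Nat.pow_right_injective hq.two_le WP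
          rw [Nat.factorization_mul hL0 (pow_ne_zero _ (hpos _)), Nat.factorization_pow,
            Nat.factorization_mul (hpos _) hprod0,
            Nat.factorization_prod (fun i _ => hpos _)]
          simp only [Finsupp.coe_add, Pi.add_apply, Finsupp.coe_smul, Pi.smul_apply, smul_eq_mul,
            Finsupp.finsetSum_apply]
          rw [mul_comm p]
          exact WP'
        · rw [Nat.factorization_eq_zero_of_not_prime _ hq,
            Nat.factorization_eq_zero_of_not_prime _ hq]

/-- **Wielandt's order formula.** -/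
theorem wielandt (p : ℕ) [Fact p.Prime] {L : Type u} [Group L] [Finite L] (α β : MulAut L)
    (hα : α ^ p = 1) (hβ : β ^ p = 1) (hc : Commute α β) (hcop : ¬ p ∣ Nat.card L) :
    W p α β :=
  wielandt_aux p (Nat.card L) L α β rfl hα hβ hc hcop

/-- Wielandt's formula for an invariant subgroup. -/
theorem wielandt_rel (p : ℕ) [Fact p.Prime] {L : Type u} [Group L] [Finite L] (α β : MulAut L)
    (hα : α ^ p = 1) (hβ : β ^ p = 1) (hc : Commute α β) (K : Subgroup L)
    (hαK : Inv α K) (hβK : Inv β K) (hcop : ¬ p ∣ Nat.card K) : Wrel p α β K :=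
  (W_res_iff p α β K hαK hβK).mp (wielandt p (res α K hαK) (res β K hβK)
    (res_pow_eq_one α K hαK hα) (res_pow_eq_one β K hβK hβ) (res_commute K hαK hβK hc) hcop)

end Cfsg.Agent.Helper8.Wielandt
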