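import Mathlib
import Cfsg.Agent.Helper8.Wielandt3
import Cfsg.Prelude.Def_Transfer

set_option autoImplicit false
open scoped Pointwise

/-! # Factorizations from centralizer factorizations (via Wielandt's order formula) -/

namespace Cfsg.Agent.Helper8.Wielandt

variable {H : Type*} [Group H]

theorem fix_conj (g : H) : fix (MulAut.conj g) = Subgroup.centralizer ({g} : Set H) := by
  ext x
  rw [mem_fix, MulAut.conj_apply, Subgroup.mem_centralizer_singleton_iff]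
  constructor
  · intro h
    exact (mul_inv_eq_iff_eq_mul.mp h).symm
  · intro h
    exact mul_inv_eq_iff_eq_mul.mpr h.symm

theorem inv_conj {g : H} {S : Subgroup H} (hg : g ∈ Subgroup.normalizer (S : Set H)) :
    Inv (MulAut.conj g) S := fun x => by
  rw [MulAut.conj_apply]
  exact (Subgroup.mem_normalizer_iff.mp hg x).symm

/-- The product formula for the product set of two subgroups. -/
theorem card_mul_set [Finite H] (U V : Subgroup H) :
    Nat.card ↥((U : Set H) * (V : Set H)) * Nat.card ↥(U ⊓ V) = Nat.card ↥U * Nat.card ↥V := by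
  have hex : ∀ g : ↥((U : Set H) * (V : Set H)), ∃ u ∈ U, ∃ v ∈ V, (g : H) = u * v := by
    intro g
    obtain ⟨u, hu, v, hv, huv⟩ := Set.mem_mul.mp g.2
    exact ⟨u, hu, v, hv, huv.symm⟩
  choose fa hfa fb hfb hf using hex
  rw [← Nat.card_prod, ← Nat.card_prod]
  apply Nat.card_eq_of_bijective
    (fun q : ↥((U : Set H) * (V : Set H)) × ↥(U ⊓ V) =>
      ((⟨fa q.1 * q.2.1, U.mul_mem (hfa q.1) q.2.2.1⟩ : ↥U),
        (⟨q.2.1⁻¹ * fb q.1, V.mul_mem (V.inv_mem q.2.2.2) (hfb q.1)⟩ : ↥V)))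
  constructor
  · rintro ⟨s, d⟩ ⟨t, d'⟩ h
    simp only [Prod.mk.injEq, Subtype.mk.injEq] at h
    obtain ⟨h1, h2⟩ := h
    have hst : (s : H) = t := by
      calc (s : H) = fa s * fb s := hf s
        _ = (fa s * d.1) * (d.1⁻¹ * fb s) := by group
        _ = (fa t * d'.1) * (d'.1⁻¹ * fb t) := by rw [h1, h2]
        _ = fa t * fb t := by group
        _ = t := (hf t).symm
    have hst' : s = t := Subtype.ext hst
    subst hst'
    exact Prod.ext rfl (Subtype.ext (mul_left_cancel h1))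
  · rintro ⟨u, v⟩
    let g : ↥((U : Set H) * (V : Set H)) := ⟨u.1 * v.1, Set.mul_mem_mul u.2 v.2⟩
    have hg : fa g * fb g = u.1 * v.1 := (hf g).symm
    have hd : (fa g)⁻¹ * u.1 = fb g * v.1⁻¹ := by
      have h1 : fb g = (fa g)⁻¹ * (u.1 * v.1) := eq_inv_mul_of_mul_eq hg
      rw [h1]; group
    refine ⟨(g, ⟨(fa g)⁻¹ * u.1, U.mul_mem (U.inv_mem (hfa g)) u.2, by
      rw [hd]; exact V.mul_mem (hfb g) (V.inv_mem v.2)⟩), ?_⟩
    apply Prod.ext
    · apply Subtype.ext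
      show fa g * ((fa g)⁻¹ * u.1) = u.1
      rw [mul_inv_cancel_left]
    · apply Subtype.ext
      show ((fa g)⁻¹ * u.1)⁻¹ * fb g = v.1
      rw [hd]; group

theorem card_of_set_eq [Finite H] {W U V : Subgroup H}
    (h : (W : Set H) = (U : Set H) * (V : Set H)) (M : Subgroup H)
    (hM : M = U ⊓ V) : Nat.card ↥W * Nat.card ↥M = Nat.card ↥U * Nat.card ↥V := by
  rw [hM, ← card_mul_set U V]
  congr 1
  exact Nat.card_congr (Equiv.setCongr h)

/-- Fixed points of a product under an automorphism of `p`-power order. -/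
theorem fix_prod [Finite H] (p : ℕ) [Fact p.Prime] (β : MulAut H) (hβ : β ^ p = 1)
    (K X Y : Subgroup H) (hK : ¬ p ∣ Nat.card ↥K) (hX : X ≤ K) (hβX : Inv β X)
    (hβY : Inv β Y) (hfac : (K : Set H) = (X : Set H) * (Y : Set H)) (k : H) (hk : k ∈ K)
    (hkβ : β k = k) : ∃ x ∈ X, ∃ y ∈ Y, β x = x ∧ β y = y ∧ k = x * y := by
  have hk' : k ∈ (X : Set H) * (Y : Set H) := hfac ▸ hk
  obtain ⟨x0, hx0, y0, hy0, hxy⟩ := Set.mem_mul.mp hk'
  let T : Set H := {x | x ∈ X ∧ x⁻¹ * k ∈ Y}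
  have hT : ∀ x, β x ∈ T ↔ x ∈ T := by
    intro x
    show (β x ∈ X ∧ (β x)⁻¹ * k ∈ Y) ↔ (x ∈ X ∧ x⁻¹ * k ∈ Y)
    have e : (β x)⁻¹ * k = β (x⁻¹ * k) := by rw [map_mul, map_inv, hkβ]
    rw [e, hβX, hβY]
  have hcard : Nat.card ↥T = Nat.card ↥(X ⊓ Y) := by
    refine Nat.card_congr
      { toFun := fun t => ⟨x0⁻¹ * t.1, X.mul_mem (X.inv_mem hx0) t.2.1, by
          have e : x0⁻¹ * t.1 = y0 * (t.1⁻¹ * k)⁻¹ := by
            rw [← hxy]; group
          rw [e]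
          exact Y.mul_mem hy0 (Y.inv_mem t.2.2)⟩
        invFun := fun d => ⟨x0 * d.1, X.mul_mem hx0 d.2.1, by
          have e : (x0 * d.1)⁻¹ * k = d.1⁻¹ * y0 := by
            rw [← hxy]; group
          rw [e]
          exact Y.mul_mem (Y.inv_mem d.2.2) hy0⟩
        left_inv := fun t => Subtype.ext (mul_inv_cancel_left _ _)
        right_inv := fun d => Subtype.ext (inv_mul_cancel_left _ _) }
  have hTc : ¬ p ∣ Nat.card ↥T := by
    rw [hcard]
    exact fun h => hK (h.trans (Subgroup.card_dvd_of_le (inf_le_left.trans hX)))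
  obtain ⟨x, hxT, hx1, -⟩ := set_fixed2 p β β hβ hβ (Commute.refl β) T hT hT hTc
  refine ⟨x, hxT.1, x⁻¹ * k, hxT.2, hx1, ?_, ?_⟩
  · rw [map_mul, map_inv, hx1, hkβ]
  · rw [mul_inv_cancel_left]

/-- The factorization theorem: if `C_K(g) = C_X(g) C_Y(g)` for all non-identity `g` in a
noncyclic elementary abelian `p`-group acting on the `p'`-group `K`, then `K = X Y`. -/
theorem factorization [Finite H] (p : ℕ) [Fact p.Prime] (A K X Y : Subgroup H)
    (hA : Cfsg.IsElementaryAbelian p A) (hA2 : p ^ 2 ≤ Nat.card ↥A) (hK : ¬ p ∣ Nat.card ↥K)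
    (hAK : A ≤ Subgroup.normalizer (K : Set H)) (hX : X ≤ K) (hY : Y ≤ K)
    (hAX : A ≤ Subgroup.normalizer (X : Set H)) (hAY : A ≤ Subgroup.normalizer (Y : Set H))
    (hfac : ∀ a ∈ A, a ≠ 1 → ((K ⊓ Subgroup.centralizer {a} : Subgroup H) : Set H) =
      ((X ⊓ Subgroup.centralizer {a} : Subgroup H) : Set H) *
        ((Y ⊓ Subgroup.centralizer {a} : Subgroup H) : Set H)) :
    (K : Set H) = (X : Set H) * (Y : Set H) := by
  have hp : p.Prime := Fact.out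
  haveI := hA.1
  -- choose the two generators
  have hA1 : A ≠ ⊥ := by
    intro h
    rw [h, Subgroup.card_bot] at hA2
    have := hp.two_le
    nlinarith
  obtain ⟨a, ha1⟩ := (Subgroup.ne_bot_iff_exists_ne_one).mp hA1
  have ha1' : (a : H) ≠ 1 := fun h => ha1 (Subtype.ext h)
  have hap : (a : H) ^ p = 1 := hA.2 a a.2
  have hord : orderOf (a : H) = p := orderOf_eq_prime hap ha1'
  obtain ⟨b, hbA, hbz⟩ : ∃ b ∈ A, b ∉ Subgroup.zpowers (a : H) := by
    by_contra hcon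
    have hle : A ≤ Subgroup.zpowers (a : H) := by
      intro g hg
      by_contra hgz
      exact hcon ⟨g, hg, hgz⟩
    have h1 := Subgroup.card_le_of_le hle
    rw [Nat.card_zpowers, hord] at h1
    have := hp.two_le
    nlinarith
  have hbp : b ^ p = 1 := hA.2 b hbA
  have hab : Commute (a : H) b := by
    have h := hA.1.is_comm.comm a ⟨b, hbA⟩
    exact congrArg Subtype.val h
  have hne : ∀ i : ℕ, (a : H) ^ i * b ≠ 1 := by
    intro i h
    apply hbz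
    have e : b = ((a : H) ^ i)⁻¹ := eq_inv_of_mul_eq_one_right h
    rw [e]
    exact (Subgroup.zpowers (a : H)).inv_mem (Subgroup.pow_mem _ (Subgroup.mem_zpowers _) i)
  have hmem : ∀ i : ℕ, (a : H) ^ i * b ∈ A := fun i => A.mul_mem (A.pow_mem a.2 i) hbA
  -- the automorphisms
  let α : MulAut H := MulAut.conj (a : H)
  let β : MulAut H := MulAut.conj b
  have hα : α ^ p = 1 := by
    show (MulAut.conj (a : H)) ^ p = 1
    rw [← map_pow, hap, map_one]
  have hβ : β ^ p = 1 := by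
    show (MulAut.conj b) ^ p = 1
    rw [← map_pow, hbp, map_one]
  have hc : Commute α β := hab.map MulAut.conj
  have hαi : ∀ i : ℕ, α ^ i * β = MulAut.conj ((a : H) ^ i * b) := by
    intro i
    show (MulAut.conj (a : H)) ^ i * MulAut.conj b = _
    rw [← map_pow, ← map_mul]
  have hfα : fix α = Subgroup.centralizer ({(a : H)} : Set H) := fix_conj _
  have hfi : ∀ i : ℕ, fix (α ^ i * β) = Subgroup.centralizer ({(a : H) ^ i * b} : Set H) := by
    intro i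
    rw [hαi, fix_conj]
  have hInv : ∀ S : Subgroup H, A ≤ Subgroup.normalizer (S : Set H) → Inv α S ∧ Inv β S :=
    fun S hS => ⟨inv_conj (hS a.2), inv_conj (hS hbA)⟩
  have hZK : X ⊓ Y ≤ K := inf_le_left.trans hX
  have hcard : ∀ S : Subgroup H, S ≤ K → ¬ p ∣ Nat.card ↥S :=
    fun S hS h => hK (h.trans (Subgroup.card_dvd_of_le hS))
  have hIK := hInv K hAK
  have hIX := hInv X hAX
  have hIY := hInv Y hAY
  have hIZ : Inv α (X ⊓ Y) ∧ Inv β (X ⊓ Y) := ⟨hIX.1.inf hIY.1, hIX.2.inf hIY.2⟩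
  have WK := wielandt_rel p α β hα hβ hc K hIK.1 hIK.2 hK
  have WX := wielandt_rel p α β hα hβ hc X hIX.1 hIX.2 (hcard X hX)
  have WY := wielandt_rel p α β hα hβ hc Y hIY.1 hIY.2 (hcard Y hY)
  have WZ := wielandt_rel p α β hα hβ hc (X ⊓ Y) hIZ.1 hIZ.2 (hcard _ hZK)
  unfold Wrel at WK WX WY WZ
  -- the centralizer factorizations
  have hinf : ∀ M : Subgroup H, X ⊓ Y ⊓ M = (X ⊓ M) ⊓ (Y ⊓ M) := fun M => inf_inf_distrib_right X Y M
  have rα : Nat.card ↥(K ⊓ fix α) * Nat.card ↥(X ⊓ Y ⊓ fix α) =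
      Nat.card ↥(X ⊓ fix α) * Nat.card ↥(Y ⊓ fix α) := by
    rw [hfα]
    exact card_of_set_eq (hfac a a.2 ha1') _ (hinf _)
  have ri : ∀ i : ℕ, Nat.card ↥(K ⊓ fix (α ^ i * β)) * Nat.card ↥(X ⊓ Y ⊓ fix (α ^ i * β)) =
      Nat.card ↥(X ⊓ fix (α ^ i * β)) * Nat.card ↥(Y ⊓ fix (α ^ i * β)) := by
    intro i
    rw [hfi]
    exact card_of_set_eq (hfac _ (hmem i) (hne i)) _ (hinf _)
  have hIfα : ∀ S : Subgroup H, Inv β S → Inv β (S ⊓ fix α) :=
    fun S hS => hS.inf (Inv.fix hc.symm)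
  have hsetP : ((K ⊓ (fix α ⊓ fix β) : Subgroup H) : Set H) =
      ((X ⊓ (fix α ⊓ fix β) : Subgroup H) : Set H) *
        ((Y ⊓ (fix α ⊓ fix β) : Subgroup H) : Set H) := by
    ext k
    constructor
    · intro hk
      have hk1 : k ∈ K ⊓ fix α := ⟨hk.1, hk.2.1⟩
      have hfacα : ((K ⊓ fix α : Subgroup H) : Set H) =
          ((X ⊓ fix α : Subgroup H) : Set H) * ((Y ⊓ fix α : Subgroup H) : Set H) := by
        rw [hfα]
        exact hfac a a.2 ha1'
      obtain ⟨x, hx, y, hy, hx1, hy1, hxy⟩ := fix_prod p β hβ (K ⊓ fix α) (X ⊓ fix α)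
        (Y ⊓ fix α) (hcard _ inf_le_left) (inf_le_inf_right _ hX) (hIfα X hIX.2)
        (hIfα Y hIY.2) hfacα k hk1 hk.2.2
      rw [hxy]
      exact Set.mul_mem_mul ⟨hx.1, hx.2, hx1⟩ ⟨hy.1, hy.2, hy1⟩
    · intro hk
      obtain ⟨x, hx, y, hy, rfl⟩ := Set.mem_mul.mp hk
      exact ⟨K.mul_mem (hX hx.1) (hY hy.1), (fix α ⊓ fix β).mul_mem hx.2 hy.2⟩
  have rP : Nat.card ↥(K ⊓ (fix α ⊓ fix β)) * Nat.card ↥(X ⊓ Y ⊓ (fix α ⊓ fix β)) =
      Nat.card ↥(X ⊓ (fix α ⊓ fix β)) * Nat.card ↥(Y ⊓ (fix α ⊓ fix β)) :=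
    card_of_set_eq hsetP _ (hinf _)
  -- combine
  have hpos : ∀ S : Subgroup H, 0 < Nat.card ↥S := fun S => Nat.card_pos
  have key : Nat.card ↥K * Nat.card ↥(X ⊓ Y) = Nat.card ↥X * Nat.card ↥Y := by
    have e1 : (Nat.card ↥K * Nat.card ↥(X ⊓ Y)) *
        (Nat.card ↥(K ⊓ (fix α ⊓ fix β)) * Nat.card ↥(X ⊓ Y ⊓ (fix α ⊓ fix β))) ^ p =
        (Nat.card ↥X * Nat.card ↥Y) *
        (Nat.card ↥(K ⊓ (fix α ⊓ fix β)) * Nat.card ↥(X ⊓ Y ⊓ (fix α ⊓ fix β))) ^ p := by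
      calc (Nat.card ↥K * Nat.card ↥(X ⊓ Y)) *
            (Nat.card ↥(K ⊓ (fix α ⊓ fix β)) * Nat.card ↥(X ⊓ Y ⊓ (fix α ⊓ fix β))) ^ p
          = (Nat.card ↥K * Nat.card ↥(K ⊓ (fix α ⊓ fix β)) ^ p) *
              (Nat.card ↥(X ⊓ Y) * Nat.card ↥(X ⊓ Y ⊓ (fix α ⊓ fix β)) ^ p) := by ring
        _ = (Nat.card ↥(K ⊓ fix α) * Nat.card ↥(X ⊓ Y ⊓ fix α)) *
              ∏ i ∈ Finset.range p, (Nat.card ↥(K ⊓ fix (α ^ i * β)) *
                Nat.card ↥(X ⊓ Y ⊓ fix (α ^ i * β))) := by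
            rw [WK, WZ, Finset.prod_mul_distrib]; ring
        _ = (Nat.card ↥(X ⊓ fix α) * Nat.card ↥(Y ⊓ fix α)) *
              ∏ i ∈ Finset.range p, (Nat.card ↥(X ⊓ fix (α ^ i * β)) *
                Nat.card ↥(Y ⊓ fix (α ^ i * β))) := by
            rw [rα, Finset.prod_congr rfl (fun i _ => ri i)]
        _ = (Nat.card ↥X * Nat.card ↥(X ⊓ (fix α ⊓ fix β)) ^ p) *
              (Nat.card ↥Y * Nat.card ↥(Y ⊓ (fix α ⊓ fix β)) ^ p) := by
            rw [WX, WY, Finset.prod_mul_distrib]; ring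
        _ = (Nat.card ↥X * Nat.card ↥Y) *
              (Nat.card ↥(X ⊓ (fix α ⊓ fix β)) * Nat.card ↥(Y ⊓ (fix α ⊓ fix β))) ^ p := by ring
        _ = _ := by rw [rP]
    exact Nat.eq_of_mul_eq_mul_right (pow_pos (Nat.mul_pos (hpos _) (hpos _)) p) e1
  -- conclude
  have hsub : (X : Set H) * (Y : Set H) ⊆ (K : Set H) := by
    intro g hg
    obtain ⟨x, hx, y, hy, rfl⟩ := Set.mem_mul.mp hg
    exact K.mul_mem (hX hx) (hY hy)
  have hcardXY : Nat.card ↥((X : Set H) * (Y : Set H)) = Nat.card ↥K := by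
    have h1 := card_mul_set X Y
    rw [← key] at h1
    exact Nat.eq_of_mul_eq_mul_right (hpos _) h1
  symm
  apply Set.eq_of_subset_of_ncard_le hsub _ (Set.toFinite _)
  rw [← _root_.Nat.card_coe_set_eq, ← _root_.Nat.card_coe_set_eq, hcardXY]
  exact le_of_eq rfl

end Cfsg.Agent.Helper8.Wielandt
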