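import Mathlib
import Cfsg.Agent.Helper8.Nilp

/-!
# More nilpotent / p-group utilities (helper8)

* `isPGroup_zpowers`, `isPGroup_of_forall`
* `isNilpotent_of_le`, `isNilpotent_map`
* `fixed_lift` : a `p`-group fixing a coset of a normal `p'`-subgroup centralizes an element of it
  (same statement as helper23's `exists_fixed_lift`, restated here to keep imports light)
* `le_of_sylow_le` : a subgroup containing a Sylow `q`-subgroup of `K` for each `q` contains `K`
* `ne_one_centralized` : a `p`-group normalizing a nontrivial `p`-group centralizes a nontrivial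
  element of it
* `exists_char_abelian_ne_bot`, `exists_normal_pgroup` : a nontrivial solvable normal subgroup
  contains a nontrivial normal `p`-subgroup of the whole group.
-/

set_option autoImplicit false

namespace Cfsg.Agent.Helper8

theorem isPGroup_zpowers {G : Type*} [Group G] {p : ℕ} (hp : p.Prime) {d : G} {k : ℕ}
    (hk : d ^ (p ^ k) = 1) : IsPGroup p (Subgroup.zpowers d) := by
  obtain ⟨j, -, hj⟩ := (Nat.dvd_prime_pow hp).mp (orderOf_dvd_of_pow_eq_one hk)
  exact IsPGroup.of_card (n := j) (by rw [Nat.card_zpowers, hj])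

theorem isPGroup_of_forall {G : Type*} [Group G] {p : ℕ} {K : Subgroup G}
    (h : ∀ a ∈ K, ∃ k : ℕ, a ^ (p ^ k) = 1) : IsPGroup p K := by
  intro a
  obtain ⟨k, hk⟩ := h a a.2
  exact ⟨k, Subtype.ext (by simpa using hk)⟩

theorem isNilpotent_of_le {G : Type*} [Group G] {K L : Subgroup G} (hL : Group.IsNilpotent L)
    (h : K ≤ L) : Group.IsNilpotent K :=
  (Group.isNilpotent_congr (Subgroup.subgroupOfEquivOfLe h)).mp inferInstance

theorem isNilpotent_map {G G' : Type*} [Group G] [Group G'] (f : G →* G') (K : Subgroup G)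
    (hK : Group.IsNilpotent K) : Group.IsNilpotent (K.map f) :=
  Group.nilpotent_of_surjective (f.subgroupMap K) (f.subgroupMap_surjective K)

/-- Lifting fixed points: if a `p`-group `P` fixes the coset `vN` of a normal `p'`-subgroup `N`,
then it centralizes some element of `vN`. -/
theorem fixed_lift {G : Type*} [Group G] [Finite G] {p : ℕ} [Fact p.Prime] (N : Subgroup G)
    [hNn : N.Normal] (hN : (Nat.card N).Coprime p) (P : Subgroup G) (hP : IsPGroup p P) (v : G)
    (hv : ∀ c ∈ P, v⁻¹ * c * v * c⁻¹ ∈ N) : ∃ n ∈ N, ∀ c ∈ P, c * (v * n) = (v * n) * c := by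
  let _ : MulAction P N :=
    { smul := fun c n => ⟨v⁻¹ * (c : G) * v * (n : G) * (c : G)⁻¹, by
        have : v⁻¹ * (c : G) * v * (n : G) * (c : G)⁻¹ =
            (v⁻¹ * (c : G) * v * (c : G)⁻¹) * ((c : G) * (n : G) * (c : G)⁻¹) := by group
        rw [this]
        exact N.mul_mem (hv c c.2) (hNn.conj_mem n n.2 c)⟩
      one_smul := by
        intro n
        apply Subtype.ext
        show v⁻¹ * ((1 : P) : G) * v * (n : G) * ((1 : P) : G)⁻¹ = n
        simp
      mul_smul := by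
        intro c d n
        apply Subtype.ext
        show v⁻¹ * ((c * d : P) : G) * v * (n : G) * ((c * d : P) : G)⁻¹ =
          v⁻¹ * (c : G) * v * (v⁻¹ * (d : G) * v * (n : G) * (d : G)⁻¹) * (c : G)⁻¹
        simp only [Subgroup.coe_mul]
        group }
  have hdvd : ¬ p ∣ Nat.card N := by
    intro h
    have h4 : p ∣ Nat.gcd (Nat.card N) p := Nat.dvd_gcd h dvd_rfl
    rw [hN.gcd_eq_one] at h4
    exact (Fact.out : p.Prime).one_lt.ne' (Nat.dvd_one.mp h4)
  obtain ⟨n, hn⟩ := hP.nonempty_fixed_point_of_prime_not_dvd_card N hdvd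
  refine ⟨n, n.2, ?_⟩
  intro c hc
  have h1 : (⟨c, hc⟩ : P) • n = n := hn ⟨c, hc⟩
  have h2 : v⁻¹ * c * v * (n : G) * c⁻¹ = n := congrArg Subtype.val h1
  have h3 : c * (v * n) = v * (v⁻¹ * c * v * (n : G) * c⁻¹) * c := by group
  rw [h3, h2]

/-- A subgroup containing a Sylow `q`-subgroup of `K` for every prime `q` contains `K`. -/
theorem le_of_sylow_le {G : Type*} [Group G] [Finite G] (K H : Subgroup G)
    (h : ∀ (q : ℕ) [Fact q.Prime], ∃ Q : Sylow q K, (Q : Subgroup K).map K.subtype ≤ H) :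
    K ≤ H := by
  have hidx : (H.subgroupOf K).index = 1 := by
    by_contra hne
    obtain ⟨q, hq, hqd⟩ := Nat.exists_prime_and_dvd hne
    have : Fact q.Prime := ⟨hq⟩
    obtain ⟨Q, hQ⟩ := h q
    have hQle : (Q : Subgroup K) ≤ H.subgroupOf K := by
      intro x hx
      rw [Subgroup.mem_subgroupOf]
      exact hQ ⟨x, hx, rfl⟩
    have h1 : (H.subgroupOf K).index ∣ (Q : Subgroup K).index := Subgroup.index_dvd_of_le hQle
    exact Q.not_dvd_index (dvd_trans hqd h1)
  have h2 := Subgroup.index_eq_one.mp hidx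
  rw [Subgroup.subgroupOf_eq_top] at h2
  exact h2

/-- A `p`-group normalizing a nontrivial `p`-group centralizes a nontrivial element of it. -/
theorem ne_one_centralized {G : Type*} [Group G] [Finite G] {p : ℕ} [Fact p.Prime]
    {P W : Subgroup G} (hP : IsPGroup p P) (hW : IsPGroup p W) (hne : W ≠ ⊥)
    (hPW : ∀ g ∈ P, ∀ w ∈ W, g * w * g⁻¹ ∈ W) :
    ∃ w ∈ W, w ≠ 1 ∧ ∀ g ∈ P, g * w = w * g := by
  let _ : MulAction P W :=
    { smul := fun c w => ⟨(c : G) * (w : G) * (c : G)⁻¹, hPW c c.2 w w.2⟩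
      one_smul := by
        intro w
        apply Subtype.ext
        show ((1 : P) : G) * (w : G) * ((1 : P) : G)⁻¹ = w
        simp
      mul_smul := by
        intro c d w
        apply Subtype.ext
        show ((c * d : P) : G) * (w : G) * ((c * d : P) : G)⁻¹ =
          (c : G) * ((d : G) * (w : G) * (d : G)⁻¹) * (c : G)⁻¹
        simp only [Subgroup.coe_mul]
        group }
  have hdvd : p ∣ Nat.card W := by
    obtain ⟨n, hn⟩ := IsPGroup.iff_card.mp hW
    rw [hn]
    have hn0 : n ≠ 0 := by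
      rintro rfl
      rw [pow_zero] at hn
      exact hne (Subgroup.card_eq_one.mp hn)
    exact dvd_pow_self p hn0
  have hfix1 : (1 : W) ∈ MulAction.fixedPoints P W := by
    intro c
    apply Subtype.ext
    show (c : G) * ((1 : W) : G) * (c : G)⁻¹ = ((1 : W) : G)
    simp
  obtain ⟨w, hw, hw1⟩ := hP.exists_fixed_point_of_prime_dvd_card_of_fixed_point W hdvd hfix1
  refine ⟨w, w.2, ?_, ?_⟩
  · intro h
    exact hw1 (Subtype.ext h.symm)
  · intro g hg
    have h1 : (⟨g, hg⟩ : P) • w = w := hw ⟨g, hg⟩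
    have h2 : g * (w : G) * g⁻¹ = w := congrArg Subtype.val h1
    calc g * (w : G) = g * (w : G) * g⁻¹ * g := by group
      _ = w * g := by rw [h2]

theorem exists_char_abelian_ne_bot (G : Type*) [Group G] [Group.IsSolvable G] [Nontrivial G] :
    ∃ N : Subgroup G, N.Characteristic ∧ IsMulCommutative N ∧ N ≠ ⊥ := by
  classical
  have hex : ∃ n, derivedSeries G n = ⊥ := Group.IsSolvable.solvable
  obtain ⟨m, hmdef⟩ : ∃ m, m = Nat.find hex := ⟨_, rfl⟩
  have hm : derivedSeries G m = ⊥ := by rw [hmdef]; exact Nat.find_spec hex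
  have hm0 : m ≠ 0 := by
    intro h0
    rw [h0, derivedSeries_zero] at hm
    exact top_ne_bot hm
  obtain ⟨i, hi⟩ := Nat.exists_eq_succ_of_ne_zero hm0
  refine ⟨derivedSeries G i, inferInstance, ?_, ?_⟩
  · rw [hi, derivedSeries_succ, Subgroup.commutator_eq_bot_iff_le_centralizer] at hm
    exact Subgroup.le_centralizer_iff_isMulCommutative.mp hm
  · exact Nat.find_min hex (by omega : i < Nat.find hex)

/-- A nontrivial solvable normal subgroup of a finite group contains a nontrivial normal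
`p`-subgroup of the whole group, for some prime `p`. -/
theorem exists_normal_pgroup {G : Type*} [Group G] [Finite G] (H : Subgroup G) [hHn : H.Normal]
    (hH : Group.IsSolvable H) (hHne : H ≠ ⊥) :
    ∃ p : ℕ, p.Prime ∧ ∃ H₁ : Subgroup G, H₁.Normal ∧ H₁ ≤ H ∧ H₁ ≠ ⊥ ∧ IsPGroup p H₁ := by
  have : Nontrivial H := (Subgroup.nontrivial_iff_ne_bot H).mpr hHne
  obtain ⟨A, hAchar, hAcomm, hAne⟩ := exists_char_abelian_ne_bot H
  obtain ⟨A', hA'def⟩ : ∃ A' : Subgroup G, A' = A.map H.subtype := ⟨_, rfl⟩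
  have hA'mem : ∀ a, a ∈ A' ↔ ∃ h : a ∈ H, (⟨a, h⟩ : H) ∈ A := by
    intro a
    rw [hA'def, Subgroup.mem_map]
    constructor
    · rintro ⟨x, hx, rfl⟩; exact ⟨x.2, hx⟩
    · rintro ⟨h, hx⟩; exact ⟨⟨a, h⟩, hx, rfl⟩
  have hA'comm : ∀ a ∈ A', ∀ b ∈ A', a * b = b * a := by
    intro a ha b hb
    obtain ⟨ha1, ha2⟩ := (hA'mem a).mp ha
    obtain ⟨hb1, hb2⟩ := (hA'mem b).mp hb
    have h1 := setLike_mul_comm ha2 hb2
    exact congrArg Subtype.val h1
  have hA'conj : ∀ a ∈ A', ∀ g : G, g * a * g⁻¹ ∈ A' := by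
    intro a ha g
    obtain ⟨ha1, ha2⟩ := (hA'mem a).mp ha
    rw [hA'mem]
    refine ⟨hHn.conj_mem a ha1 g, ?_⟩
    have h1 := Subgroup.characteristic_iff_map_le.mp hAchar (MulAut.conjNormal g)
    have h2 : (MulAut.conjNormal g : MulAut H) ⟨a, ha1⟩ ∈ A :=
      h1 (Subgroup.mem_map_of_mem _ ha2)
    have h3 : (MulAut.conjNormal g : MulAut H) ⟨a, ha1⟩ =
        ⟨g * a * g⁻¹, hHn.conj_mem a ha1 g⟩ := Subtype.ext rfl
    rwa [h3] at h2
  have hA'ne : A' ≠ ⊥ := by
    intro h
    apply hAne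
    rw [Subgroup.eq_bot_iff_forall]
    intro x hx
    have h1 : (x : G) ∈ A' := (hA'mem _).mpr ⟨x.2, hx⟩
    rw [h, Subgroup.mem_bot] at h1
    exact Subtype.ext h1
  have hcard : Nat.card A' ≠ 1 := fun h => hA'ne (Subgroup.card_eq_one.mp h)
  obtain ⟨p, hp, hpd⟩ := Nat.exists_prime_and_dvd hcard
  have : Fact p.Prime := ⟨hp⟩
  obtain ⟨x0, hx0⟩ := exists_prime_orderOf_dvd_card' (G := A') p hpd
  let H₁ : Subgroup G :=
    { carrier := {a | a ∈ A' ∧ a ^ p = 1}
      one_mem' := ⟨A'.one_mem, one_pow p⟩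
      mul_mem' := by
        rintro a b ⟨ha, hap⟩ ⟨hb, hbp⟩
        refine ⟨A'.mul_mem ha hb, ?_⟩
        rw [(show Commute a b from hA'comm a ha b hb).mul_pow, hap, hbp, one_mul]
      inv_mem' := by
        rintro a ⟨ha, hap⟩
        exact ⟨A'.inv_mem ha, by rw [inv_pow, hap, inv_one]⟩ }
  have hmem : ∀ a, a ∈ H₁ ↔ a ∈ A' ∧ a ^ p = 1 := fun a => Iff.rfl
  refine ⟨p, hp, H₁, ?_, ?_, ?_, ?_⟩
  · constructor
    intro a ha g
    rw [hmem] at ha ⊢
    exact ⟨hA'conj a ha.1 g, by rw [conj_pow, ha.2]; group⟩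
  · intro a ha
    obtain ⟨h1, -⟩ := (hA'mem a).mp ((hmem a).mp ha).1
    exact h1
  · intro hbot
    have hx0' : orderOf (x0 : G) = p := by rw [Subgroup.orderOf_coe]; exact hx0
    have hmem0 : (x0 : G) ∈ H₁ := (hmem _).mpr ⟨x0.2, by rw [← hx0', pow_orderOf_eq_one]⟩
    rw [hbot, Subgroup.mem_bot] at hmem0
    rw [hmem0, orderOf_one] at hx0'
    exact hp.one_lt.ne hx0'
  · apply isPGroup_of_forall
    intro a ha
    exact ⟨1, by rw [pow_one]; exact ((hmem a).mp ha).2⟩

end Cfsg.Agent.Helper8
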