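import Mathlib
import Cfsg.Agent.Helper8.Nilp
import Cfsg.Agent.Helper8.Nilp2
import Cfsg.Agent.Helper14.CoprimeAut
import Cfsg.Agent.S0499
import Cfsg.Agent.S0645
import Cfsg.Agent.S3379

/-!
2-local lemmas (helper8):

* `aut_fix_of_fix_order_four`: an automorphism of odd order of a 2-group fixing all elements of
  order dividing 4 is trivial (subgroup form).
* `cyc_aut_trivial`: an element acting with odd order on a cyclic 2-group centralizes it.
* `three_of_cyclic_index_two`: an element acting with odd prime order `r` on a subgroup of a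
  2-group with a cyclic subgroup of index at most 2 has `r = 3`.
-/

set_option autoImplicit false
open scoped commutatorElement

namespace Cfsg.Agent.Helper8

theorem card_eq_card_mul_relIndex {G : Type*} [Group G] {H K : Subgroup G} (h : H ≤ K) :
    Nat.card K = Nat.card H * H.relIndex K := by
  have h1 := (H.subgroupOf K).card_mul_index
  rw [Nat.card_congr (Subgroup.subgroupOfEquivOfLe h).toEquiv] at h1
  exact h1.symm

theorem nt_odd_pow (k r m : ℕ) (hr : Odd r) (h : k ^ r ≡ 1 [MOD 2 ^ m]) :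
    k ≡ 1 [MOD 2 ^ m] := by
  rcases Nat.eq_zero_or_pos m with hm | hm
  · rw [hm, pow_zero]; exact Nat.modEq_one
  have hr0 : r ≠ 0 := by
    obtain ⟨w, hw⟩ := hr
    omega
  have hcop : Nat.Coprime k (2 ^ m) := by
    have h1 : Nat.gcd (k ^ r) (2 ^ m) = Nat.gcd 1 (2 ^ m) := Nat.ModEq.gcd_eq h
    rw [Nat.gcd_one_left] at h1
    exact Nat.Coprime.coprime_dvd_left (dvd_pow_self k hr0) h1
  have he : k ^ (2 ^ (m - 1)) ≡ 1 [MOD 2 ^ m] := by
    have h1 := Nat.ModEq.pow_totient hcop
    rw [Nat.totient_prime_pow Nat.prime_two hm] at h1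
    simpa using h1
  obtain ⟨e, he'⟩ : ∃ e, e = 2 ^ (m - 1) := ⟨_, rfl⟩
  rw [← he'] at he
  rcases Nat.lt_or_ge 1 e with h1e | h1e
  · have hcop2 : Nat.Coprime r e := by
      rw [he']; exact Nat.Coprime.pow_right _ (Nat.coprime_two_left.mpr hr).symm
    obtain ⟨u, -, hu⟩ := Nat.exists_mul_mod_eq_one_of_coprime hcop2 h1e
    have h1 : k ^ (r * u) ≡ 1 [MOD 2 ^ m] := by
      rw [pow_mul]
      have h2 := h.pow u
      rwa [one_pow] at h2
    have h2 : k ^ (r * u) ≡ k [MOD 2 ^ m] := by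
      rw [← Nat.div_add_mod (r * u) e, hu, pow_add, pow_mul, pow_one]
      have h3 := (he.pow (r * u / e)).mul_right k
      rwa [one_pow, one_mul] at h3
    exact h2.symm.trans h1
  · have he1 : e = 1 := by
      have h0 : 0 < e := by rw [he']; positivity
      omega
    rw [he1, pow_one] at he
    exact he

/-- An element acting with odd order on a cyclic 2-group centralizes it. -/
theorem cyc_aut_trivial {G : Type*} [Group G] [Finite G] (d y : G) (m r : ℕ)
    (hd : orderOf d = 2 ^ m) (hyd : y * d * y⁻¹ ∈ Subgroup.zpowers d) (hr : Odd r)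
    (hyr : y ^ r * d = d * y ^ r) : y * d = d * y := by
  obtain ⟨k, hk⟩ := (Submonoid.mem_powers_iff _ _).mp (mem_powers_iff_mem_zpowers.mpr hyd)
  have h1 := Cfsg.Agent.S0645.conj_pow_formula y d k hk.symm r
  have h2 : d ^ (k ^ r) = d ^ 1 := by
    rw [pow_one, ← h1, hyr, mul_inv_cancel_right]
  have h3 : k ^ r ≡ 1 [MOD 2 ^ m] := by rw [← hd]; exact pow_eq_pow_iff_modEq.mp h2
  have h4 := nt_odd_pow k r m hr h3
  have h5 : d ^ k = d ^ 1 := by rw [pow_eq_pow_iff_modEq, hd]; exact h4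
  rw [pow_one] at h5
  rw [h5] at hk
  calc y * d = y * d * y⁻¹ * y := by group
    _ = d * y := by rw [← hk]

theorem arith_r3 (r jq jf : ℕ) (hr : r.Prime) (hr2 : r ≠ 2) (h1 : jf < jq) (h2 : jq ≤ jf + 2)
    (hd : r ∣ 2 ^ jq - 2 ^ jf) : r = 3 := by
  have hcase : jq = jf + 1 ∨ jq = jf + 2 := by omega
  have hr2' : ¬ r ∣ 2 ^ jf := by
    intro h
    exact hr2 ((Nat.prime_dvd_prime_iff_eq hr Nat.prime_two).mp (hr.dvd_of_dvd_pow h))
  obtain ⟨X, hX⟩ : ∃ X, X = 2 ^ jf := ⟨_, rfl⟩
  rcases hcase with h | h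
  · exfalso
    have e : 2 ^ jq - 2 ^ jf = 2 ^ jf := by
      rw [h, pow_succ, ← hX]; omega
    rw [e] at hd
    exact hr2' hd
  · have e : 2 ^ jq - 2 ^ jf = 2 ^ jf * 3 := by
      rw [h, pow_add, ← hX]; norm_num; omega
    rw [e] at hd
    rcases (Nat.Prime.dvd_mul hr).mp hd with h3 | h3
    · exact absurd h3 hr2'
    · exact (Nat.prime_dvd_prime_iff_eq hr Nat.prime_three).mp h3

/-- An element acting with odd prime order `r` on a subgroup `Q` of a 2-group `P` which has a
cyclic subgroup of index at most 2 satisfies `r = 3`. -/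
theorem three_of_cyclic_index_two {G : Type*} [Group G] [Finite G] (P Q : Subgroup G) (c : G)
    (hP : IsPGroup 2 P) (hcP : c ∈ P) (hPc : Nat.card P ≤ 2 * orderOf c) (hQP : Q ≤ P)
    (y : G) (r : ℕ) (hr : r.Prime) (hr2 : r ≠ 2) (hyN : y ∈ Subgroup.normalizer (Q : Set G))
    (hyC : y ∉ Subgroup.centralizer (Q : Set G)) (hyr : y ^ r ∈ Subgroup.centralizer (Q : Set G)) :
    r = 3 := by
  haveI : Fact (Nat.Prime 2) := ⟨Nat.prime_two⟩
  haveI : Fact r.Prime := ⟨hr⟩
  have hrodd : Odd r := hr.odd_of_ne_two hr2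
  obtain ⟨C, hC⟩ : ∃ C : Subgroup G, C = Subgroup.zpowers c := ⟨_, rfl⟩
  have hCP : C ≤ P := by rw [hC, Subgroup.zpowers_le]; exact hcP
  have hCcard : Nat.card C = orderOf c := by rw [hC, Nat.card_zpowers]
  have hCcyc : IsCyclic C := by rw [hC]; infer_instance
  have hrelcard := card_eq_card_mul_relIndex hCP
  rw [hCcard] at hrelcard
  have hrel : C.relIndex P ≤ 2 := by
    have hpos : 0 < orderOf c := orderOf_pos c
    by_contra hcon
    push Not at hcon
    nlinarith
  have hrel0 : C.relIndex P ≠ 0 := by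
    have hpos : 0 < Nat.card P := Nat.card_pos
    intro h0
    rw [h0, mul_zero] at hrelcard
    omega
  have hsq : ∀ q ∈ P, q ^ 2 ∈ C := by
    intro q hq
    have h1 : (⟨q, hq⟩ : ↥P) ^ 2 ∈ C.subgroupOf P := by
      have hidx : (C.subgroupOf P).index = 1 ∨ (C.subgroupOf P).index = 2 := by
        have h2 : (C.subgroupOf P).index = C.relIndex P := rfl
        omega
      rcases hidx with h | h
      · rw [Subgroup.index_eq_one.mp h]; exact Subgroup.mem_top _
      · exact Subgroup.sq_mem_of_index_two h _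
    rw [Subgroup.mem_subgroupOf] at h1
    simpa using h1
  obtain ⟨N, hN⟩ : ∃ N : Subgroup G, N = Subgroup.closure {s | ∃ q ∈ Q, s = q ^ 2} := ⟨_, rfl⟩
  have hNQ : N ≤ Q := by
    rw [hN, Subgroup.closure_le]
    rintro s ⟨q, hq, rfl⟩
    exact Q.pow_mem hq 2
  have hNC : N ≤ C := by
    rw [hN, Subgroup.closure_le]
    rintro s ⟨q, hq, rfl⟩
    exact hsq q (hQP hq)
  have hsqN : ∀ q ∈ Q, q ^ 2 ∈ N := by
    intro q hq
    rw [hN]
    exact Subgroup.subset_closure ⟨q, hq, rfl⟩
  have hconjN : ∀ s ∈ N, y * s * y⁻¹ ∈ N := by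
    have hle : N ≤ N.comap (MulAut.conj y).toMonoidHom := by
      conv_lhs => rw [hN]
      rw [Subgroup.closure_le]
      rintro s ⟨q, hq, rfl⟩
      show (MulAut.conj y) (q ^ 2) ∈ N
      rw [map_pow]
      apply hsqN
      rw [MulAut.conj_apply]
      exact (Subgroup.mem_normalizer_iff.mp hyN q).mp hq
    intro s hs
    have h1 := hle hs
    rwa [Subgroup.mem_comap, MulEquiv.coe_toMonoidHom, MulAut.conj_apply] at h1
  have hNcyc : IsCyclic N := by
    haveI : IsCyclic (N.subgroupOf C) := Subgroup.isCyclic _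
    exact isCyclic_of_surjective (Subgroup.subgroupOfEquivOfLe hNC)
      (Subgroup.subgroupOfEquivOfLe hNC).surjective
  obtain ⟨d, hd⟩ := Cfsg.Agent.S3379.exists_zpowers_eq N hNcyc
  have hdN : d ∈ N := by rw [hd]; exact Subgroup.mem_zpowers d
  obtain ⟨m, hm⟩ : ∃ m, orderOf d = 2 ^ m := by
    have hNp : IsPGroup 2 N := hP.to_le (hNQ.trans hQP)
    obtain ⟨m, hm⟩ := IsPGroup.iff_orderOf.mp hNp ⟨d, hdN⟩
    exact ⟨m, by rw [← hm, Subgroup.orderOf_mk]⟩
  have hyd : y * d = d * y := by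
    apply cyc_aut_trivial d y m r hm _ hrodd
    · exact ((Subgroup.mem_centralizer_iff.mp hyr) d (hNQ hdN)).symm
    · rw [← hd]; exact hconjN d hdN
  have hyNc : ∀ s ∈ N, y * s = s * y := by
    intro s hs
    rw [hd] at hs
    obtain ⟨j, hj⟩ := Subgroup.mem_zpowers_iff.mp hs
    rw [← hj]
    exact (Commute.zpow_right (show Commute y d from hyd) j).eq
  obtain ⟨jq, hjq⟩ := IsPGroup.iff_card.mp (hP.to_le hQP)
  obtain ⟨jn, hjn⟩ := IsPGroup.iff_card.mp (hP.to_le (hNQ.trans hQP))
  have hQ4 : Nat.card Q ≤ 4 * Nat.card N := by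
    obtain ⟨D, hD⟩ : ∃ D : Subgroup G, D = C ⊓ Q := ⟨_, rfl⟩
    have hDQ : D ≤ Q := by rw [hD]; exact inf_le_right
    have hDC : D ≤ C := by rw [hD]; exact inf_le_left
    have h1 : Nat.card Q = Nat.card D * D.relIndex Q := card_eq_card_mul_relIndex hDQ
    have h2 : D.relIndex Q ≤ 2 := by
      rw [hD, Subgroup.inf_relIndex_right]
      exact le_trans (Subgroup.relIndex_le_of_le_right hQP hrel0) hrel
    have hDcyc : IsCyclic D := by
      haveI : IsCyclic (D.subgroupOf C) := Subgroup.isCyclic _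
      exact isCyclic_of_surjective (Subgroup.subgroupOfEquivOfLe hDC)
        (Subgroup.subgroupOfEquivOfLe hDC).surjective
    obtain ⟨e, he⟩ := Cfsg.Agent.S3379.exists_zpowers_eq D hDcyc
    have heD : e ∈ D := by rw [he]; exact Subgroup.mem_zpowers e
    have h3 : Nat.card D = orderOf e := by rw [he, Nat.card_zpowers]
    have h4 : Subgroup.zpowers (e ^ 2) ≤ N := by
      rw [Subgroup.zpowers_le]; exact hsqN e (hDQ heD)
    have h5 : orderOf (e ^ 2) ≤ Nat.card N := by
      have h6 := Subgroup.card_le_of_le h4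
      rwa [Nat.card_zpowers] at h6
    have h6 : orderOf e ≤ 2 * orderOf (e ^ 2) := by
      rw [orderOf_pow]
      obtain ⟨o, ho⟩ : ∃ o, o = orderOf e := ⟨_, rfl⟩
      rw [← ho]
      obtain ⟨g, hg⟩ : ∃ g, g = Nat.gcd o 2 := ⟨_, rfl⟩
      rw [← hg]
      have hg1 : g ∣ o := by rw [hg]; exact Nat.gcd_dvd_left _ _
      have hg2 : g ≤ 2 := by
        rw [hg]; exact Nat.le_of_dvd (by norm_num) (Nat.gcd_dvd_right _ _)
      have hg0 : 0 < g := by
        rw [hg]; exact Nat.gcd_pos_of_pos_right _ (by norm_num)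
      obtain ⟨w, hw⟩ := hg1
      rw [hw, Nat.mul_div_cancel_left _ hg0]
      exact Nat.mul_le_mul_right w hg2
    calc Nat.card Q = Nat.card D * D.relIndex Q := h1
      _ ≤ Nat.card D * 2 := Nat.mul_le_mul_left _ h2
      _ ≤ (2 * Nat.card N) * 2 := Nat.mul_le_mul_right _ (by rw [h3]; omega)
      _ = 4 * Nat.card N := by ring
  have hmod := Cfsg.Agent.S0499.card_fix_modEq Q y hyN r hyr
  obtain ⟨F, hF⟩ : ∃ F : Subgroup ↥Q,
      F = (Subgroup.centralizer ({y} : Set G)).subgroupOf Q := ⟨_, rfl⟩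
  rw [← hF] at hmod
  have hFd : Nat.card F ∣ Nat.card Q := Subgroup.card_subgroup_dvd_card F
  rw [hjq] at hFd
  obtain ⟨jf, hjfq, hjf⟩ := (Nat.dvd_prime_pow Nat.prime_two).mp hFd
  have hNF : N.subgroupOf Q ≤ F := by
    intro s hs
    rw [hF, Subgroup.mem_subgroupOf, mem_cent]
    exact hyNc _ (Subgroup.mem_subgroupOf.mp hs)
  have hNFd : Nat.card N ∣ Nat.card F := by
    have h1 := Subgroup.card_dvd_of_le hNF
    rwa [Nat.card_congr (Subgroup.subgroupOfEquivOfLe hNQ).toEquiv] at h1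
  rw [hjn, hjf] at hNFd
  have hjnf : jn ≤ jf := (Nat.pow_dvd_pow_iff_le_right (by norm_num)).mp hNFd
  have hjfne : jf ≠ jq := by
    intro heq
    have hcard : Nat.card F = Nat.card Q := by rw [hjf, hjq, heq]
    have htop := (Subgroup.card_eq_iff_eq_top _).mp hcard
    apply hyC
    rw [Subgroup.mem_centralizer_iff]
    intro q hq
    have hmem : (⟨q, hq⟩ : ↥Q) ∈ F := by rw [htop]; exact Subgroup.mem_top _
    rw [hF, Subgroup.mem_subgroupOf, mem_cent] at hmem
    exact hmem.symm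
  have hjq2 : jq ≤ jn + 2 := by
    rw [hjq, hjn] at hQ4
    by_contra hcon
    push Not at hcon
    have h1 : 2 ^ (jn + 3) ≤ 2 ^ jq := Nat.pow_le_pow_right (by norm_num) hcon
    have e : 2 ^ (jn + 3) = 8 * 2 ^ jn := by rw [pow_add]; ring
    have h0 : 0 < 2 ^ jn := by positivity
    omega
  have hd' : r ∣ 2 ^ jq - 2 ^ jf := by
    rw [hjq, hjf] at hmod
    exact (Nat.modEq_iff_dvd' (Nat.pow_le_pow_right (by norm_num) hjfq)).mp hmod.symm
  exact arith_r3 r jq jf hr hr2 (by omega) (by omega) hd'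

/-- **Coprime action, `p = 2`** (subgroup form): if `a ^ k = 1` with `k` odd, and `a` stabilizes
the 2-subgroup `H` and fixes its elements of order dividing 4, then `a` fixes `H` pointwise. -/
theorem aut_fix_of_fix_order_four {G : Type*} [Group G] [Finite G]
    (a : MulAut G) (k : ℕ) (hk : a ^ k = 1) (hkp : Nat.Coprime k 2) :
    ∀ n : ℕ, ∀ H : Subgroup G, Nat.card H = n → IsPGroup 2 H → (∀ h ∈ H, a h ∈ H) →
      (∀ x ∈ H, x ^ 4 = 1 → a x = x) → ∀ h ∈ H, a h = h := by
  haveI : Fact (Nat.Prime 2) := ⟨Nat.prime_two⟩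
  intro n
  induction n using Nat.strong_induction_on with
  | _ n ih =>
    intro H hn hH hinv hfix
    have IH : ∀ N : Subgroup G, N ≤ H → N ≠ H → (∀ h ∈ N, a h ∈ N) → ∀ h ∈ N, a h = h := by
      intro N hNH hne hNinv
      have hlt : Nat.card N < n := by
        rw [← hn]
        by_contra hcon
        exact hne (Subgroup.eq_of_le_of_card_ge hNH (not_lt.mp hcon))
      exact ih _ hlt N rfl (hH.to_le hNH) hNinv (fun x hx => hfix x (hNH hx))
    have hpow : ∀ x ∈ H, ∃ e : ℕ, x ^ 2 ^ e = 1 := by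
      intro x hx
      obtain ⟨e, he⟩ := hH ⟨x, hx⟩
      exact ⟨e, by simpa using congrArg Subtype.val he⟩
    obtain ⟨N₀, hN₀⟩ : ∃ N₀ : Subgroup G,
        N₀ = Subgroup.closure {c | ∃ h ∈ H, c = h⁻¹ * a h} := ⟨_, rfl⟩
    have hgen : ∀ h ∈ H, h⁻¹ * a h ∈ N₀ := by
      intro h hh
      rw [hN₀]
      exact Subgroup.subset_closure ⟨h, hh, rfl⟩
    have hN₀H : N₀ ≤ H := by
      rw [hN₀, Subgroup.closure_le]
      rintro c ⟨h, hh, rfl⟩
      exact H.mul_mem (H.inv_mem hh) (hinv h hh)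
    have hN₀inv : ∀ x ∈ N₀, a x ∈ N₀ := by
      have hle : N₀ ≤ N₀.comap a.toMonoidHom := by
        conv_lhs => rw [hN₀]
        rw [Subgroup.closure_le]
        rintro c ⟨h, hh, rfl⟩
        show a (h⁻¹ * a h) ∈ N₀
        rw [map_mul, map_inv]
        exact hgen (a h) (hinv h hh)
      exact fun x hx => hle hx
    by_cases hcase : N₀ = H
    swap
    · have hfixN := IH N₀ hN₀H hcase hN₀inv
      intro h hh
      obtain ⟨e, he⟩ := hpow _ (hN₀H (hgen h hh))
      exact Cfsg.Agent.Helper14.aut_fix_elem (p := 2) a k hk hkp h (hfixN _ (hgen h hh)) e he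
    · have hcent : ∀ N : Subgroup G, N ≤ H → N ≠ H → (∀ h ∈ N, a h ∈ N) →
          (∀ x ∈ H, ∀ y ∈ N, x * y * x⁻¹ ∈ N) → ∀ y ∈ N, ∀ x ∈ H, x * y = y * x := by
        intro N hNH hne hNinv hNnorm y hy
        have hfixN := IH N hNH hne hNinv
        have hle : H ≤ Subgroup.centralizer {y} := by
          rw [← hcase, hN₀, Subgroup.closure_le]
          rintro c ⟨h, hh, rfl⟩
          rw [SetLike.mem_coe, Subgroup.mem_centralizer_iff]
          intro y' hy'
          rw [Set.mem_singleton_iff] at hy'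
          rw [hy']
          have h1 : a (h * y * h⁻¹) = h * y * h⁻¹ := hfixN _ (hNnorm h hh y hy)
          rw [map_mul, map_mul, map_inv, hfixN y hy] at h1
          calc y * (h⁻¹ * a h) = h⁻¹ * (h * y * h⁻¹) * a h := by group
            _ = h⁻¹ * (a h * y * (a h)⁻¹) * a h := by rw [h1]
            _ = h⁻¹ * a h * y := by group
        intro x hx
        have hxc := hle hx
        rw [Subgroup.mem_centralizer_iff] at hxc
        exact (hxc y rfl).symm
      intro h hh
      by_cases hbot : H = ⊥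
      · rw [hbot, Subgroup.mem_bot] at hh
        rw [hh, map_one]
      have hDH : ⁅H, H⁆ ≤ H := by
        rw [Subgroup.commutator_le]
        intro x hx y hy
        rw [commutatorElement_def]
        exact H.mul_mem (H.mul_mem (H.mul_mem hx hy) (H.inv_mem hx)) (H.inv_mem hy)
      have hDne : ⁅H, H⁆ ≠ H := by
        intro heq
        have : Nontrivial ↥H := (Subgroup.nontrivial_iff_ne_bot H).mpr hbot
        have : Group.IsNilpotent ↥H := hH.isNilpotent
        have h1 := Group.IsSolvable.commutator_lt_top_of_nontrivial ↥H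
        have h2 := Cfsg.Agent.Helper14.map_subtype_commutator H
        rw [heq] at h2
        have h3 : commutator ↥H = ⊤ := by
          rw [eq_top_iff]
          intro z _
          have hz : (z : G) ∈ (commutator ↥H).map H.subtype := by rw [h2]; exact z.2
          obtain ⟨z', hz', hzz⟩ := hz
          have hzeq : z' = z := Subtype.ext (by simpa using hzz)
          rw [← hzeq]; exact hz'
        exact h1.ne h3
      have hDinv : ∀ b : MulAut G, (∀ x ∈ H, b x ∈ H) → ∀ x ∈ ⁅H, H⁆, b x ∈ ⁅H, H⁆ := by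
        intro b hb
        have hle : ⁅H, H⁆ ≤ (⁅H, H⁆ : Subgroup G).comap b.toMonoidHom := by
          rw [Subgroup.commutator_le]
          intro x hx y hy
          show b ⁅x, y⁆ ∈ ⁅H, H⁆
          rw [map_commutatorElement]
          exact Subgroup.commutator_mem_commutator (hb x hx) (hb y hy)
        exact fun x hx => hle hx
      have hconj : ∀ x ∈ H, ∀ y ∈ H, (MulAut.conj x) y ∈ H := by
        intro x hx y hy
        rw [MulAut.conj_apply]
        exact H.mul_mem (H.mul_mem hx hy) (H.inv_mem hx)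
      have hDc : ∀ y ∈ ⁅H, H⁆, ∀ x ∈ H, x * y = y * x := by
        refine hcent ⁅H, H⁆ hDH hDne (hDinv a hinv) ?_
        intro x hx y hy
        have h1 := hDinv (MulAut.conj x) (hconj x hx) y hy
        rwa [MulAut.conj_apply] at h1
      obtain ⟨E, hEH, hEne, hEmem⟩ := Cfsg.Agent.Helper14.exists_powSub (p := 2) H hH hbot
      have hEinv : ∀ b : MulAut G, (∀ x ∈ H, b x ∈ H) → ∀ x ∈ E, b x ∈ E := by
        intro b hb x hx
        obtain ⟨hxH, y, hy, hxy⟩ := (hEmem x).mp hx
        refine (hEmem _).mpr ⟨hb x hxH, b y, hb y hy, ?_⟩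
        have h1 := hDinv b hb _ hxy
        rwa [map_mul, map_inv, map_pow] at h1
      have hEc : ∀ y ∈ E, ∀ x ∈ H, x * y = y * x := by
        refine hcent E hEH hEne (hEinv a hinv) ?_
        intro x hx y hy
        have h1 := hEinv (MulAut.conj x) (hconj x hx) y hy
        rwa [MulAut.conj_apply] at h1
      have hEfix := IH E hEH hEne (hEinv a hinv)
      have hypE : ∀ y ∈ H, y ^ 2 ∈ E := by
        intro y hy
        exact (hEmem _).mpr ⟨H.pow_mem hy 2, y, hy, by rw [inv_mul_cancel]; exact one_mem _⟩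
      have hpowmul : ∀ x ∈ H, ∀ y ∈ H, (x * y) ^ 4 = x ^ 4 * y ^ 4 := by
        intro x hx y hy
        have he : y⁻¹ * x⁻¹ * y * x ∈ ⁅H, H⁆ := by
          have h1 := Subgroup.commutator_mem_commutator (H.inv_mem hy) (H.inv_mem hx)
          rwa [commutatorElement_def, inv_inv, inv_inv] at h1
        obtain ⟨e, hedef⟩ : ∃ e, e = y⁻¹ * x⁻¹ * y * x := ⟨_, rfl⟩
        rw [← hedef] at he
        have hea : Commute e x := (hDc e he x hx).symm
        have heb : Commute e y := (hDc e he y hy).symm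
        have h1 : x⁻¹ * y * x = y * e := by rw [hedef]; group
        have h2 : (x⁻¹ * y * x) ^ 2 = y ^ 2 := by
          have h2' : x⁻¹ * y * x = x⁻¹ * y * x⁻¹⁻¹ := by rw [inv_inv]
          rw [h2', conj_pow, inv_inv]
          have hc := hEc (y ^ 2) (hypE y hy) x hx
          rw [mul_assoc, ← hc, inv_mul_cancel_left]
        have h3 : (y * e) ^ 2 = y ^ 2 * e ^ 2 := (heb.symm).mul_pow 2
        have hep : e ^ 2 = 1 := by
          have h4 : y ^ 2 * e ^ 2 = y ^ 2 * 1 := by rw [mul_one, ← h3, ← h1, h2]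
          exact mul_left_cancel h4
        have hxy2 : (x * y) ^ 2 = x ^ 2 * y ^ 2 * e := by
          calc (x * y) ^ 2 = x * x * (x⁻¹ * y * x) * y := by rw [pow_two]; group
            _ = x * x * (y * e) * y := by rw [h1]
            _ = x * x * (y * (y * e)) := by
                rw [mul_assoc (x * x) (y * e) y, mul_assoc y e y, heb.eq]
            _ = x ^ 2 * y ^ 2 * e := by rw [pow_two, pow_two]; simp only [mul_assoc]
        have hXY : Commute (x ^ 2) (y ^ 2) :=
          Commute.symm (hEc (x ^ 2) (hypE x hx) (y ^ 2) (H.pow_mem hy 2))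
        have heXY : Commute (x ^ 2 * y ^ 2) e :=
          ((hea.pow_right 2).mul_right (heb.pow_right 2)).symm
        calc (x * y) ^ 4 = ((x * y) ^ 2) ^ 2 := by rw [← pow_mul]
          _ = (x ^ 2 * y ^ 2 * e) ^ 2 := by rw [hxy2]
          _ = (x ^ 2 * y ^ 2) ^ 2 * e ^ 2 := heXY.mul_pow 2
          _ = (x ^ 2) ^ 2 * (y ^ 2) ^ 2 := by rw [hep, mul_one, hXY.mul_pow]
          _ = x ^ 4 * y ^ 4 := by rw [← pow_mul, ← pow_mul]
      have hc1 : (h⁻¹ * a h) ^ 4 = 1 := by
        have h4E : h ^ 4 ∈ E := by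
          have e4 : h ^ 4 = (h ^ 2) ^ 2 := by rw [← pow_mul]
          rw [e4]; exact E.pow_mem (hypE h hh) 2
        rw [hpowmul _ (H.inv_mem hh) _ (hinv h hh),
          show (a h) ^ 4 = a (h ^ 4) from (map_pow a h 4).symm, hEfix _ h4E, inv_pow,
          inv_mul_cancel]
      have hc2 : a (h⁻¹ * a h) = h⁻¹ * a h :=
        hfix _ (H.mul_mem (H.inv_mem hh) (hinv h hh)) hc1
      exact Cfsg.Agent.Helper14.aut_fix_elem (p := 2) a k hk hkp h hc2 2
        (by rw [show (2 : ℕ) ^ 2 = 4 by norm_num]; exact hc1)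

end Cfsg.Agent.Helper8
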