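import Mathlib
import Cfsg.Agent.Helper8.Nilp2
import Cfsg.Agent.Helper1.Frob

/-!
# Schmidt's theorem on minimal non-nilpotent groups (helper8)

* `isNilpotent_of_comm`
* `exists_normalizer_not_mem` : normalizer condition inside a nilpotent subgroup
* `eq_top_of_exists_sylow_le`
* `no_simple_minNonNilp` : a non-nilpotent finite group all of whose proper subgroups are
  nilpotent has a proper nontrivial normal subgroup
* `solvable_of_proper_nilpotent` : a finite group all of whose proper subgroups are nilpotent is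
  solvable
* `schmidt` : structure of minimal non-nilpotent groups
-/

set_option autoImplicit false
open Pointwise

namespace Cfsg.Agent.Helper8

universe u

theorem isNilpotent_of_comm {G : Type*} [hG : Group G] (h : ∀ a b : G, a * b = b * a) :
    Group.IsNilpotent G := by
  letI : CommGroup G := { hG with mul_comm := h }
  infer_instance

theorem comm_of_zpowers_eq_top {G : Type*} [Group G] {x : G} (hx : Subgroup.zpowers x = ⊤)
    (a b : G) : a * b = b * a := by
  have ha : a ∈ Subgroup.zpowers x := hx ▸ Subgroup.mem_top a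
  have hb : b ∈ Subgroup.zpowers x := hx ▸ Subgroup.mem_top b
  obtain ⟨i, rfl⟩ := Subgroup.mem_zpowers_iff.mp ha
  obtain ⟨j, rfl⟩ := Subgroup.mem_zpowers_iff.mp hb
  rw [← zpow_add, ← zpow_add, add_comm]

/-- Normalizer condition inside a nilpotent subgroup. -/
theorem exists_normalizer_not_mem {G : Type*} [Group G] (M : Subgroup G)
    (hM : Group.IsNilpotent M) (D : Subgroup G) (hD : D < M) :
    ∃ a ∈ M, a ∉ D ∧ a ∈ Subgroup.normalizer (D : Set G) := by
  have hlt : D.subgroupOf M < ⊤ := by
    rw [lt_top_iff_ne_top]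
    intro h
    rw [Subgroup.subgroupOf_eq_top] at h
    exact (not_le_of_gt hD) h
  have hnc := (normalizerCondition_of_isNilpotent (G := M)) _ hlt
  obtain ⟨a', ha'N, ha'D⟩ := SetLike.exists_of_lt hnc
  refine ⟨(a' : G), a'.2, fun h => ha'D (Subgroup.mem_subgroupOf.mpr h), ?_⟩
  rw [Subgroup.mem_normalizer_iff]
  intro h
  have hn := Subgroup.mem_normalizer_iff.mp ha'N
  constructor
  · intro hh
    have h1 := (hn ⟨h, hD.le hh⟩).mp (Subgroup.mem_subgroupOf.mpr hh)
    exact Subgroup.mem_subgroupOf.mp h1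
  · intro hh
    have hhM : h ∈ M := by
      have h1 : (a' : G)⁻¹ * ((a' : G) * h * (a' : G)⁻¹) * (a' : G) ∈ M :=
        M.mul_mem (M.mul_mem (M.inv_mem a'.2) (hD.le hh)) a'.2
      have e : (a' : G)⁻¹ * ((a' : G) * h * (a' : G)⁻¹) * (a' : G) = h := by group
      rwa [e] at h1
    have h1 := (hn ⟨h, hhM⟩).mpr (Subgroup.mem_subgroupOf.mpr hh)
    exact Subgroup.mem_subgroupOf.mp h1

/-- A subgroup containing some Sylow `q`-subgroup for every prime `q` is the whole group. -/
theorem eq_top_of_exists_sylow_le {G : Type*} [Group G] [Finite G] (H : Subgroup G)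
    (h : ∀ (q : ℕ) [Fact q.Prime], ∃ Q : Sylow q G, (Q : Subgroup G) ≤ H) : H = ⊤ := by
  rw [← Subgroup.index_eq_one]
  by_contra hne
  obtain ⟨q, hq, hqd⟩ := Nat.exists_prime_and_dvd hne
  have : Fact q.Prime := ⟨hq⟩
  obtain ⟨Q, hQ⟩ := h q
  exact Q.not_dvd_index (dvd_trans hqd (Subgroup.index_dvd_of_le hQ))

theorem isCoatom_conj {G : Type*} [Group G] (g : G) {M : Subgroup G} (hM : IsCoatom M) :
    IsCoatom (MulAut.conj g • M) := by
  have e : MulAut.conj g • M = MulEquiv.mapSubgroup (MulAut.conj g) M := by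
    ext x
    rw [Cfsg.Agent.Helper1.mem_conj_smul_iff, MulEquiv.coe_mapSubgroup, Subgroup.mem_map]
    constructor
    · intro h
      exact ⟨g⁻¹ * x * g, h, by simp [MulAut.conj_apply, mul_assoc]⟩
    · rintro ⟨y, hy, rfl⟩
      have e2 : g⁻¹ * (MulAut.conj g).toMonoidHom y * g = y := by
        simp [MulAut.conj_apply, mul_assoc]
      rw [e2]; exact hy
  rw [e]
  exact (OrderIso.isCoatom_iff _ _).mpr hM

/-- A non-nilpotent finite group all of whose proper subgroups are nilpotent is not simple. -/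
theorem no_simple_minNonNilp {G : Type*} [Group G] [Finite G]
    (hnn : ¬ Group.IsNilpotent G) (hsub : ∀ H : Subgroup G, H ≠ ⊤ → Group.IsNilpotent H)
    (hsimple : ∀ N : Subgroup G, N.Normal → N = ⊥ ∨ N = ⊤) : False := by
  classical
  have hncomm : ¬ (∀ a b : G, a * b = b * a) := fun h => hnn (isNilpotent_of_comm h)
  -- distinct maximal subgroups intersect trivially
  have hTI : ∀ n : ℕ, ∀ M₁ M₂ : Subgroup G, Nat.card G - Nat.card ↥(M₁ ⊓ M₂) = n →
      IsCoatom M₁ → IsCoatom M₂ → M₁ ≠ M₂ → M₁ ⊓ M₂ = ⊥ := by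
    intro n
    induction n using Nat.strong_induction_on with
    | _ n ih =>
      intro M₁ M₂ hn h1 h2 hne
      by_contra hD
      have hDlt1 : M₁ ⊓ M₂ < M₁ := by
        refine lt_of_le_of_ne inf_le_left (fun h => hne ?_)
        have hle : M₁ ≤ M₂ := inf_eq_left.mp h
        rcases h1.le_iff.mp hle with h' | h'
        · exact absurd h' h2.1
        · exact h'.symm
      have hDlt2 : M₁ ⊓ M₂ < M₂ := by
        refine lt_of_le_of_ne inf_le_right (fun h => hne ?_)
        have hle : M₂ ≤ M₁ := inf_eq_right.mp h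
        rcases h2.le_iff.mp hle with h' | h'
        · exact absurd h' h1.1
        · exact h'
      obtain ⟨a, haM, haD, haN⟩ := exists_normalizer_not_mem M₁ (hsub M₁ h1.1) (M₁ ⊓ M₂) hDlt1
      obtain ⟨b, hbM, hbD, hbN⟩ := exists_normalizer_not_mem M₂ (hsub M₂ h2.1) (M₁ ⊓ M₂) hDlt2
      have hNtop : Subgroup.normalizer ((M₁ ⊓ M₂ : Subgroup G) : Set G) ≠ ⊤ := by
        intro htop
        have hnorm : (M₁ ⊓ M₂).Normal := Subgroup.normalizer_eq_top_iff.mp htop
        rcases hsimple _ hnorm with h | h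
        · exact hD h
        · exact h1.1 (top_le_iff.mp (h ▸ inf_le_left))
      obtain ⟨M, hM, hNM⟩ := (eq_top_or_exists_le_coatom _).resolve_left hNtop
      have hDM : M₁ ⊓ M₂ ≤ M := le_trans Subgroup.le_normalizer hNM
      have key : ∀ M' : Subgroup G, IsCoatom M' → ∀ c, c ∈ M' → c ∉ M₁ ⊓ M₂ → c ∈ M →
          M₁ ⊓ M₂ ≤ M' → M = M' := by
        intro M' hM' c hcM' hcD hcM hDM'
        by_contra hne'
        have hDle : M₁ ⊓ M₂ ≤ M ⊓ M' := le_inf hDM hDM'
        have hlt : Nat.card ↥(M₁ ⊓ M₂) < Nat.card ↥(M ⊓ M') := by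
          by_contra hle
          have heq := Subgroup.eq_of_le_of_card_ge hDle (not_lt.mp hle)
          exact hcD (heq ▸ Subgroup.mem_inf.mpr ⟨hcM, hcM'⟩)
        have hle2 : Nat.card ↥(M ⊓ M') ≤ Nat.card G := Subgroup.card_le_card_group _
        have hbot := ih (Nat.card G - Nat.card ↥(M ⊓ M')) (by omega) M M' rfl hM hM' hne'
        apply hD
        rw [eq_bot_iff, ← hbot]
        exact hDle
      have e1 := key M₁ h1 a haM haD (hNM haN) inf_le_left
      have e2 := key M₂ h2 b hbM hbD (hNM hbN) inf_le_right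
      exact hne (e1.symm.trans e2)
  -- maximal subgroups are nontrivial and self-normalizing
  have hcoat : ∀ M : Subgroup G, IsCoatom M →
      M ≠ ⊥ ∧ ∀ g : G, (∀ h, h ∈ M ↔ g * h * g⁻¹ ∈ M) → g ∈ M := by
    intro M hM
    have hMbot : M ≠ ⊥ := by
      intro hb
      apply hncomm
      intro a b
      by_cases hx : ∃ x : G, Subgroup.zpowers x = ⊤
      · obtain ⟨x, hx⟩ := hx
        exact comm_of_zpowers_eq_top hx a b
      · have h1 : ∀ x : G, x = 1 := by
          intro x
          rcases hM.le_iff.mp (hb ▸ bot_le : M ≤ Subgroup.zpowers x) with h | h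
          · exact absurd ⟨x, h⟩ hx
          · rw [hb] at h
            exact Subgroup.zpowers_eq_bot.mp h
        rw [h1 a, h1 b]
    refine ⟨hMbot, ?_⟩
    intro g hg
    have hgN : g ∈ Subgroup.normalizer (M : Set G) := Subgroup.mem_normalizer_iff.mpr hg
    rcases hM.le_iff.mp (Subgroup.le_normalizer (H := M)) with h | h
    · have hnorm : M.Normal := Subgroup.normalizer_eq_top_iff.mp h
      rcases hsimple M hnorm with h' | h'
      · exact absurd h' hMbot
      · exact absurd h' hM.1
    · rw [h] at hgN; exact hgN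
  have hFrob : ∀ M : Subgroup G, IsCoatom M → Cfsg.IsFrobeniusComplement M := by
    intro M hM
    refine ⟨(hcoat M hM).1, hM.1, ?_⟩
    intro g hg
    apply hTI _ M (MulAut.conj g • M) rfl hM (isCoatom_conj g hM)
    intro heq
    have h1 : g⁻¹ ∈ M := by
      apply (hcoat M hM).2
      intro h
      rw [inv_inv]
      exact (by rw [← heq] : h ∈ M ↔ h ∈ MulAut.conj g • M).trans
        (Cfsg.Agent.Helper1.mem_conj_smul_iff g h M)
    exact hg (by simpa using M.inv_mem h1)
  have hnontriv : (⊥ : Subgroup G) ≠ ⊤ := by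
    intro h
    apply hncomm
    intro a b
    have ha : a ∈ (⊥ : Subgroup G) := h ▸ Subgroup.mem_top a
    have hb : b ∈ (⊥ : Subgroup G) := h ▸ Subgroup.mem_top b
    rw [Subgroup.mem_bot.mp ha, Subgroup.mem_bot.mp hb]
  obtain ⟨M, hM, -⟩ := (eq_top_or_exists_le_coatom (⊥ : Subgroup G)).resolve_left hnontriv
  have hFM := hFrob M hM
  have hcM := Cfsg.Agent.Helper1.card_compl_kernel M hFM
  have hidx : M.index ≠ 1 := fun h => hM.1 (Subgroup.index_eq_one.mp h)
  have hidx0 : M.index ≠ 0 := Subgroup.index_ne_zero_of_finite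
  have hcardM : 1 < Nat.card M := M.one_lt_card_iff_ne_bot.mpr hFM.1
  have hmul : M.index * Nat.card M = Nat.card G := M.index_mul_card
  have h3 : M.index * (Nat.card M - 1) + M.index = Nat.card G := by
    rw [← hmul, ← Nat.mul_succ]; congr 1; omega
  have hone : ∀ K : Subgroup G, (1 : G) ∈ Cfsg.frobeniusKernel K := fun K => Or.inl rfl
  have hex : ∃ x : G, x ≠ 1 ∧ x ∈ Cfsg.frobeniusKernel M := by
    by_contra hcon
    push Not at hcon
    have hEq : Nat.card {x : G // x ∉ Cfsg.frobeniusKernel M} = Nat.card {x : G // x ≠ 1} := by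
      apply Nat.card_congr
      refine Equiv.subtypeEquivRight ?_
      intro x
      constructor
      · intro hx h1
        exact hx (h1 ▸ hone M)
      · intro hx hk
        exact hcon x hx hk
    rw [hcM, Cfsg.Agent.Helper1.card_ne_one_subtype] at hEq
    omega
  obtain ⟨x, hx1, hxK⟩ := hex
  have hzx : Subgroup.zpowers x ≠ ⊤ := fun h => hncomm (comm_of_zpowers_eq_top h)
  obtain ⟨M', hM', hxM'⟩ := (eq_top_or_exists_le_coatom _).resolve_left hzx
  have hxM'' : x ∈ M' := hxM' (Subgroup.mem_zpowers x)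
  have hFM' := hFrob M' hM'
  have hcM' := Cfsg.Agent.Helper1.card_compl_kernel M' hFM'
  have hidx' : M'.index ≠ 0 := Subgroup.index_ne_zero_of_finite
  have hcardM' : 1 < Nat.card M' := M'.one_lt_card_iff_ne_bot.mpr hFM'.1
  have hmul' : M'.index * Nat.card M' = Nat.card G := M'.index_mul_card
  have h3' : M'.index * (Nat.card M' - 1) + M'.index = Nat.card G := by
    rw [← hmul', ← Nat.mul_succ]; congr 1; omega
  have hdisj : ∀ z : G, z ∉ Cfsg.frobeniusKernel M → z ∉ Cfsg.frobeniusKernel M' → False := by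
    intro z hz hz'
    rw [Cfsg.Agent.Helper1.not_mem_kernel_iff] at hz hz'
    obtain ⟨hz1, g, hg⟩ := hz
    obtain ⟨-, h, hh⟩ := hz'
    have hzg : z ∈ MulAut.conj g • M := (Cfsg.Agent.Helper1.mem_conj_smul_iff g z M).mpr hg
    have hzh : z ∈ MulAut.conj h • M' := (Cfsg.Agent.Helper1.mem_conj_smul_iff h z M').mpr hh
    by_cases heq : MulAut.conj g • M = MulAut.conj h • M'
    · have h1 : h * x * h⁻¹ ∈ MulAut.conj h • M' := by
        rw [Cfsg.Agent.Helper1.mem_conj_smul_iff]
        have e : h⁻¹ * (h * x * h⁻¹) * h = x := by group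
        rw [e]; exact hxM''
      rw [← heq, Cfsg.Agent.Helper1.mem_conj_smul_iff] at h1
      have h2 : x ∉ Cfsg.frobeniusKernel M := by
        rw [Cfsg.Agent.Helper1.not_mem_kernel_iff]
        refine ⟨hx1, h⁻¹ * g, ?_⟩
        have e : (h⁻¹ * g)⁻¹ * x * (h⁻¹ * g) = g⁻¹ * (h * x * h⁻¹) * g := by group
        rw [e]; exact h1
      exact h2 hxK
    · have hbot := hTI _ _ _ rfl (isCoatom_conj g hM) (isCoatom_conj h hM') heq
      have h1 : z ∈ (MulAut.conj g • M) ⊓ (MulAut.conj h • M') := Subgroup.mem_inf.mpr ⟨hzg, hzh⟩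
      rw [hbot, Subgroup.mem_bot] at h1
      exact hz1 h1
  -- counting
  have hA : Nat.card {z : G // z ∉ Cfsg.frobeniusKernel M} =
      Set.ncard {z : G | z ∉ Cfsg.frobeniusKernel M} := Nat.card_coe_set_eq _
  have hB : Nat.card {z : G // z ∉ Cfsg.frobeniusKernel M'} =
      Set.ncard {z : G | z ∉ Cfsg.frobeniusKernel M'} := Nat.card_coe_set_eq _
  have hC : Nat.card {z : G // z ≠ 1} = Set.ncard {z : G | z ≠ 1} := Nat.card_coe_set_eq _
  have hdis : Disjoint {z : G | z ∉ Cfsg.frobeniusKernel M} {z : G | z ∉ Cfsg.frobeniusKernel M'} := by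
    rw [Set.disjoint_left]
    intro z hz hz'
    exact hdisj z hz hz'
  have hsubset : {z : G | z ∉ Cfsg.frobeniusKernel M} ∪ {z : G | z ∉ Cfsg.frobeniusKernel M'} ⊆
      {z : G | z ≠ 1} := by
    rintro z (hz | hz) h1
    · exact hz (h1 ▸ hone M)
    · exact hz (h1 ▸ hone M')
  have hle := Set.ncard_le_ncard hsubset (Set.toFinite _)
  rw [Set.ncard_union_eq hdis (Set.toFinite _) (Set.toFinite _), ← hA, ← hB, ← hC, hcM, hcM',
    Cfsg.Agent.Helper1.card_ne_one_subtype] at hle
  have hi1 : M.index ≤ M.index * (Nat.card M - 1) := Nat.le_mul_of_pos_right _ (by omega)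
  have hi2 : M'.index ≤ M'.index * (Nat.card M' - 1) := Nat.le_mul_of_pos_right _ (by omega)
  omega

/-- A finite group all of whose proper subgroups are nilpotent is solvable. -/
theorem solvable_of_proper_nilpotent : ∀ n : ℕ, ∀ (G : Type u) [Group G] [Finite G],
    Nat.card G = n → (∀ H : Subgroup G, H ≠ ⊤ → Group.IsNilpotent H) → Group.IsSolvable G := by
  intro n
  induction n using Nat.strong_induction_on with
  | _ n ih =>
    intro G _ _ hn hsub
    by_cases hnil : Group.IsNilpotent G
    · exact inferInstance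
    by_cases hs : ∀ N : Subgroup G, N.Normal → N = ⊥ ∨ N = ⊤
    · exact (no_simple_minNonNilp hnil hsub hs).elim
    · push Not at hs
      obtain ⟨N, hNn, hNb, hNt⟩ := hs
      have hNnil : Group.IsNilpotent N := hsub N hNt
      have hNsol : Group.IsSolvable N := inferInstance
      have hcard : Nat.card (G ⧸ N) < n := by
        rw [← hn, Subgroup.card_eq_card_quotient_mul_card_subgroup N]
        have h1 : 1 < Nat.card N := N.one_lt_card_iff_ne_bot.mpr hNb
        have h2 : 0 < Nat.card (G ⧸ N) := Nat.card_pos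
        nlinarith
      have hq : Group.IsSolvable (G ⧸ N) := by
        apply ih _ hcard (G ⧸ N) rfl
        intro K hK
        have hK' : K.comap (QuotientGroup.mk' N) ≠ ⊤ := by
          intro h
          apply hK
          rw [← Subgroup.map_comap_eq_self_of_surjective (QuotientGroup.mk'_surjective N) K, h,
            Subgroup.map_top_of_surjective _ (QuotientGroup.mk'_surjective N)]
        have h1 := isNilpotent_map (QuotientGroup.mk' N) _ (hsub _ hK')
        rwa [Subgroup.map_comap_eq_self_of_surjective (QuotientGroup.mk'_surjective N)] at h1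
      exact Group.isSolvable_of_ker_le_range N.subtype (QuotientGroup.mk' N)
        (by rw [QuotientGroup.ker_mk', Subgroup.range_subtype])

end Cfsg.Agent.Helper8
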