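import Mathlib
import Cfsg.Agent.Helper8.Schmidt

set_option autoImplicit false

namespace Cfsg.Agent.Helper8.S4349e

/-- [P5] Alperin-style: an element in two distinct Sylow 2-subgroups lies in a 2-subgroup
normalised by a nontrivial element of odd order. -/
theorem tame {G : Type*} [Group G] [Finite G] (x : G) (P Q : Sylow 2 G) (hxP : x ∈ P)
    (hxQ : x ∈ Q) (hne : P ≠ Q) :
    ∃ (D : Subgroup G) (g : G), IsPGroup 2 D ∧ x ∈ D ∧ (∀ d ∈ D, g * d * g⁻¹ ∈ D) ∧ g ≠ 1 ∧
      Odd (orderOf g) := by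
  classical
  haveI : Fact (Nat.Prime 2) := ⟨Nat.prime_two⟩
  let S := {pq : Sylow 2 G × Sylow 2 G // x ∈ pq.1 ∧ x ∈ pq.2 ∧ pq.1 ≠ pq.2}
  haveI : Nonempty S := ⟨⟨(P, Q), hxP, hxQ, hne⟩⟩
  obtain ⟨⟨⟨P', Q'⟩, hxP', hxQ', hne'⟩, hmax⟩ := Finite.exists_max
    (fun s : S => Nat.card (((s.1.1 : Subgroup G) ⊓ (s.1.2 : Subgroup G) : Subgroup G)))
  have hxP'' : x ∈ P' := hxP'
  have hxQ'' : x ∈ Q' := hxQ'
  have hne'' : P' ≠ Q' := hne'
  have hmax' : ∀ (T T' : Sylow 2 G), x ∈ T → x ∈ T' → T ≠ T' →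
      Nat.card (((T : Subgroup G) ⊓ (T' : Subgroup G) : Subgroup G)) ≤
        Nat.card (((P' : Subgroup G) ⊓ (Q' : Subgroup G) : Subgroup G)) := by
    intro T T' h1 h2 h3
    exact hmax ⟨(T, T'), h1, h2, h3⟩
  clear hmax
  set D : Subgroup G := (P' : Subgroup G) ⊓ (Q' : Subgroup G) with hD
  have hD2 : IsPGroup 2 D := P'.isPGroup'.to_le inf_le_left
  have hxD : x ∈ D := ⟨hxP'', hxQ''⟩
  by_contra hcon
  have hodd : ∀ g ∈ Subgroup.normalizer (D : Set G), Odd (orderOf g) → g = 1 := by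
    intro g hg ho
    by_contra h1
    exact hcon ⟨D, g, hD2, hxD, fun d hd => (Subgroup.mem_normalizer_iff.mp hg d).mp hd, h1, ho⟩
  have hN2 : IsPGroup 2 (Subgroup.normalizer (D : Set G)) := by
    intro g
    have hpos : orderOf (g : G) ≠ 0 := (orderOf_pos (g : G)).ne'
    obtain ⟨k, m, hm, hkm⟩ := Nat.exists_eq_two_pow_mul_odd hpos
    refine ⟨k, ?_⟩
    have h1 : orderOf ((g : G) ^ (2 ^ k)) = m := by
      rw [orderOf_pow_of_dvd (by positivity) ⟨m, hkm⟩, hkm, Nat.mul_div_cancel_left _ (by positivity)]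
    have h2 : (g : G) ^ (2 ^ k) = 1 := hodd _ (Subgroup.pow_mem _ g.2 _) (h1 ▸ hm)
    apply Subtype.ext
    rw [Subgroup.coe_pow]
    exact h2
  obtain ⟨R, hR⟩ := hN2.exists_le_sylow
  have hDN : D ≤ Subgroup.normalizer (D : Set G) := Subgroup.le_normalizer
  have hDR : D ≤ (R : Subgroup G) := hDN.trans hR
  have key : ∀ T : Sylow 2 G, x ∈ T → D ≤ (T : Subgroup G) →
      (Nat.card (((R : Subgroup G) ⊓ (T : Subgroup G) : Subgroup G)) ≤ Nat.card D ∨ R = T) →
      D ≠ (T : Subgroup G) → R = T := by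
    intro T hxT hDT hmaxT hDneT
    rcases hmaxT with hcard | h
    swap
    · exact h
    exfalso
    have hlt : D < (T : Subgroup G) := lt_of_le_of_ne hDT hDneT
    obtain ⟨a, haT, haD, haN⟩ := Cfsg.Agent.Helper8.exists_normalizer_not_mem
      (T : Subgroup G) (T.isPGroup'.isNilpotent) D hlt
    have hle : D ≤ (R : Subgroup G) ⊓ (T : Subgroup G) := le_inf hDR hDT
    have heq : D = (R : Subgroup G) ⊓ (T : Subgroup G) := Subgroup.eq_of_le_of_card_ge hle hcard
    apply haD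
    rw [heq]
    exact ⟨hR haN, haT⟩
  have hRP : R = P' := by
    apply key P' hxP'' inf_le_left
    · by_cases h : R = P'
      · exact Or.inr h
      · exact Or.inl (hmax' R P' (hDR hxD) hxP'' h)
    · intro h
      have hle : (P' : Subgroup G) ≤ Q' := by
        rw [← h]; exact inf_le_right
      have := P'.is_maximal' Q'.isPGroup' hle
      exact hne'' (Sylow.ext this.symm)
  have hRQ : R = Q' := by
    apply key Q' hxQ'' inf_le_right
    · by_cases h : R = Q'
      · exact Or.inr h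
      · have h1 := hmax' R Q' (hDR hxD) hxQ'' h
        exact Or.inl h1
    · intro h
      have hle : (Q' : Subgroup G) ≤ P' := by
        rw [← h]; exact inf_le_left
      have := Q'.is_maximal' P'.isPGroup' hle
      exact hne'' (Sylow.ext this)
  exact hne'' (hRP.symm.trans hRQ)

end Cfsg.Agent.Helper8.S4349e
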