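import Mathlib
import Cfsg.Agent.Helper8.AbConj

set_option autoImplicit false
open Cfsg
open Pointwise

/-! # Solvable groups whose abelian subgroups of equal order are conjugate: all quotients -/

namespace Cfsg.Agent.Helper8.AbConj

universe u

open Cfsg.Agent.Helper8.SameOrd
open Cfsg.Agent.S0001 (ConjTo conjTo_trans conjTo_map conjTo_smul conjTo_of_smul conjTo_of_subgroup)

/-- Abelian subgroups of equal order are conjugate. -/
def HB (G : Type*) [Group G] : Prop :=
  ∀ A B : Subgroup G, IsMulCommutative ↥A → IsMulCommutative ↥B → Nat.card ↥A = Nat.card ↥B →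
    ∃ g : G, B = A.map (MulAut.conj g).toMonoidHom

theorem HB.equiv {G₁ G₂ : Type*} [Group G₁] [Group G₂] (h : HB G₁) (e : G₁ ≃* G₂) : HB G₂ := by
  intro A B hA hB hc
  obtain ⟨eA⟩ : Nonempty (↥A ≃* ↥(A.map (e.symm : G₂ →* G₁))) := ⟨e.symm.subgroupMap A⟩
  obtain ⟨eB⟩ : Nonempty (↥B ≃* ↥(B.map (e.symm : G₂ →* G₁))) := ⟨e.symm.subgroupMap B⟩
  have hA' : IsMulCommutative ↥(A.map (e.symm : G₂ →* G₁)) := ⟨⟨fun a b => by
    apply eA.symm.injective; rw [map_mul, map_mul]; exact hA.is_comm.comm _ _⟩⟩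
  have hB' : IsMulCommutative ↥(B.map (e.symm : G₂ →* G₁)) := ⟨⟨fun a b => by
    apply eB.symm.injective; rw [map_mul, map_mul]; exact hB.is_comm.comm _ _⟩⟩
  obtain ⟨g, hg⟩ := h _ _ hA' hB'
    (by rw [← Nat.card_congr eA.toEquiv, ← Nat.card_congr eB.toEquiv, hc])
  refine ⟨e g, ?_⟩
  have key : ∀ (X : Subgroup G₂) (y : G₂), e.symm y ∈ X.map (e.symm : G₂ →* G₁) ↔ y ∈ X := by
    intro X y
    constructor
    · intro hy
      obtain ⟨x, hx, hxy⟩ := Subgroup.mem_map.mp hy
      have : x = y := e.symm.injective hxy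
      rw [← this]; exact hx
    · intro hy
      exact Subgroup.mem_map_of_mem _ hy
  ext y
  rw [← key B y, hg, (conjTo_map g _) (e.symm y), (conjTo_map (e g) A) y, ← key A]
  rw [map_mul, map_mul, map_inv, e.symm_apply_apply]

/-- Local hypothesis at the primes dividing `|M|` which makes minimal supplements abelian of
controlled order. -/
def Loc {G : Type u} [Group G] (M : Subgroup G) [M.Normal] (Ab : Subgroup (G ⧸ M)) : Prop :=
  ∀ (p : ℕ) [Fact p.Prime], p ∣ Nat.card M → ∀ S : Subgroup G, IsPGroup p S → ¬ S ≤ M →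
    S.map (QuotientGroup.mk' M) ≤ Ab →
    (∀ x ∈ S, ∀ y ∈ S, x * y = y * x) ∧
      p ^ (Nat.card M).factorization p ∣ Nat.card (S ⊓ M : Subgroup G)

theorem exists_lift' {G : Type u} [Group G] [Finite G]
    (M : Subgroup G) [hMn : M.Normal]
    (Ab : Subgroup (G ⧸ M)) (hAb : IsMulCommutative Ab) (hloc : Loc M Ab) :
    ∃ A : Subgroup G, IsMulCommutative A ∧ A.map (QuotientGroup.mk' M) = Ab ∧
      ∀ p : ℕ, p.Prime → (Nat.card A).factorization p =
        if p ∣ Nat.card Ab then (Nat.card Ab).factorization p + (Nat.card M).factorization p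
        else 0 := by
  obtain ⟨A, -, hAmin⟩ := exists_minimal_le_of_wellFoundedLT
    (fun A : Subgroup G => A ⊔ M = Ab.comap (QuotientGroup.mk' M))
    (Ab.comap (QuotientGroup.mk' M))
    (sup_eq_left.mpr (by
      intro m hm
      rw [Subgroup.mem_comap]
      have h1 : QuotientGroup.mk' M m = 1 := (QuotientGroup.eq_one_iff m).mpr hm
      rw [h1]; exact Ab.one_mem))
  have hAsup : A ⊔ M = Ab.comap (QuotientGroup.mk' M) := hAmin.prop
  have hmin : ∀ A' : Subgroup G, A' ≤ A → A' ⊔ M = Ab.comap (QuotientGroup.mk' M) → A' = A :=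
    fun A' h1 h2 => le_antisymm h1 (hAmin.le_of_le h2 h1)
  have hAmap : A.map (QuotientGroup.mk' M) = Ab := by
    have h1 : (A ⊔ M).map (QuotientGroup.mk' M) = A.map (QuotientGroup.mk' M) := by
      rw [Subgroup.map_sup, QuotientGroup.map_mk'_self, sup_bot_eq]
    rw [← h1, hAsup]
    exact Subgroup.map_comap_eq_self_of_surjective (QuotientGroup.mk'_surjective M) Ab
  have hcommM : ∀ a ∈ A, ∀ b ∈ A, a * b * a⁻¹ * b⁻¹ ∈ M := by
    intro a ha b hb
    have h1 : QuotientGroup.mk' M a ∈ Ab := hAmap ▸ Subgroup.mem_map_of_mem _ ha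
    have h2 : QuotientGroup.mk' M b ∈ Ab := hAmap ▸ Subgroup.mem_map_of_mem _ hb
    have h3 : (⟨_, h1⟩ : Ab) * ⟨_, h2⟩ = ⟨_, h2⟩ * ⟨_, h1⟩ := hAb.is_comm.comm _ _
    have h4 : QuotientGroup.mk' M a * QuotientGroup.mk' M b =
        QuotientGroup.mk' M b * QuotientGroup.mk' M a := congrArg Subtype.val h3
    apply (QuotientGroup.eq_one_iff _).mp
    show QuotientGroup.mk' M (a * b * a⁻¹ * b⁻¹) = 1
    rw [map_mul, map_mul, map_mul, map_inv, map_inv, h4]; group
  have hsupp : ∀ X : Subgroup ↥A, X ⊔ M.subgroupOf A = ⊤ → X = ⊤ := by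
    intro X hX
    have h1 : A ≤ X.map A.subtype ⊔ M := by
      intro a ha
      have h2 : (⟨a, ha⟩ : ↥A) ∈ X ⊔ M.subgroupOf A := by rw [hX]; trivial
      obtain ⟨x, hx, m, hm, hxm⟩ := (Cfsg.Agent.S0001.mem_sup_normal X (M.subgroupOf A) _).1 h2
      have h3 : a = (x : G) * (m : G) := congrArg Subtype.val hxm
      rw [h3]
      exact Subgroup.mul_mem _ (Subgroup.mem_sup_left (Subgroup.mem_map_of_mem _ hx))
        (Subgroup.mem_sup_right (Subgroup.mem_subgroupOf.mp hm))
    have h4 : X.map A.subtype ⊔ M = Ab.comap (QuotientGroup.mk' M) := by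
      apply le_antisymm
      · rw [← hAsup]; exact sup_le ((Subgroup.map_subtype_le X).trans le_sup_left) le_sup_right
      · rw [← hAsup]; exact sup_le h1 le_sup_right
    have h5 := hmin _ (Subgroup.map_subtype_le X) h4
    rw [eq_top_iff]
    intro y _
    have h6 : (y : G) ∈ X.map A.subtype := by rw [h5]; exact y.2
    obtain ⟨x, hx, hxy⟩ := Subgroup.mem_map.mp h6
    have h7 : x = y := Subtype.ext hxy
    rw [← h7]; exact hx
  have hcommM' : ∀ a b : ↥A, a * b * a⁻¹ * b⁻¹ ∈ M.subgroupOf A := by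
    intro a b
    rw [Subgroup.mem_subgroupOf]
    exact hcommM a a.2 b b.2
  have hnormal : ∀ (p : ℕ) [Fact p.Prime] (S : Sylow p ↥A), (S : Subgroup ↥A).Normal := by
    intro p _ S
    haveI hTn : ((S : Subgroup ↥A) ⊔ M.subgroupOf A).Normal := by
      constructor
      intro t ht a
      have h1 : a * t * a⁻¹ = (a * t * a⁻¹ * t⁻¹) * t := by group
      rw [h1]
      exact Subgroup.mul_mem _ (Subgroup.mem_sup_right (hcommM' a t)) ht
    have h2 := Sylow.normalizer_sup_eq_top' S
      (le_sup_left : (S : Subgroup ↥A) ≤ (S : Subgroup ↥A) ⊔ M.subgroupOf A)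
    have h3 : Subgroup.normalizer ((S : Subgroup ↥A) : Set ↥A) ⊔ M.subgroupOf A = ⊤ := by
      rw [eq_top_iff, ← h2]
      exact sup_le le_sup_left (sup_le (Subgroup.le_normalizer.trans le_sup_left) le_sup_right)
    exact Subgroup.normalizer_eq_top_iff.mp (hsupp _ h3)
  have htriv : ∀ (p : ℕ) [Fact p.Prime] (S : Sylow p ↥A),
      (S : Subgroup ↥A) ≤ M.subgroupOf A → (S : Subgroup ↥A) = ⊥ := by
    intro p _ S hS
    haveI := hnormal p S
    obtain ⟨K, hK⟩ := Subgroup.exists_right_complement'_of_coprime S.card_coprime_index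
    have h1 : K ⊔ M.subgroupOf A = ⊤ := by
      rw [eq_top_iff, ← hK.sup_eq_top]
      exact sup_le (hS.trans le_sup_right) le_sup_left
    have h2 := hsupp K h1
    have h3 := hK.disjoint
    rw [h2] at h3
    exact disjoint_top.mp h3
  have hScomm : ∀ (p : ℕ) [Fact p.Prime] (S : Sylow p ↥A), ∀ x ∈ (S : Subgroup ↥A),
      ∀ y ∈ (S : Subgroup ↥A), x * y = y * x := by
    intro p _ S x hx y hy
    have hpp : p.Prime := Fact.out
    by_cases hSM : (S : Subgroup ↥A) ≤ M.subgroupOf A
    · have h1 := htriv p S hSM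
      rw [h1] at hx hy
      rw [Subgroup.mem_bot.mp hx, Subgroup.mem_bot.mp hy]
    by_cases hpM : p ∣ Nat.card M
    · obtain ⟨s, hs, hsM⟩ := SetLike.not_le_iff_exists.mp hSM
      have hS'M : ¬ (S : Subgroup ↥A).map A.subtype ≤ M := fun h =>
        hsM (Subgroup.mem_subgroupOf.mpr (h (Subgroup.mem_map_of_mem _ hs)))
      have hS'Ab : ((S : Subgroup ↥A).map A.subtype).map (QuotientGroup.mk' M) ≤ Ab := by
        rw [← hAmap]; exact Subgroup.map_mono (Subgroup.map_subtype_le _)
      have h2 : (x : G) * (y : G) = (y : G) * (x : G) :=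
        (hloc p hpM _ (S.2.map A.subtype) hS'M hS'Ab).1 (x : G) (Subgroup.mem_map_of_mem _ hx)
          (y : G) (Subgroup.mem_map_of_mem _ hy)
      exact Subtype.ext h2
    · have hc := hcommM' x y
      have hcS : x * y * x⁻¹ * y⁻¹ ∈ (S : Subgroup ↥A) :=
        Subgroup.mul_mem _ (Subgroup.mul_mem _ (Subgroup.mul_mem _ hx hy) (Subgroup.inv_mem _ hx))
          (Subgroup.inv_mem _ hy)
      have h1 : x * y * x⁻¹ * y⁻¹ = 1 := by
        obtain ⟨k, hk⟩ := S.2 ⟨_, hcS⟩
        have hk' : (x * y * x⁻¹ * y⁻¹) ^ p ^ k = 1 := congrArg Subtype.val hk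
        have hd1 : orderOf (x * y * x⁻¹ * y⁻¹) ∣ p ^ k := orderOf_dvd_of_pow_eq_one hk'
        have hd2 : orderOf (x * y * x⁻¹ * y⁻¹) ∣ Nat.card M := by
          have h3 : orderOf (⟨_, hc⟩ : ↥(M.subgroupOf A)) ∣ Nat.card (M.subgroupOf A) :=
            orderOf_dvd_natCard _
          rw [Subgroup.orderOf_mk] at h3
          exact h3.trans (Cfsg.Agent.S0001.card_subgroupOf_dvd M A)
        have hco : (p ^ k).Coprime (Nat.card M) :=
          Nat.Coprime.pow_left k ((Nat.Prime.coprime_iff_not_dvd hpp).mpr hpM)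
        exact orderOf_eq_one_iff.mp (Nat.eq_one_of_dvd_coprimes hco hd1 hd2)
      calc x * y = (x * y * x⁻¹ * y⁻¹) * (y * x) := by group
        _ = y * x := by rw [h1, one_mul]
  have hAcomm : ∀ x y : ↥A, x * y = y * x := by
    have h4 : ∀ (p : ℕ) (_hp : Fact p.Prime) (P : Sylow p ↥A), (P : Subgroup ↥A).Normal :=
      fun p hp P => @hnormal p hp P
    obtain ⟨e⟩ := ((Group.isNilpotent_of_finite_tfae (G := ↥A)).out 3 4).mp h4
    intro x y
    have h5 : e.symm x * e.symm y = e.symm y * e.symm x := by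
      funext q
      funext P
      haveI : Fact (q : ℕ).Prime := ⟨Nat.prime_of_mem_primeFactors q.2⟩
      have h6 := hScomm q P ((e.symm x) q P) ((e.symm x) q P).2 ((e.symm y) q P) ((e.symm y) q P).2
      exact Subtype.ext h6
    have h7 := congrArg e h5
    rw [map_mul, map_mul, e.apply_symm_apply, e.apply_symm_apply] at h7
    exact h7
  refine ⟨A, ⟨⟨hAcomm⟩⟩, hAmap, ?_⟩
  intro p hp
  haveI : Fact p.Prime := ⟨hp⟩
  obtain ⟨S⟩ : Nonempty (Sylow p ↥A) := inferInstance
  have hcardA := card_map_mk M A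
  rw [hAmap] at hcardA
  have hfac : (Nat.card A).factorization p = (Nat.card Ab).factorization p +
      (Nat.card (A ⊓ M : Subgroup G)).factorization p := by
    rw [← hcardA, Nat.factorization_mul Nat.card_pos.ne' Nat.card_pos.ne']; rfl
  have hScard : Nat.card (S : Subgroup ↥A) = p ^ (Nat.card A).factorization p :=
    S.card_eq_multiplicity
  have hSne : (S : Subgroup ↥A) = ⊥ → (Nat.card A).factorization p = 0 := by
    intro h
    rw [h, Subgroup.card_bot] at hScard
    by_contra h0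
    have h1 := Nat.one_lt_pow h0 hp.one_lt
    omega
  by_cases hpn : p ∣ Nat.card Ab
  · rw [if_pos hpn, hfac]
    congr 1
    by_cases hpM : p ∣ Nat.card M
    · have hSM : ¬ (S : Subgroup ↥A) ≤ M.subgroupOf A := by
        intro h
        have h0 := hSne (htriv p S h)
        have h1 : p ∣ Nat.card A := hpn.trans (Dvd.intro _ hcardA)
        have h2 : 1 ≤ (Nat.card A).factorization p :=
          (Nat.Prime.pow_dvd_iff_le_factorization hp Nat.card_pos.ne').mp (by simpa using h1)
        omega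
      obtain ⟨s, hs, hsM⟩ := SetLike.not_le_iff_exists.mp hSM
      have hS'M : ¬ (S : Subgroup ↥A).map A.subtype ≤ M := fun h =>
        hsM (Subgroup.mem_subgroupOf.mpr (h (Subgroup.mem_map_of_mem _ hs)))
      have hS'Ab : ((S : Subgroup ↥A).map A.subtype).map (QuotientGroup.mk' M) ≤ Ab := by
        rw [← hAmap]; exact Subgroup.map_mono (Subgroup.map_subtype_le _)
      apply le_antisymm
      · exact (Nat.factorization_le_iff_dvd Nat.card_pos.ne' Nat.card_pos.ne').mpr
          (Subgroup.card_dvd_of_le inf_le_right) p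
      · rw [← Nat.Prime.pow_dvd_iff_le_factorization hp Nat.card_pos.ne']
        exact (hloc p hpM _ (S.2.map A.subtype) hS'M hS'Ab).2.trans
          (Subgroup.card_dvd_of_le (inf_le_inf_right M (Subgroup.map_subtype_le _)))
    · rw [Nat.factorization_eq_zero_of_not_dvd hpM]
      exact Nat.factorization_eq_zero_of_not_dvd
        (fun h => hpM (h.trans (Subgroup.card_dvd_of_le inf_le_right)))
  · rw [if_neg hpn]
    apply hSne
    apply htriv p S
    intro s hs
    rw [Subgroup.mem_subgroupOf]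
    apply (QuotientGroup.eq_one_iff _).mp
    have h1 : QuotientGroup.mk' M (s : G) ∈ Ab := hAmap ▸ Subgroup.mem_map_of_mem _ s.2
    obtain ⟨k, hk⟩ := S.2 ⟨s, hs⟩
    have hk0 : s ^ p ^ k = 1 := congrArg Subtype.val hk
    have hk' : (s : G) ^ p ^ k = 1 := congrArg Subtype.val hk0
    have hd1 : orderOf (QuotientGroup.mk' M (s : G)) ∣ p ^ k :=
      orderOf_dvd_of_pow_eq_one (by rw [← map_pow, hk', map_one])
    have hd2 : orderOf (QuotientGroup.mk' M (s : G)) ∣ Nat.card Ab := by
      have h3 : orderOf (⟨_, h1⟩ : ↥Ab) ∣ Nat.card Ab := orderOf_dvd_natCard _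
      rw [Subgroup.orderOf_mk] at h3
      exact h3
    have hco : (p ^ k).Coprime (Nat.card Ab) :=
      Nat.Coprime.pow_left k ((Nat.Prime.coprime_iff_not_dvd hp).mpr hpn)
    exact orderOf_eq_one_iff.mp (Nat.eq_one_of_dvd_coprimes hco hd1 hd2)

theorem loc_of_dich {G : Type u} [Group G] [Finite G] (M : Subgroup G) [M.Normal]
    (Ab : Subgroup (G ⧸ M))
    (hdich : ∀ (p : ℕ) [Fact p.Prime], p ∣ Nat.card M → ∀ P : Sylow p G,
      ¬ (P : Subgroup G) ≤ M → IsCyclic P) : Loc M Ab := by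
  intro p _ hpM S hS hSM _
  obtain ⟨P, hP⟩ := hS.exists_le_sylow
  have hPM : ¬ (P : Subgroup G) ≤ M := fun h => hSM (hP.trans h)
  haveI := hdich p hpM P hPM
  constructor
  · intro x hx y hy
    exact congrArg Subtype.val (cyc_comm (⟨x, hP hx⟩ : ↥(P : Subgroup G)) ⟨y, hP hy⟩)
  · have hchain := cyc_chain (P : Subgroup G) S ((P : Subgroup G) ⊓ M) P.2 hP inf_le_left
    have hle : (P : Subgroup G) ⊓ M ≤ S ⊓ M := by
      rcases hchain with h | h
      · exact absurd (h.trans inf_le_right) hSM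
      · exact le_inf h inf_le_right
    rw [← card_sylow_inf M P]
    exact Subgroup.card_dvd_of_le hle

theorem conj_of_loc {G : Type u} [Group G] [Finite G] (hB : HB G) (M : Subgroup G) [M.Normal]
    (Ab Bb : Subgroup (G ⧸ M)) (hA : IsMulCommutative Ab) (hBb : IsMulCommutative Bb)
    (hc : Nat.card Ab = Nat.card Bb) (hlocA : Loc M Ab) (hlocB : Loc M Bb) :
    ∃ g : G ⧸ M, Bb = Ab.map (MulAut.conj g).toMonoidHom := by
  obtain ⟨A, hA1, hA2, hA3⟩ := exists_lift' M Ab hA hlocA
  obtain ⟨B, hB1, hB2, hB3⟩ := exists_lift' M Bb hBb hlocB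
  have hcard : Nat.card A = Nat.card B := by
    apply Nat.eq_of_factorization_eq Nat.card_pos.ne' Nat.card_pos.ne'
    intro p
    by_cases hp : p.Prime
    · rw [hA3 p hp, hB3 p hp, hc]
    · rw [Nat.factorization_eq_zero_of_not_prime _ hp, Nat.factorization_eq_zero_of_not_prime _ hp]
  obtain ⟨g, hg⟩ := hB A B hA1 hB1 hcard
  refine ⟨QuotientGroup.mk' M g, ?_⟩
  rw [← hA2, ← hB2, hg, Subgroup.map_map, Subgroup.map_map]
  congr 1

/-- In a solvable group all of whose involutions are conjugate, involutions in a common Sylow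
`2`-subgroup commute. -/
theorem invol_comm : ∀ n : ℕ, ∀ (G : Type u) [Group G] [Finite G] [Group.IsSolvable G],
    Nat.card G = n →
    (∀ u v : G, orderOf u = 2 → orderOf v = 2 → ∃ g : G, v = g * u * g⁻¹) →
    ∀ T : Sylow 2 G, ∀ x ∈ (T : Subgroup G), ∀ y ∈ (T : Subgroup G),
      orderOf x = 2 → orderOf y = 2 → x * y = y * x := by
  intro n
  induction n using Nat.strongRecOn with | ind n ih => ?_
  intro G _ _ _ hcard hconj T x hx y hy hox hoy
  haveI : Nontrivial G := by
    refine ⟨⟨x, 1, ?_⟩⟩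
    rintro rfl
    rw [orderOf_one] at hox; omega
  obtain ⟨N, hNn, hne, hmin⟩ := Cfsg.Agent.Helper1.exists_minimal_normal (G := G)
  haveI := hNn
  obtain ⟨hNc, q, hq, hNexp⟩ := Cfsg.Agent.S0043.result N hne hmin
  haveI : Fact q.Prime := ⟨hq⟩
  by_cases hq2 : q = 2
  · subst hq2
    obtain ⟨t, htN, ht1⟩ : ∃ t ∈ N, t ≠ 1 := by
      by_contra hcon
      apply hne
      rw [Subgroup.eq_bot_iff_forall]
      intro t ht
      by_contra ht1
      exact hcon ⟨t, ht, ht1⟩
    have hot : orderOf t = 2 := orderOf_eq_prime (hNexp t htN) ht1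
    obtain ⟨g1, hg1⟩ := hconj t x hot hox
    obtain ⟨g2, hg2⟩ := hconj t y hot hoy
    have hxN : x ∈ N := by rw [hg1]; exact hNn.conj_mem t htN g1
    have hyN : y ∈ N := by rw [hg2]; exact hNn.conj_mem t htN g2
    have h1 : (⟨x, hxN⟩ : N) * ⟨y, hyN⟩ = ⟨y, hyN⟩ * ⟨x, hxN⟩ := hNc.is_comm.comm _ _
    exact congrArg Subtype.val h1
  · have hco2 : Nat.Coprime 2 q := (Nat.coprime_primes Nat.prime_two hq).mpr (Ne.symm hq2)
    have hNodd : ∀ m ∈ N, m ^ 2 = 1 → m = 1 := by
      intro m hm hm2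
      have hd1 : orderOf m ∣ 2 := orderOf_dvd_of_pow_eq_one hm2
      have hd2 : orderOf m ∣ q := orderOf_dvd_of_pow_eq_one (hNexp m hm)
      exact orderOf_eq_one_iff.mp (Nat.eq_one_of_dvd_coprimes hco2 hd1 hd2)
    have hπs : Function.Surjective (QuotientGroup.mk' N) := QuotientGroup.mk'_surjective N
    have hlt : Nat.card (G ⧸ N) < n := hcard ▸ Cfsg.Agent.S0001.card_quot_lt N hne
    have himg : ∀ w : G, orderOf w = 2 → orderOf (QuotientGroup.mk' N w) = 2 := by
      intro w hw
      have hw2 : w ^ 2 = 1 := by rw [← hw]; exact pow_orderOf_eq_one w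
      have hw1 : w ≠ 1 := by rintro rfl; rw [orderOf_one] at hw; omega
      apply orderOf_eq_prime
      · rw [← map_pow, hw2, map_one]
      · intro h
        have h1 : w ∈ N := (QuotientGroup.eq_one_iff w).mp h
        exact hw1 (hNodd w h1 hw2)
    have lift : ∀ wb : G ⧸ N, orderOf wb = 2 →
        ∃ w : G, orderOf w = 2 ∧ QuotientGroup.mk' N w = wb := by
      intro wb hwb
      obtain ⟨w, rfl⟩ := hπs wb
      have hwb2 : (QuotientGroup.mk' N w) ^ 2 = 1 := by rw [← hwb]; exact pow_orderOf_eq_one _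
      have hwb1 : QuotientGroup.mk' N w ≠ 1 := by
        intro h; rw [h, orderOf_one] at hwb; omega
      have hw2N : w ^ 2 ∈ N := by
        apply (QuotientGroup.eq_one_iff _).mp
        show QuotientGroup.mk' N (w ^ 2) = 1
        rw [map_pow]; exact hwb2
      have hqodd : Odd q := hq.odd_of_ne_two hq2
      obtain ⟨j, hj⟩ := hqodd
      have h2 : QuotientGroup.mk' N (w ^ q) = QuotientGroup.mk' N w := by
        rw [map_pow, hj, pow_succ, pow_mul, hwb2, one_pow, one_mul]
      refine ⟨w ^ q, ?_, h2⟩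
      have h1 : (w ^ q) ^ 2 = 1 := by
        rw [← pow_mul, mul_comm, pow_mul]; exact hNexp _ hw2N
      apply orderOf_eq_prime h1
      intro h
      rw [h, map_one] at h2
      exact hwb1 h2.symm
    have hconjq : ∀ u v : G ⧸ N, orderOf u = 2 → orderOf v = 2 →
        ∃ g : G ⧸ N, v = g * u * g⁻¹ := by
      intro ub vb hu hv
      obtain ⟨u, hu', rfl⟩ := lift ub hu
      obtain ⟨v, hv', rfl⟩ := lift vb hv
      obtain ⟨g, hg⟩ := hconj u v hu' hv'
      exact ⟨QuotientGroup.mk' N g, by rw [hg, map_mul, map_mul, map_inv]⟩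
    have hIH := ih (Nat.card (G ⧸ N)) hlt (G ⧸ N) rfl hconjq (T.mapSurjective hπs)
      (QuotientGroup.mk' N x) (Subgroup.mem_map_of_mem _ hx) (QuotientGroup.mk' N y)
      (Subgroup.mem_map_of_mem _ hy) (himg x hox) (himg y hoy)
    have hcN : x * y * x⁻¹ * y⁻¹ ∈ N := by
      apply (QuotientGroup.eq_one_iff _).mp
      show QuotientGroup.mk' N (x * y * x⁻¹ * y⁻¹) = 1
      rw [map_mul, map_mul, map_mul, map_inv, map_inv, hIH]; group
    have hcT : x * y * x⁻¹ * y⁻¹ ∈ (T : Subgroup G) :=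
      Subgroup.mul_mem _ (Subgroup.mul_mem _ (Subgroup.mul_mem _ hx hy) (Subgroup.inv_mem _ hx))
        (Subgroup.inv_mem _ hy)
    have h1 : x * y * x⁻¹ * y⁻¹ = 1 := by
      obtain ⟨k, hk⟩ := T.2 ⟨_, hcT⟩
      have hk' : (x * y * x⁻¹ * y⁻¹) ^ 2 ^ k = 1 := congrArg Subtype.val hk
      have hd1 : orderOf (x * y * x⁻¹ * y⁻¹) ∣ 2 ^ k := orderOf_dvd_of_pow_eq_one hk'
      have hd2 : orderOf (x * y * x⁻¹ * y⁻¹) ∣ q := orderOf_dvd_of_pow_eq_one (hNexp _ hcN)
      have hco : (2 ^ k).Coprime q := Nat.Coprime.pow_left k hco2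
      exact orderOf_eq_one_iff.mp (Nat.eq_one_of_dvd_coprimes hco hd1 hd2)
    calc x * y = (x * y * x⁻¹ * y⁻¹) * (y * x) := by group
      _ = y * x := by rw [h1, one_mul]

theorem quat_sq_eq_one {m : ℕ} (hm : 1 ≤ m) (y : QuaternionGroup m) (hy : y ^ 2 = 1) :
    y = 1 ∨ y = QuaternionGroup.a (m : ZMod (2 * m)) := by
  haveI : NeZero (2 * m) := ⟨by omega⟩
  rcases y with i | i
  · rw [sq, QuaternionGroup.a_mul_a, QuaternionGroup.one_def] at hy
    have h1 : i + i = 0 := QuaternionGroup.a.inj hy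
    have h2 : ((i.val + i.val : ℕ) : ZMod (2 * m)) = 0 := by
      rw [Nat.cast_add, ZMod.natCast_zmod_val]; exact h1
    rw [ZMod.natCast_eq_zero_iff] at h2
    have h3 : i.val < 2 * m := ZMod.val_lt i
    have h4 : i.val = 0 ∨ i.val = m := by
      obtain ⟨c, hc⟩ := h2
      have hc' : c = 0 ∨ c = 1 := by
        rcases c with _ | _ | c
        · left; rfl
        · right; rfl
        · exfalso; nlinarith
      rcases hc' with rfl | rfl
      · left; omega
      · right; omega
    rcases h4 with h | h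
    · left
      rw [QuaternionGroup.one_def]
      congr 1
      exact (ZMod.val_eq_zero i).mp h
    · right
      congr 1
      calc i = ((i.val : ℕ) : ZMod (2 * m)) := (ZMod.natCast_zmod_val i).symm
        _ = ((m : ℕ) : ZMod (2 * m)) := congrArg (fun k : ℕ => (k : ZMod (2 * m))) h
  · exfalso
    rw [sq, QuaternionGroup.xa_mul_xa, QuaternionGroup.one_def] at hy
    have h1 : (m : ZMod (2 * m)) + i - i = 0 := QuaternionGroup.a.inj hy
    rw [add_sub_cancel_right, ZMod.natCast_eq_zero_iff] at h1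
    have h2 := Nat.le_of_dvd (by omega) h1
    omega

theorem quat_noncomm {m : ℕ} (hm : 3 ≤ m) :
    (QuaternionGroup.xa 0 : QuaternionGroup m) * QuaternionGroup.xa 1 ≠
      QuaternionGroup.xa 1 * QuaternionGroup.xa 0 ∧
    (QuaternionGroup.xa 0 : QuaternionGroup m) * QuaternionGroup.xa 1 ≠
      QuaternionGroup.xa 1 * QuaternionGroup.xa 0 * (QuaternionGroup.xa 0) ^ 2 := by
  constructor
  · intro h
    rw [QuaternionGroup.xa_mul_xa, QuaternionGroup.xa_mul_xa] at h
    have h1 : (m : ZMod (2 * m)) + 1 - 0 = (m : ZMod (2 * m)) + 0 - 1 := QuaternionGroup.a.inj h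
    have h2 : ((2 : ℕ) : ZMod (2 * m)) = 0 := by
      push_cast; linear_combination h1
    rw [ZMod.natCast_eq_zero_iff] at h2
    have h3 := Nat.le_of_dvd (by norm_num) h2
    omega
  · intro h
    rw [sq, QuaternionGroup.xa_mul_xa, QuaternionGroup.xa_mul_xa, QuaternionGroup.xa_mul_xa,
      QuaternionGroup.a_mul_a] at h
    have h1 : (m : ZMod (2 * m)) + 1 - 0 = (m : ZMod (2 * m)) + 0 - 1 + ((m : ZMod (2 * m)) + 0 - 0) :=
      QuaternionGroup.a.inj h
    have h2 : ((2 : ℕ) : ZMod (2 * m)) = ((m : ℕ) : ZMod (2 * m)) := by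
      push_cast; linear_combination h1
    rw [ZMod.natCast_eq_natCast_iff] at h2
    have h3 : 2 % (2 * m) = m % (2 * m) := h2
    rw [Nat.mod_eq_of_lt (by omega), Nat.mod_eq_of_lt (by omega)] at h3
    omega

/-- A solvable group whose cyclic subgroups of order `4` are conjugate cannot have a generalized
quaternion Sylow `2`-subgroup of order `≥ 12`. -/
theorem quat_small : ∀ n : ℕ, ∀ (G : Type u) [Group G] [Finite G] [Group.IsSolvable G],
    Nat.card G = n →
    (∀ u v : G, orderOf u = 4 → orderOf v = 4 → ∃ g : G, ∃ k : ℕ, v = g * u ^ k * g⁻¹) →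
    ∀ (P : Sylow 2 G) (m : ℕ), Nonempty (↥(P : Subgroup G) ≃* QuaternionGroup m) → m ≤ 2 := by
  intro n
  induction n using Nat.strongRecOn with | ind n ih => ?_
  intro G _ _ _ hcard hconj P m ⟨e⟩
  by_contra hm
  have hm3 : 3 ≤ m := by omega
  haveI : Nontrivial G := by
    refine ⟨⟨((e.symm (QuaternionGroup.xa 0) : ↥(P : Subgroup G)) : G), 1, ?_⟩⟩
    intro h
    have h1 : e.symm (QuaternionGroup.xa 0) = 1 := Subtype.ext h
    have h2 := congrArg e h1
    rw [e.apply_symm_apply, map_one, QuaternionGroup.one_def] at h2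
    cases h2
  obtain ⟨N, hNn, hne, hmin⟩ := Cfsg.Agent.Helper1.exists_minimal_normal (G := G)
  haveI := hNn
  obtain ⟨hNc, q, hq, hNexp⟩ := Cfsg.Agent.S0043.result N hne hmin
  haveI : Fact q.Prime := ⟨hq⟩
  have hπs : Function.Surjective (QuotientGroup.mk' N) := QuotientGroup.mk'_surjective N
  have hlt : Nat.card (G ⧸ N) < n := hcard ▸ Cfsg.Agent.S0001.card_quot_lt N hne
  by_cases hq2 : q = 2
  · subst hq2
    obtain ⟨z, hzN, hz1⟩ : ∃ t ∈ N, t ≠ 1 := by
      by_contra hcon
      apply hne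
      rw [Subgroup.eq_bot_iff_forall]
      intro t ht
      by_contra ht1
      exact hcon ⟨t, ht, ht1⟩
    have hNpg : IsPGroup 2 N := fun x => ⟨1, by rw [pow_one]; exact Subtype.ext (hNexp x x.2)⟩
    have huniq : ∀ t : G, orderOf t = 2 → t = z := by
      intro t ht
      have ht2 : t ^ 2 = 1 := by rw [← ht]; exact pow_orderOf_eq_one t
      have ht1 : t ≠ 1 := by rintro rfl; rw [orderOf_one] at ht; omega
      have hpg : IsPGroup 2 (Subgroup.zpowers t) :=
        IsPGroup.of_card (n := 1) (by rw [Nat.card_zpowers, ht, pow_one])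
      obtain ⟨Q, hQ⟩ := (hpg.to_sup_of_normal_right hNpg).exists_le_sylow
      have htQ : t ∈ (Q : Subgroup G) := hQ (Subgroup.mem_sup_left (Subgroup.mem_zpowers t))
      have hzQ : z ∈ (Q : Subgroup G) := hQ (Subgroup.mem_sup_right hzN)
      obtain ⟨e'⟩ : Nonempty (↥(Q : Subgroup G) ≃* QuaternionGroup m) :=
        ⟨(Sylow.equiv Q P).trans e⟩
      have key : ∀ w (hw : w ∈ (Q : Subgroup G)), w ^ 2 = 1 → w ≠ 1 →
          e' ⟨w, hw⟩ = QuaternionGroup.a (m : ZMod (2 * m)) := by
        intro w hw hw2 hw1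
        have h1 : (e' ⟨w, hw⟩) ^ 2 = 1 := by
          rw [← map_pow]
          have h0 : (⟨w, hw⟩ : ↥(Q : Subgroup G)) ^ 2 = 1 := Subtype.ext hw2
          rw [h0, map_one]
        rcases quat_sq_eq_one (by omega) _ h1 with h | h
        · exfalso
          apply hw1
          have h2 : (⟨w, hw⟩ : ↥(Q : Subgroup G)) = 1 := e'.injective (by rw [h, map_one])
          exact congrArg Subtype.val h2
        · exact h
      have h3 : (⟨t, htQ⟩ : ↥(Q : Subgroup G)) = ⟨z, hzQ⟩ :=
        e'.injective (by rw [key t htQ ht2 ht1, key z hzQ (hNexp z hzN) hz1])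
      exact congrArg Subtype.val h3
    have lift4 : ∀ wb : G ⧸ N, orderOf wb = 2 →
        ∃ w : G, orderOf w = 4 ∧ QuotientGroup.mk' N w = wb := by
      intro wb hwb
      obtain ⟨w, rfl⟩ := hπs wb
      have hwb2 : (QuotientGroup.mk' N w) ^ 2 = 1 := by rw [← hwb]; exact pow_orderOf_eq_one _
      have hwb1 : QuotientGroup.mk' N w ≠ 1 := by
        intro h; rw [h, orderOf_one] at hwb; omega
      have hw2N : w ^ 2 ∈ N := by
        apply (QuotientGroup.eq_one_iff _).mp
        show QuotientGroup.mk' N (w ^ 2) = 1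
        rw [map_pow]; exact hwb2
      have hwN : w ∉ N := fun h => hwb1 ((QuotientGroup.eq_one_iff w).mpr h)
      refine ⟨w, ?_, rfl⟩
      have h1 : ¬ w ^ 2 ^ 1 = 1 := by
        rw [pow_one]
        intro h
        have hw1 : w ≠ 1 := fun h' => hwN (h' ▸ N.one_mem)
        have h0 : w = z := huniq w (orderOf_eq_prime h hw1)
        exact hwN (h0 ▸ hzN)
      have h4 : w ^ 4 = 1 := by
        have h0 : w ^ 4 = (w ^ 2) ^ 2 := by rw [← pow_mul]
        rw [h0]; exact hNexp _ hw2N
      have h2 : w ^ 2 ^ (1 + 1) = 1 := h4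
      exact orderOf_eq_prime_pow h1 h2
    have hconjq : ∀ u v : G ⧸ N, orderOf u = 2 → orderOf v = 2 →
        ∃ g : G ⧸ N, v = g * u * g⁻¹ := by
      intro ub vb hu hv
      obtain ⟨u, hu', rfl⟩ := lift4 ub hu
      obtain ⟨v, hv', rfl⟩ := lift4 vb hv
      obtain ⟨g, k, hg⟩ := hconj u v hu' hv'
      refine ⟨QuotientGroup.mk' N g, ?_⟩
      have hu2 : (QuotientGroup.mk' N u) ^ 2 = 1 := by rw [← hu]; exact pow_orderOf_eq_one _
      have hv1 : QuotientGroup.mk' N v ≠ 1 := by
        intro h; rw [h, orderOf_one] at hv; omega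
      have h1 : QuotientGroup.mk' N v =
          QuotientGroup.mk' N g * (QuotientGroup.mk' N u) ^ k * (QuotientGroup.mk' N g)⁻¹ := by
        rw [hg, map_mul, map_mul, map_inv, map_pow]
      rcases Nat.even_or_odd' k with ⟨j, rfl | rfl⟩
      · exfalso
        apply hv1
        rw [h1, pow_mul, hu2, one_pow, mul_one, mul_inv_cancel]
      · rw [h1, pow_succ, pow_mul, hu2, one_pow, one_mul]
    obtain ⟨b, hb⟩ : ∃ b : ↥(P : Subgroup G), b = e.symm (QuaternionGroup.xa 0) := ⟨_, rfl⟩
    obtain ⟨c, hc⟩ : ∃ c : ↥(P : Subgroup G), c = e.symm (QuaternionGroup.xa 1) := ⟨_, rfl⟩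
    have heb : e b = QuaternionGroup.xa 0 := by rw [hb, e.apply_symm_apply]
    have hec : e c = QuaternionGroup.xa 1 := by rw [hc, e.apply_symm_apply]
    have hsq : ∀ w : ↥(P : Subgroup G), ∀ i, e w = QuaternionGroup.xa i →
        (w : G) ^ 2 = z ∧ orderOf (QuotientGroup.mk' N (w : G)) = 2 := by
      intro w i hw
      have h1 : (e w) ^ 2 = QuaternionGroup.a (m : ZMod (2 * m)) := by
        rw [hw, sq, QuaternionGroup.xa_mul_xa, add_sub_cancel_right]
      have h2 : (e w) ^ 2 ≠ 1 := by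
        rw [h1, QuaternionGroup.one_def]
        intro h
        have h3 : (m : ZMod (2 * m)) = 0 := QuaternionGroup.a.inj h
        rw [ZMod.natCast_eq_zero_iff] at h3
        have h3' := Nat.le_of_dvd (by omega) h3
        omega
      have h4 : ((e w) ^ 2) ^ 2 = 1 := by
        rw [h1, sq, QuaternionGroup.a_mul_a, QuaternionGroup.one_def]
        congr 1
        have h0 : ((m + m : ℕ) : ZMod (2 * m)) = 0 := by
          rw [ZMod.natCast_eq_zero_iff]; exact ⟨1, by ring⟩
        push_cast at h0; exact h0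
      have h5 : (w : G) ^ 2 ≠ 1 := by
        intro h
        apply h2
        have h0 : w ^ 2 = 1 := Subtype.ext h
        rw [← map_pow, h0, map_one]
      have h6 : ((w : G) ^ 2) ^ 2 = 1 := by
        have h0 : (w ^ 2) ^ 2 = 1 := e.injective (by rw [map_pow, map_pow, h4, map_one])
        exact congrArg Subtype.val h0
      have h7 : (w : G) ^ 2 = z := huniq _ (orderOf_eq_prime h6 h5)
      refine ⟨h7, ?_⟩
      apply orderOf_eq_prime
      · rw [← map_pow, h7]; exact (QuotientGroup.eq_one_iff z).mpr hzN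
      · intro h
        have h8 : (w : G) ∈ N := (QuotientGroup.eq_one_iff _).mp h
        exact h5 (hNexp _ h8)
    obtain ⟨hb2, hbo⟩ := hsq b 0 heb
    obtain ⟨hc2, hco⟩ := hsq c 1 hec
    have hcomm := invol_comm (Nat.card (G ⧸ N)) (G ⧸ N) rfl hconjq (P.mapSurjective hπs)
      (QuotientGroup.mk' N (b : G)) (Subgroup.mem_map_of_mem _ b.2)
      (QuotientGroup.mk' N (c : G)) (Subgroup.mem_map_of_mem _ c.2) hbo hco
    have hnN : ((c : G) * (b : G))⁻¹ * ((b : G) * (c : G)) ∈ N := by
      apply (QuotientGroup.eq_one_iff _).mp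
      show QuotientGroup.mk' N (((c : G) * (b : G))⁻¹ * ((b : G) * (c : G))) = 1
      rw [map_mul, map_inv, map_mul, map_mul, hcomm, inv_mul_cancel]
    have hn2 := hNexp _ hnN
    by_cases hn1 : ((c : G) * (b : G))⁻¹ * ((b : G) * (c : G)) = 1
    · have h1 : (b : G) * (c : G) = (c : G) * (b : G) := by
        have h0 := congrArg (fun t => (c : G) * (b : G) * t) hn1
        simpa [mul_assoc] using h0
      have h2 : b * c = c * b := Subtype.ext h1
      have h3 := congrArg e h2
      rw [map_mul, map_mul, heb, hec] at h3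
      exact (quat_noncomm hm3).1 h3
    · have h0 : ((c : G) * (b : G))⁻¹ * ((b : G) * (c : G)) = z :=
        huniq _ (orderOf_eq_prime hn2 hn1)
      have h1 : (b : G) * (c : G) = (c : G) * (b : G) * (b : G) ^ 2 := by
        rw [hb2, ← h0]; group
      have h2 : b * c = c * b * b ^ 2 := Subtype.ext h1
      have h3 := congrArg e h2
      rw [map_mul, map_mul, map_mul, map_pow, heb, hec] at h3
      exact (quat_noncomm hm3).2 h3
  · have hco2 : Nat.Coprime 2 q := (Nat.coprime_primes Nat.prime_two hq).mpr (Ne.symm hq2)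
    have hqodd : Odd q := hq.odd_of_ne_two hq2
    have lift : ∀ wb : G ⧸ N, orderOf wb = 4 →
        ∃ w : G, orderOf w = 4 ∧ QuotientGroup.mk' N w = wb := by
      intro wb hwb
      obtain ⟨w, rfl⟩ := hπs wb
      have hwb4 : (QuotientGroup.mk' N w) ^ 4 = 1 := by rw [← hwb]; exact pow_orderOf_eq_one _
      have hwb2 : (QuotientGroup.mk' N w) ^ 2 ≠ 1 := by
        intro h
        have h0 := orderOf_dvd_of_pow_eq_one h
        rw [hwb] at h0
        exact absurd h0 (by norm_num)
      have hw4N : w ^ 4 ∈ N := by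
        apply (QuotientGroup.eq_one_iff _).mp
        show QuotientGroup.mk' N (w ^ 4) = 1
        rw [map_pow]; exact hwb4
      obtain ⟨j, hj⟩ : ∃ j, q * q = 4 * j + 1 := by
        obtain ⟨i, hi⟩ := hqodd
        exact ⟨i * i + i, by rw [hi]; ring⟩
      have h2 : QuotientGroup.mk' N (w ^ (q * q)) = QuotientGroup.mk' N w := by
        rw [map_pow, hj, pow_succ, pow_mul, hwb4, one_pow, one_mul]
      refine ⟨w ^ (q * q), ?_, h2⟩
      have h3 : ¬ (w ^ (q * q)) ^ 2 ^ 1 = 1 := by
        rw [pow_one]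
        intro h
        apply hwb2
        rw [← h2, ← map_pow, h, map_one]
      have h4 : (w ^ (q * q)) ^ 2 ^ (1 + 1) = 1 := by
        have e1 : (w ^ (q * q)) ^ 2 ^ (1 + 1) = ((w ^ 4) ^ q) ^ q := by
          rw [← pow_mul, ← pow_mul, ← pow_mul]; congr 1; ring
        rw [e1, hNexp _ hw4N, one_pow]
      exact orderOf_eq_prime_pow h3 h4
    have hconjq : ∀ u v : G ⧸ N, orderOf u = 4 → orderOf v = 4 →
        ∃ g : G ⧸ N, ∃ k : ℕ, v = g * u ^ k * g⁻¹ := by
      intro ub vb hu hv
      obtain ⟨u, hu', rfl⟩ := lift ub hu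
      obtain ⟨v, hv', rfl⟩ := lift vb hv
      obtain ⟨g, k, hg⟩ := hconj u v hu' hv'
      exact ⟨QuotientGroup.mk' N g, k, by rw [hg, map_mul, map_mul, map_inv, map_pow]⟩
    have hinj : Function.Injective ((QuotientGroup.mk' N).subgroupMap (P : Subgroup G)) := by
      rw [injective_iff_map_eq_one]
      intro x hx
      have h1 : QuotientGroup.mk' N (x : G) = 1 := congrArg Subtype.val hx
      have h2 : (x : G) ∈ N := (QuotientGroup.eq_one_iff _).mp h1
      obtain ⟨k, hk⟩ := P.2 x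
      have hk' : (x : G) ^ 2 ^ k = 1 := congrArg Subtype.val hk
      have hd1 : orderOf (x : G) ∣ 2 ^ k := orderOf_dvd_of_pow_eq_one hk'
      have hd2 : orderOf (x : G) ∣ q := orderOf_dvd_of_pow_eq_one (hNexp _ h2)
      exact Subtype.ext (orderOf_eq_one_iff.mp
        (Nat.eq_one_of_dvd_coprimes (Nat.Coprime.pow_left k hco2) hd1 hd2))
    obtain ⟨e1⟩ : Nonempty (↥(P : Subgroup G) ≃*
        ↥((P : Subgroup G).map (QuotientGroup.mk' N))) :=
      ⟨MulEquiv.ofBijective _ ⟨hinj, (QuotientGroup.mk' N).subgroupMap_surjective _⟩⟩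
    have hfin := ih (Nat.card (G ⧸ N)) hlt (G ⧸ N) rfl hconjq (P.mapSurjective hπs) m
      ⟨e1.symm.trans e⟩
    omega

theorem hconj4_of_HB {G : Type u} [Group G] [Finite G] (hB : HB G) :
    ∀ u v : G, orderOf u = 4 → orderOf v = 4 → ∃ g : G, ∃ k : ℕ, v = g * u ^ k * g⁻¹ := by
  intro u v hu hv
  obtain ⟨g, hg⟩ := hB (Subgroup.zpowers u) (Subgroup.zpowers v) inferInstance inferInstance
    (by rw [Nat.card_zpowers, Nat.card_zpowers, hu, hv])
  have h1 : v ∈ Subgroup.zpowers v := Subgroup.mem_zpowers v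
  rw [hg] at h1
  obtain ⟨w, hw, hwv⟩ := Subgroup.mem_map.mp h1
  rw [← mem_powers_iff_mem_zpowers] at hw
  obtain ⟨k, hk⟩ := hw
  have hk' : u ^ k = w := hk
  refine ⟨g, k, ?_⟩
  rw [hk', ← hwv]; rfl

theorem sylow_conj_in {G : Type u} [Group G] [Finite G] {p : ℕ} [Fact p.Prime]
    (C X Y : Subgroup G) (hX : X ≤ C) (hY : Y ≤ C) (k : ℕ) (hXc : Nat.card X = p ^ k)
    (hYc : Nat.card Y = p ^ k) (hk : (Nat.card C).factorization p ≤ k) :
    ∃ c ∈ C, ConjTo c X Y := by
  have hcX : Nat.card (X.subgroupOf C) = p ^ k := by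
    rw [Nat.card_congr (Subgroup.subgroupOfEquivOfLe hX).toEquiv, hXc]
  have hcY : Nat.card (Y.subgroupOf C) = p ^ k := by
    rw [Nat.card_congr (Subgroup.subgroupOfEquivOfLe hY).toEquiv, hYc]
  obtain ⟨S1, hS1⟩ := (IsPGroup.of_card hcX).exists_le_sylow
  obtain ⟨S2, hS2⟩ := (IsPGroup.of_card hcY).exists_le_sylow
  have hS : ∀ S : Sylow p ↥C, Nat.card (S : Subgroup ↥C) ≤ p ^ k := by
    intro S
    rw [Sylow.card_eq_multiplicity]
    exact Nat.pow_le_pow_right (Fact.out : p.Prime).pos hk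
  have h1 : X.subgroupOf C = S1 := Subgroup.eq_of_le_of_card_ge hS1 (by rw [hcX]; exact hS S1)
  have h2 : Y.subgroupOf C = S2 := Subgroup.eq_of_le_of_card_ge hS2 (by rw [hcY]; exact hS S2)
  obtain ⟨c, hc⟩ := MulAction.exists_smul_eq ↥C S1 S2
  have h3 : MulAut.conj c • (S1 : Subgroup ↥C) = (S2 : Subgroup ↥C) := by
    rw [← hc, Sylow.smul_def, Sylow.pointwise_smul_def]
  rw [← h1, ← h2] at h3
  exact conjTo_of_subgroup C X Y hX hY ⟨c, conjTo_of_smul h3⟩

/-- The quotient by a normal elementary abelian `2`-subgroup. -/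
theorem quot_two {G : Type u} [Group G] [Finite G] [Group.IsSolvable G] (hB : HB G)
    (M : Subgroup G) [hMn : M.Normal] (hne : M ≠ ⊥) (hMexp : ∀ x ∈ M, x ^ 2 = 1) :
    HB (G ⧸ M) := by
  obtain ⟨P⟩ : Nonempty (Sylow 2 G) := inferInstance
  have hMpg : IsPGroup 2 M := fun x => ⟨1, by rw [pow_one]; exact Subtype.ext (hMexp x x.2)⟩
  have hMP : M ≤ (P : Subgroup G) := hMpg.le_sylow_of_normal P
  obtain ⟨k, hk⟩ := IsPGroup.iff_card.mp hMpg
  have hk0 : k ≠ 0 := by
    rintro rfl
    rw [pow_zero] at hk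
    exact hne (Subgroup.eq_bot_of_card_eq M hk)
  have h2M : 2 ∣ Nat.card M := by rw [hk]; exact dvd_pow_self 2 hk0
  have hp2 : ∀ p : ℕ, p.Prime → p ∣ Nat.card M → p = 2 := by
    intro p hp h
    rw [hk] at h
    exact (Nat.prime_dvd_prime_iff_eq hp Nat.prime_two).mp (hp.dvd_of_dvd_pow h)
  by_cases hdich : (P : Subgroup G) ≤ M ∨ IsCyclic P
  · have hd : ∀ (p : ℕ) [Fact p.Prime], p ∣ Nat.card M → ∀ P' : Sylow p G,
        ¬ (P' : Subgroup G) ≤ M → IsCyclic P' := by
      intro p _ hpM P' hP'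
      have hp := hp2 p Fact.out hpM
      subst hp
      rcases hdich with h | h
      · exfalso
        apply hP'
        have h1 : M ≤ (P' : Subgroup G) := hMpg.le_sylow_of_normal P'
        have h2 : Nat.card (P' : Subgroup G) ≤ Nat.card M := by
          rw [Sylow.card_eq_multiplicity, ← P.card_eq_multiplicity]
          exact Subgroup.card_le_of_le h
        exact (Subgroup.eq_of_le_of_card_ge h1 h2).ge
      · exact isCyclic_of_surjective (Sylow.equiv P P') (MulEquiv.surjective _)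
    intro Ab Bb hA hBb hc
    exact conj_of_loc hB M Ab Bb hA hBb hc (loc_of_dich M Ab hd) (loc_of_dich M Bb hd)
  · have hPM : ¬ (P : Subgroup G) ≤ M := fun h => hdich (Or.inl h)
    have hPc : ¬ IsCyclic P := fun h => hdich (Or.inr h)
    obtain ⟨z, hz⟩ := exists_prime_orderOf_dvd_card' 2 h2M
    have hoz : orderOf (z : G) = 2 := by rw [Subgroup.orderOf_coe]; exact hz
    -- every involution generates a conjugate of `⟨z⟩`, hence lies in `M`
    have hinvM : ∀ t : G, orderOf t = 2 → t ∈ M := by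
      intro t ht
      obtain ⟨g, hg⟩ := hB (Subgroup.zpowers (z : G)) (Subgroup.zpowers t) inferInstance
        inferInstance (by rw [Nat.card_zpowers, Nat.card_zpowers, hoz, ht])
      have h1 : t ∈ Subgroup.zpowers t := Subgroup.mem_zpowers t
      rw [hg] at h1
      obtain ⟨v, hv, hvx⟩ := Subgroup.mem_map.mp h1
      have hvM : v ∈ M := (Subgroup.zpowers_le.mpr z.2) hv
      rw [← hvx]; exact hMn.conj_mem v hvM g
    have hx : ∃ x : ↥(P : Subgroup G), x ^ 2 ≠ 1 := by
      by_contra hcon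
      apply hPM
      intro x hx
      by_cases hx1 : x = 1
      · rw [hx1]; exact M.one_mem
      have hxp : x ^ 2 = 1 := by
        by_contra h
        exact hcon ⟨⟨x, hx⟩, fun h' => h (congrArg Subtype.val h')⟩
      exact hinvM x (orderOf_eq_prime hxp hx1)
    obtain ⟨x, hx⟩ := hx
    have hisoAb : ∀ H K : Subgroup ↥(P : Subgroup G), (∀ a b : H, a * b = b * a) →
        (∀ a b : K, a * b = b * a) → Nat.card H = Nat.card K → Nonempty (H ≃* K) := by
      intro H K hH hK hc
      obtain ⟨eH⟩ : Nonempty (H ≃* H.map (P : Subgroup G).subtype) :=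
        ⟨H.equivMapOfInjective _ (Subgroup.subtype_injective _)⟩
      obtain ⟨eK⟩ : Nonempty (K ≃* K.map (P : Subgroup G).subtype) :=
        ⟨K.equivMapOfInjective _ (Subgroup.subtype_injective _)⟩
      have hH' : IsMulCommutative ↥(H.map (P : Subgroup G).subtype) := ⟨⟨fun a b => by
        apply eH.symm.injective; rw [map_mul, map_mul]; exact hH _ _⟩⟩
      have hK' : IsMulCommutative ↥(K.map (P : Subgroup G).subtype) := ⟨⟨fun a b => by
        apply eK.symm.injective; rw [map_mul, map_mul]; exact hK _ _⟩⟩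
      obtain ⟨g, hg⟩ := hB _ _ hH' hK'
        (by rw [← Nat.card_congr eH.toEquiv, ← Nat.card_congr eK.toEquiv, hc])
      obtain ⟨eg⟩ : Nonempty (↥(H.map (P : Subgroup G).subtype) ≃*
          ↥((H.map (P : Subgroup G).subtype).map (MulAut.conj g).toMonoidHom)) :=
        ⟨Subgroup.equivMapOfInjective _ _ (MulAut.conj g).injective⟩
      exact ⟨eH.trans (eg.trans ((MulEquiv.subgroupCongr hg.symm).trans eK.symm))⟩
    obtain ⟨D, hD, hDc⟩ := exists_cyclic_p2 P.2 hx
    have huniq := unique_of_cyclic_p2' P.2 hisoAb hD hDc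
    rcases Cfsg.Agent.Helper15.cyclic_or_quaternion_of_unique 2 P.2 huniq with h | ⟨-, n, ⟨e⟩⟩
    · exact absurd h hPc
    have hn := quat_small _ G rfl (hconj4_of_HB hB) P (2 ^ n) ⟨e⟩
    have hn0 : n ≠ 0 := by
      rintro rfl
      apply hPc
      have e' : ↥(P : Subgroup G) ≃* QuaternionGroup 1 := e
      exact e'.isCyclic.mpr QuaternionGroup.quaternionGroup_one_isCyclic
    have hn1 : n = 1 := by
      have h1 : n ≤ 1 := by
        by_contra h
        have h2 : 2 ^ 2 ≤ 2 ^ n := Nat.pow_le_pow_right (by norm_num) (by omega)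
        omega
      omega
    subst hn1
    have hPcard : Nat.card (P : Subgroup G) = 8 := by
      rw [Nat.card_congr e.toEquiv, Nat.card_eq_fintype_card, QuaternionGroup.card]
      norm_num
    -- `M = ⟨z⟩`
    have hMz : M = Subgroup.zpowers (z : G) := by
      apply le_antisymm
      · intro y hy
        by_cases hy1 : y = 1
        · rw [hy1]; exact Subgroup.one_mem _
        have hoy : orderOf y = 2 := orderOf_eq_prime (hMexp y hy) hy1
        have h1 : Subgroup.zpowers (⟨y, hMP hy⟩ : ↥(P : Subgroup G)) =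
            Subgroup.zpowers (⟨(z : G), hMP z.2⟩ : ↥(P : Subgroup G)) :=
          huniq _ _ (by rw [Nat.card_zpowers, Subgroup.orderOf_mk, hoy])
            (by rw [Nat.card_zpowers, Subgroup.orderOf_mk, hoz])
        have h2 : (⟨y, hMP hy⟩ : ↥(P : Subgroup G)) ∈
            Subgroup.zpowers (⟨(z : G), hMP z.2⟩ : ↥(P : Subgroup G)) := by
          rw [← h1]; exact Subgroup.mem_zpowers _
        obtain ⟨i, hi⟩ := Subgroup.mem_zpowers_iff.mp h2
        have hi' : (z : G) ^ i = y := by
          have h3 := congrArg Subtype.val hi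
          simpa using h3
        rw [← hi']; exact Subgroup.zpow_mem _ (Subgroup.mem_zpowers _) _
      · exact Subgroup.zpowers_le.mpr z.2
    have hMcard : Nat.card M = 2 := by rw [hMz, Nat.card_zpowers, hoz]
    have hfacG : (Nat.card (G ⧸ M)).factorization 2 = 2 := by
      have h3 : Nat.card G = Nat.card M * Nat.card (G ⧸ M) := by
        rw [mul_comm, ← Subgroup.index_eq_card]; exact (Subgroup.index_mul_card M).symm
      have h4 : (Nat.card G).factorization 2 = 3 := by
        have h5 := P.card_eq_multiplicity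
        rw [hPcard] at h5
        have h6 : (2 : ℕ) ^ 3 = 2 ^ (Nat.card G).factorization 2 := by rw [← h5]; norm_num
        exact (Nat.pow_right_injective (le_refl 2) h6).symm
      rw [h3, Nat.factorization_mul Nat.card_pos.ne' Nat.card_pos.ne', hMcard] at h4
      have h7 : (Nat.factorization 2) 2 = 1 := Nat.Prime.factorization_self Nat.prime_two
      have h8 : (Nat.factorization 2 + (Nat.card (G ⧸ M)).factorization) 2 =
          (Nat.factorization 2) 2 + (Nat.card (G ⧸ M)).factorization 2 := rfl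
      rw [h8, h7] at h4
      omega
    have hloc4 : ∀ Ab : Subgroup (G ⧸ M), ¬ 4 ∣ Nat.card Ab → Loc M Ab := by
      intro Ab h4 p _ hpM S hS hSM hSAb
      have hp := hp2 p Fact.out hpM
      subst hp
      have hcS := card_map_mk M S
      have h1 : Nat.card (S.map (QuotientGroup.mk' M)) ∣ 2 := by
        obtain ⟨j, hj⟩ := IsPGroup.iff_card.mp (hS.map (QuotientGroup.mk' M))
        have hdvd : Nat.card (S.map (QuotientGroup.mk' M)) ∣ Nat.card Ab :=
          Subgroup.card_dvd_of_le hSAb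
        rw [hj] at hdvd ⊢
        have hj1 : j ≤ 1 := by
          by_contra h
          exact h4 ((pow_dvd_pow 2 (by omega : 2 ≤ j)).trans hdvd)
        calc 2 ^ j ∣ 2 ^ 1 := pow_dvd_pow 2 hj1
          _ = 2 := pow_one 2
      have h2 : Nat.card (S ⊓ M : Subgroup G) ∣ 2 := by
        rw [← hMcard]; exact Subgroup.card_dvd_of_le inf_le_right
      have hS4 : Nat.card S ∣ 2 ^ 2 := by
        rw [← hcS]; exact Nat.mul_dvd_mul h1 h2
      obtain ⟨j, hj⟩ := IsPGroup.iff_card.mp hS
      have hj2 : j ≤ 2 := (Nat.pow_dvd_pow_iff_le_right (by norm_num)).mp (hj ▸ hS4)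
      constructor
      · intro x hx y hy
        have h3 := comm_of_card_le (p := 2) hj hj2 (⟨x, hx⟩ : ↥S) ⟨y, hy⟩
        exact congrArg Subtype.val h3
      · have hSne : 2 ∣ Nat.card S := by
          rw [hj]
          apply dvd_pow_self
          rintro rfl
          rw [pow_zero] at hj
          apply hSM
          rw [Subgroup.eq_bot_of_card_eq S hj]; exact bot_le
        obtain ⟨t, ht⟩ := exists_prime_orderOf_dvd_card' 2 hSne
        have hot : orderOf (t : G) = 2 := by rw [Subgroup.orderOf_coe]; exact ht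
        have htM : (t : G) ∈ M := hinvM _ hot
        have h5 : Subgroup.zpowers (t : G) = M :=
          Subgroup.eq_of_le_of_card_ge (Subgroup.zpowers_le.mpr htM)
            (by rw [hMcard, Nat.card_zpowers, hot])
        have h6 : M ≤ S := by rw [← h5]; exact Subgroup.zpowers_le.mpr t.2
        rw [inf_eq_right.mpr h6, hMcard, Nat.Prime.factorization_self Nat.prime_two, pow_one]
    have decomp : ∀ Ab : Subgroup (G ⧸ M), IsMulCommutative Ab → 4 ∣ Nat.card Ab →
        ∃ V A' : Subgroup (G ⧸ M), V ≤ Ab ∧ A' ≤ Ab ∧ Nat.card V = 4 ∧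
          Nat.card A' * 4 = Nat.card Ab ∧ ¬ 2 ∣ Nat.card A' ∧ V ⊔ A' = Ab := by
      intro Ab hA h4
      obtain ⟨S₀⟩ : Nonempty (Sylow 2 ↥Ab) := inferInstance
      haveI : (S₀ : Subgroup ↥Ab).Normal := ⟨fun s hs g => by
        rw [hA.is_comm.comm g s, mul_inv_cancel_right]; exact hs⟩
      obtain ⟨K₀, hK₀⟩ := Subgroup.exists_right_complement'_of_coprime S₀.card_coprime_index
      have hv : (Nat.card Ab).factorization 2 = 2 := by
        apply le_antisymm
        · calc (Nat.card Ab).factorization 2 ≤ (Nat.card (G ⧸ M)).factorization 2 :=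
                (Nat.factorization_le_iff_dvd Nat.card_pos.ne' Nat.card_pos.ne').mpr
                  (Subgroup.card_subgroup_dvd_card Ab) 2
            _ = 2 := hfacG
        · exact (Nat.Prime.pow_dvd_iff_le_factorization Nat.prime_two Nat.card_pos.ne').mp h4
      have hS₀ : Nat.card (S₀ : Subgroup ↥Ab) = 4 := by
        rw [S₀.card_eq_multiplicity, hv]; norm_num
      have hmul : Nat.card (S₀ : Subgroup ↥Ab) * Nat.card K₀ = Nat.card Ab := hK₀.card_mul_card
      refine ⟨(S₀ : Subgroup ↥Ab).map Ab.subtype, K₀.map Ab.subtype, Subgroup.map_subtype_le _,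
        Subgroup.map_subtype_le _, ?_, ?_, ?_, ?_⟩
      · rw [Subgroup.card_map_of_injective Ab.subtype_injective, hS₀]
      · rw [Subgroup.card_map_of_injective Ab.subtype_injective, ← hmul, hS₀, mul_comm]
      · rw [Subgroup.card_map_of_injective Ab.subtype_injective]
        intro h2
        have h3 : 2 ^ 3 ∣ Nat.card Ab := by
          rw [← hmul, hS₀]
          obtain ⟨c, hc⟩ := h2
          exact ⟨c, by rw [hc]; ring⟩
        have h5 := (Nat.Prime.pow_dvd_iff_le_factorization Nat.prime_two Nat.card_pos.ne').mp h3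
        omega
      · have h1 := hK₀.sup_eq_top
        have h2 := congrArg (Subgroup.map Ab.subtype) h1
        rw [Subgroup.map_sup, ← MonoidHom.range_eq_map, Subgroup.range_subtype] at h2
        exact h2
    intro Ab Bb hA hBb hc
    by_cases h4 : 4 ∣ Nat.card Ab
    · obtain ⟨V1, A', hV1, hA', hV1c, hA'c, hA'odd, hsupA⟩ := decomp Ab hA h4
      obtain ⟨V2, B', hV2, hB', hV2c, hB'c, hB'odd, hsupB⟩ := decomp Bb hBb (hc ▸ h4)
      have hA'comm : IsMulCommutative ↥A' := ⟨⟨fun a b => Subtype.ext (by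
        have h0 := hA.is_comm.comm (⟨a, hA' a.2⟩ : ↥Ab) ⟨b, hA' b.2⟩
        have h1 : (a : G ⧸ M) * (b : G ⧸ M) = (b : G ⧸ M) * (a : G ⧸ M) :=
          congrArg Subtype.val h0
        exact h1)⟩⟩
      have hB'comm : IsMulCommutative ↥B' := ⟨⟨fun a b => Subtype.ext (by
        have h0 := hBb.is_comm.comm (⟨a, hB' a.2⟩ : ↥Bb) ⟨b, hB' b.2⟩
        have h1 : (a : G ⧸ M) * (b : G ⧸ M) = (b : G ⧸ M) * (a : G ⧸ M) :=
          congrArg Subtype.val h0
        exact h1)⟩⟩
      have hc' : Nat.card A' = Nat.card B' := by omega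
      have h4A' : ¬ 4 ∣ Nat.card A' := fun h => hA'odd (dvd_trans (by norm_num) h)
      obtain ⟨g, hg⟩ := conj_of_loc hB M A' B' hA'comm hB'comm hc' (hloc4 A' h4A')
        (hloc4 B' (hc' ▸ h4A'))
      have hgc : ConjTo g A' B' := hg ▸ conjTo_map g A'
      obtain ⟨X, hX⟩ : ∃ X : Subgroup (G ⧸ M), X = V1.map (MulAut.conj g).toMonoidHom :=
        ⟨_, rfl⟩
      have hgV : ConjTo g V1 X := hX ▸ conjTo_map g V1
      have hXc : Nat.card X = 4 := by rw [conjTo_card hgV, hV1c]
      have hXcent : X ≤ Subgroup.centralizer (B' : Set (G ⧸ M)) := by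
        intro x hx
        rw [Subgroup.mem_centralizer_iff]
        intro b hb
        have h1 : g⁻¹ * x * g ∈ V1 := (hgV x).mp hx
        have h2 : g⁻¹ * b * g ∈ A' := (hgc b).mp hb
        have h3 := hA.is_comm.comm (⟨_, hA' h2⟩ : ↥Ab) ⟨_, hV1 h1⟩
        have h5 : (g⁻¹ * b * g) * (g⁻¹ * x * g) = (g⁻¹ * x * g) * (g⁻¹ * b * g) :=
          congrArg Subtype.val h3
        calc b * x = g * ((g⁻¹ * b * g) * (g⁻¹ * x * g)) * g⁻¹ := by group
          _ = g * ((g⁻¹ * x * g) * (g⁻¹ * b * g)) * g⁻¹ := by rw [h5]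
          _ = x * b := by group
      have hV2cent : V2 ≤ Subgroup.centralizer (B' : Set (G ⧸ M)) := by
        intro x hx
        rw [Subgroup.mem_centralizer_iff]
        intro b hb
        have h3 := hBb.is_comm.comm (⟨b, hB' hb⟩ : ↥Bb) ⟨x, hV2 hx⟩
        exact congrArg Subtype.val h3
      have hfacC : (Nat.card (Subgroup.centralizer (B' : Set (G ⧸ M)))).factorization 2 ≤ 2 := by
        calc (Nat.card (Subgroup.centralizer (B' : Set (G ⧸ M)))).factorization 2
            ≤ (Nat.card (G ⧸ M)).factorization 2 :=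
              (Nat.factorization_le_iff_dvd Nat.card_pos.ne' Nat.card_pos.ne').mpr
                (Subgroup.card_subgroup_dvd_card _) 2
          _ = 2 := hfacG
      obtain ⟨c, hcC, hcXV⟩ := sylow_conj_in (p := 2) _ X V2 hXcent hV2cent 2
        (by rw [hXc]; norm_num) (by rw [hV2c]; norm_num) hfacC
      have hcB : ConjTo c B' B' := by
        have hcomm : ∀ b ∈ B', b * c = c * b := fun b hb =>
          Subgroup.mem_centralizer_iff.mp hcC b hb
        intro y
        constructor
        · intro hy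
          have h0 : c⁻¹ * y * c = y := by
            rw [mul_assoc, hcomm y hy, ← mul_assoc, inv_mul_cancel, one_mul]
          rw [h0]; exact hy
        · intro hy
          have h1 := hcomm _ hy
          have h0 : y = c⁻¹ * y * c := by
            calc y = c * (c⁻¹ * y * c) * c⁻¹ := by group
              _ = (c⁻¹ * y * c) * c * c⁻¹ := by rw [← h1]
              _ = c⁻¹ * y * c := by group
          rw [h0]; exact hy
      have h5 : ConjTo (c * g) V1 V2 := conjTo_trans hgV hcXV
      have h6 : ConjTo (c * g) A' B' := conjTo_trans hgc hcB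
      have h7 := conjTo_sup h5 h6
      rw [hsupA, hsupB] at h7
      exact ⟨c * g, conjTo_eq_map h7⟩
    · exact conj_of_loc hB M Ab Bb hA hBb hc (hloc4 Ab h4) (hloc4 Bb (hc ▸ h4))

theorem solv_quot : ∀ n : ℕ, ∀ (G : Type u) [Group G] [Finite G] [Group.IsSolvable G], HB G →
    ∀ (M : Subgroup G) [M.Normal], Nat.card M = n → HB (G ⧸ M) := by
  intro n
  induction n using Nat.strongRecOn with | ind n ih => ?_
  intro G _ _ _ hB M _ hcard
  by_cases hodd : Odd (Nat.card M)
  · exact quot_main hB M hodd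
  by_cases hmin : ∃ N : Subgroup G, N.Normal ∧ N ≠ ⊥ ∧ N < M
  · obtain ⟨N, hNn, hNne, hNM⟩ := hmin
    haveI := hNn
    have hcN : Nat.card N < n := by
      rw [← hcard]
      apply lt_of_le_of_ne (Subgroup.card_le_of_le hNM.le)
      intro h
      exact hNM.ne (Subgroup.eq_of_le_of_card_ge hNM.le h.ge)
    have hBN : HB (G ⧸ N) := ih (Nat.card N) hcN G hB N rfl
    have hcMN : Nat.card (M.map (QuotientGroup.mk' N)) < n := by
      have h1 := card_map_mk N M
      have h2 : M ⊓ N = N := inf_eq_right.mpr hNM.le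
      rw [h2] at h1
      have h3 : 1 < Nat.card N := N.one_lt_card_iff_ne_bot.mpr hNne
      rw [← hcard, ← h1]
      have h4 : 0 < Nat.card (M.map (QuotientGroup.mk' N)) := Nat.card_pos
      nlinarith
    have hBMN : HB ((G ⧸ N) ⧸ M.map (QuotientGroup.mk' N)) :=
      ih _ hcMN (G ⧸ N) hBN (M.map (QuotientGroup.mk' N)) rfl
    exact hBMN.equiv (QuotientGroup.quotientQuotientEquivQuotient N M hNM.le)
  · have hMne : M ≠ ⊥ := by
      rintro rfl
      apply hodd
      rw [Subgroup.card_bot]; exact odd_one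
    have hmin' : ∀ K : Subgroup G, K.Normal → K ≤ M → K = ⊥ ∨ K = M := by
      intro K hK hKM
      by_cases h1 : K = ⊥
      · left; exact h1
      right
      by_contra h2
      exact hmin ⟨K, hK, h1, lt_of_le_of_ne hKM h2⟩
    obtain ⟨hMc, q, hq, hMexp⟩ := Cfsg.Agent.S0043.result M hMne hmin'
    haveI : Fact q.Prime := ⟨hq⟩
    have hq2 : q = 2 := by
      by_contra hq2
      apply hodd
      have hMpg : IsPGroup q M := fun x => ⟨1, by rw [pow_one]; exact Subtype.ext (hMexp x x.2)⟩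
      obtain ⟨k, hk⟩ := IsPGroup.iff_card.mp hMpg
      rw [hk]; exact (hq.odd_of_ne_two hq2).pow
    subst hq2
    exact quot_two hB M hMne hMexp

end Cfsg.Agent.Helper8.AbConj
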