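import Mathlib
import Cfsg.Agent.Helper8.Schmidt

/-!
# Schmidt's theorem: structure of minimal non-nilpotent groups (helper8)

* `schmidt` : a finite non-nilpotent group all of whose proper subgroups are nilpotent has a cyclic
  non-normal Sylow `p`-subgroup `P` and a normal Sylow `q`-subgroup `Q` with `P ⊔ Q = ⊤`; moreover
  `P ⊔ commutator G = ⊤`.
* `exists_conj_mem_of_not_dvd_index` : a `p`-subgroup is conjugate into any subgroup of index prime
  to `p`.
* `exists_sylow_of_nilpotent_relIndex`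
* `exists_pcomplement_decomp` : a nontrivial finite group all of whose proper subgroups are
  nilpotent is `P ⊔ N` with `P` a nontrivial `p`-subgroup and `N` a normal `p'`-subgroup.
-/

set_option autoImplicit false
open Pointwise
open scoped commutatorElement

namespace Cfsg.Agent.Helper8

universe u

theorem schmidt {G : Type*} [Group G] [Finite G] (hnn : ¬ Group.IsNilpotent G)
    (hsub : ∀ H : Subgroup G, H ≠ ⊤ → Group.IsNilpotent H) :
    ∃ p q : ℕ, p.Prime ∧ q.Prime ∧ p ≠ q ∧ ∃ (P : Sylow p G) (Q : Sylow q G),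
      IsCyclic (P : Subgroup G) ∧ (Q : Subgroup G).Normal ∧ (P : Subgroup G) ⊔ Q = ⊤ ∧
      ¬ (P : Subgroup G).Normal ∧ (P : Subgroup G) ⊔ commutator G = ⊤ := by
  classical
  have hsolv : Group.IsSolvable G := solvable_of_proper_nilpotent _ G rfl hsub
  have hnt : Nontrivial G := by
    by_contra h
    rw [not_nontrivial_iff_subsingleton] at h
    exact hnn (isNilpotent_of_comm (fun a b => Subsingleton.elim _ _))
  have hcomm_lt : commutator G < ⊤ := Group.IsSolvable.commutator_lt_top_of_nontrivial G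
  have hexP : ∃ (p : ℕ) (_ : Fact p.Prime) (P : Sylow p G), ¬ (P : Subgroup G).Normal := by
    by_contra hcon
    push Not at hcon
    exact hnn (((Group.isNilpotent_of_finite_tfae (G := G)).out 3 0).mp
      (fun p hp P => hcon p hp P))
  obtain ⟨p, hpF, P, hPn⟩ := hexP
  have hp : p.Prime := hpF.out
  have hG'nil : Group.IsNilpotent (commutator G) := hsub _ hcomm_lt.ne
  have hPG' : (P : Subgroup G) ⊔ commutator G = ⊤ := by
    by_contra hK
    have hKnil := hsub _ hK
    obtain ⟨T, hTK, hTp, hTall⟩ := exists_sylow_of_nilpotent _ hKnil p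
    have hPT : (P : Subgroup G) ≤ T := fun a ha =>
      hTall a (le_sup_left (b := commutator G) ha) (pelem_of_mem P.isPGroup' ha)
    have hTP : T = (P : Subgroup G) := P.is_maximal' hTp hPT
    apply hPn
    constructor
    intro a ha g
    rw [← hTP]
    obtain ⟨k, hk⟩ := pelem_of_mem P.isPGroup' ha
    apply hTall
    · have e : g * a * g⁻¹ = ⁅g, a⁆ * a := by rw [commutatorElement_def]; group
      rw [e]
      exact Subgroup.mul_mem _
        (le_sup_right (a := (P : Subgroup G))
          (show ⁅g, a⁆ ∈ commutator G from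
            Subgroup.commutator_mem_commutator (Subgroup.mem_top g) (Subgroup.mem_top a)))
        (le_sup_left (b := commutator G) ha)
    · exact ⟨k, by rw [conj_pow, hk]; group⟩
  have hQnormal : ∀ (q : ℕ) [Fact q.Prime], q ≠ p → ∀ Q : Sylow q G,
      (Q : Subgroup G).Normal := by
    intro q hqF hqp Q
    have hq : q.Prime := hqF.out
    obtain ⟨T, hTG', hTq, hTall⟩ := exists_sylow_of_nilpotent (commutator G) hG'nil q
    have hqel : ∀ y : G, (∃ k : ℕ, y ^ (q ^ k) = 1) → y ∈ commutator G := by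
      rintro y ⟨k, hk⟩
      have hy : y ∈ (P : Subgroup G) ⊔ commutator G := hPG' ▸ Subgroup.mem_top y
      obtain ⟨a, ha, c, hc, rfl⟩ := Subgroup.mem_sup_of_normal_right.mp hy
      obtain ⟨j, hj⟩ := pelem_of_mem P.isPGroup' ha
      have hc1 : (QuotientGroup.mk' (commutator G)) c = 1 := (QuotientGroup.eq_one_iff c).mpr hc
      have h1 : (QuotientGroup.mk' (commutator G)) (a * c) =
          (QuotientGroup.mk' (commutator G)) a := by
        rw [map_mul, hc1, mul_one]
      have h2 : orderOf ((QuotientGroup.mk' (commutator G)) a) ∣ p ^ j :=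
        orderOf_dvd_of_pow_eq_one (by rw [← map_pow, hj, map_one])
      have h3 : orderOf ((QuotientGroup.mk' (commutator G)) a) ∣ q ^ k := by
        rw [← h1]; exact orderOf_dvd_of_pow_eq_one (by rw [← map_pow, hk, map_one])
      have h4 := Nat.dvd_gcd h2 h3
      rw [Nat.Coprime.gcd_eq_one
        (Nat.Coprime.pow j k ((Nat.coprime_primes hp hq).mpr (Ne.symm hqp)))] at h4
      have h5 : (QuotientGroup.mk' (commutator G)) a = 1 :=
        orderOf_eq_one_iff.mp (Nat.dvd_one.mp h4)
      have h6 : a ∈ commutator G := (QuotientGroup.eq_one_iff a).mp h5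
      exact Subgroup.mul_mem _ h6 hc
    have hQT : (Q : Subgroup G) ≤ T := fun y hy =>
      hTall y (hqel y (pelem_of_mem Q.isPGroup' hy)) (pelem_of_mem Q.isPGroup' hy)
    have hTQ : T = (Q : Subgroup G) := Q.is_maximal' hTq hQT
    constructor
    intro y hy g
    rw [← hTQ]
    obtain ⟨k, hk⟩ := pelem_of_mem Q.isPGroup' hy
    have hk' : (g * y * g⁻¹) ^ (q ^ k) = 1 := by rw [conj_pow, hk]; group
    exact hTall _ (hqel _ ⟨k, hk'⟩) ⟨k, hk'⟩
  have hexQ : ∃ (q : ℕ) (_ : Fact q.Prime) (Q : Sylow q G), q ≠ p ∧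
      (P : Subgroup G) ⊔ Q = ⊤ := by
    by_contra hcon
    push Not at hcon
    apply hPn
    have hN : Subgroup.normalizer ((P : Subgroup G) : Set G) = ⊤ := by
      apply eq_top_of_exists_sylow_le
      intro q hqF
      by_cases hqp : q = p
      · subst hqp
        exact ⟨P, Subgroup.le_normalizer⟩
      · obtain ⟨Q⟩ : Nonempty (Sylow q G) := inferInstance
        refine ⟨Q, ?_⟩
        have hne := hcon q hqF Q hqp
        have hnil := hsub _ hne
        intro y hy
        rw [Subgroup.mem_normalizer_iff]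
        have hcomm : ∀ a ∈ (P : Subgroup G), y * a = a * y := by
          intro a ha
          obtain ⟨k, hk⟩ := pelem_of_mem Q.isPGroup' hy
          obtain ⟨j, hj⟩ := pelem_of_mem P.isPGroup' ha
          exact comm_of_coprime_sub _ hnil (le_sup_right (a := (P : Subgroup G)) hy)
            (le_sup_left (b := (Q : Subgroup G)) ha)
            (Nat.Coprime.coprime_dvd_left (orderOf_dvd_of_pow_eq_one hk)
              (Nat.Coprime.coprime_dvd_right (orderOf_dvd_of_pow_eq_one hj)
                (Nat.Coprime.pow k j ((Nat.coprime_primes hqF.out hp).mpr hqp))))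
        intro h
        constructor
        · intro hh
          have e : y * h * y⁻¹ = h := by rw [hcomm h hh]; group
          rw [e]; exact hh
        · intro hh
          have e := hcomm _ hh
          have e' : y * (y * h * y⁻¹) = y * h := by rw [e]; group
          have e'' : h = y * h * y⁻¹ := (mul_left_cancel e').symm
          rw [e'']; exact hh
    exact Subgroup.normalizer_eq_top_iff.mp hN
  obtain ⟨q, hqF, Q, hqp, hPQ⟩ := hexQ
  have hq : q.Prime := hqF.out
  have hQn : (Q : Subgroup G).Normal := hQnormal q hqp Q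
  have hdisj : ∀ a ∈ (P : Subgroup G), a ∈ (Q : Subgroup G) → a = 1 := by
    intro a haP haQ
    obtain ⟨j, hj⟩ := pelem_of_mem P.isPGroup' haP
    obtain ⟨k, hk⟩ := pelem_of_mem Q.isPGroup' haQ
    have h4 := Nat.dvd_gcd (orderOf_dvd_of_pow_eq_one hj) (orderOf_dvd_of_pow_eq_one hk)
    rw [Nat.Coprime.gcd_eq_one
      (Nat.Coprime.pow j k ((Nat.coprime_primes hp hq).mpr (Ne.symm hqp)))] at h4
    exact orderOf_eq_one_iff.mp (Nat.dvd_one.mp h4)
  have hcyc : ∃ x ∈ (P : Subgroup G), ∀ y ∈ (P : Subgroup G), y ∈ Subgroup.zpowers x := by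
    by_contra hcon
    push Not at hcon
    have hcent : ∀ x ∈ (P : Subgroup G), ∀ y ∈ (Q : Subgroup G), x * y = y * x := by
      intro x hx y hy
      have hne : Subgroup.zpowers x ⊔ (Q : Subgroup G) ≠ ⊤ := by
        intro htop
        obtain ⟨y', hy'P, hy'z⟩ := hcon x hx
        apply hy'z
        have hy'top : y' ∈ Subgroup.zpowers x ⊔ (Q : Subgroup G) := htop ▸ Subgroup.mem_top y'
        obtain ⟨a, ha, c, hc, hac⟩ := Subgroup.mem_sup_of_normal_right.mp hy'top
        have haP : a ∈ (P : Subgroup G) := (Subgroup.zpowers_le.mpr hx) ha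
        have hc1 : c = 1 := by
          apply hdisj c _ hc
          have e : c = a⁻¹ * y' := by rw [← hac]; group
          rw [e]; exact Subgroup.mul_mem _ (Subgroup.inv_mem _ haP) hy'P
        rw [← hac, hc1, mul_one]; exact ha
      have hnil := hsub _ hne
      obtain ⟨j, hj⟩ := pelem_of_mem P.isPGroup' hx
      obtain ⟨k, hk⟩ := pelem_of_mem Q.isPGroup' hy
      exact comm_of_coprime_sub _ hnil
        (le_sup_left (b := (Q : Subgroup G)) (Subgroup.mem_zpowers x))
        (le_sup_right (a := Subgroup.zpowers x) hy)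
        (Nat.Coprime.coprime_dvd_left (orderOf_dvd_of_pow_eq_one hj)
          (Nat.Coprime.coprime_dvd_right (orderOf_dvd_of_pow_eq_one hk)
            (Nat.Coprime.pow j k ((Nat.coprime_primes hp hq).mpr (Ne.symm hqp)))))
    apply hPn
    constructor
    intro a ha g
    have hg : g ∈ (P : Subgroup G) ⊔ (Q : Subgroup G) := hPQ ▸ Subgroup.mem_top g
    obtain ⟨b, hb, c, hc, rfl⟩ := Subgroup.mem_sup_of_normal_right.mp hg
    have e : b * c * a * (b * c)⁻¹ = b * a * b⁻¹ := by
      have h1 := hcent a ha c hc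
      calc b * c * a * (b * c)⁻¹ = b * (c * a) * c⁻¹ * b⁻¹ := by group
        _ = b * (a * c) * c⁻¹ * b⁻¹ := by rw [h1]
        _ = b * a * b⁻¹ := by group
    rw [e]
    exact Subgroup.mul_mem _ (Subgroup.mul_mem _ hb ha) (Subgroup.inv_mem _ hb)
  obtain ⟨x, hxP, hxall⟩ := hcyc
  have hPcyc : IsCyclic (P : Subgroup G) := by
    refine ⟨⟨⟨x, hxP⟩, fun y => ?_⟩⟩
    obtain ⟨i, hi⟩ := Subgroup.mem_zpowers_iff.mp (hxall y y.2)
    exact ⟨i, Subtype.ext (by simpa using hi)⟩
  exact ⟨p, q, hp, hq, Ne.symm hqp, P, Q, hPcyc, hQn, hPQ, hPn, hPG'⟩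

/-- A `p`-subgroup is conjugate into any subgroup whose index is prime to `p`. -/
theorem exists_conj_mem_of_not_dvd_index {G : Type*} [Group G] [Finite G] {p : ℕ} [Fact p.Prime]
    (Q T : Subgroup G) (hQ : IsPGroup p Q) (hT : ¬ p ∣ T.index) :
    ∃ x : G, ∀ q ∈ Q, x⁻¹ * q * x ∈ T := by
  have hcard : ¬ p ∣ Nat.card (G ⧸ T) := by rwa [← Subgroup.index_eq_card]
  obtain ⟨y, hy⟩ := hQ.nonempty_fixed_point_of_prime_not_dvd_card (G ⧸ T) hcard
  obtain ⟨x, rfl⟩ := QuotientGroup.mk_surjective y
  refine ⟨x, fun q hq => ?_⟩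
  have h1 : (⟨q, hq⟩ : Q) • (QuotientGroup.mk x : G ⧸ T) = QuotientGroup.mk x := hy ⟨q, hq⟩
  have h2 : (QuotientGroup.mk (q * x) : G ⧸ T) = QuotientGroup.mk x := h1
  rw [QuotientGroup.eq] at h2
  have h3 : x⁻¹ * q * x = ((q * x)⁻¹ * x)⁻¹ := by group
  rw [h3]
  exact T.inv_mem h2

/-- The Sylow `p`-subgroup of a nilpotent subgroup, with its relative index. -/
theorem exists_sylow_of_nilpotent_relIndex {G : Type*} [Group G] [Finite G] (N : Subgroup G)
    (hN : Group.IsNilpotent N) (p : ℕ) [Fact p.Prime] :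
    ∃ T : Subgroup G, T ≤ N ∧ IsPGroup p T ∧
      (∀ x ∈ N, (∃ k : ℕ, x ^ (p ^ k) = 1) → x ∈ T) ∧ ¬ p ∣ T.relIndex N := by
  obtain ⟨P⟩ : Nonempty (Sylow p N) := inferInstance
  have hPn : (P : Subgroup N).Normal := inferInstance
  refine ⟨(P : Subgroup N).map N.subtype, ?_, ?_, ?_, ?_⟩
  · intro x hx
    obtain ⟨y, _, rfl⟩ := Subgroup.mem_map.mp hx
    exact y.2
  · exact P.2.map N.subtype
  · rintro x hx ⟨k, hk⟩
    have hpg : IsPGroup p (Subgroup.zpowers (⟨x, hx⟩ : N)) := by
      have h1 : orderOf (⟨x, hx⟩ : N) ∣ p ^ k := by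
        rw [Subgroup.orderOf_mk]; exact orderOf_dvd_of_pow_eq_one hk
      obtain ⟨j, -, hj⟩ := (Nat.dvd_prime_pow (Fact.out : p.Prime)).mp h1
      exact IsPGroup.of_card (n := j) (by rw [Nat.card_zpowers, hj])
    obtain ⟨P', hP'⟩ := hpg.exists_le_sylow
    have hPP : P' = P := by
      have := Sylow.unique_of_normal P hPn
      exact Subsingleton.elim P' P
    rw [hPP] at hP'
    exact Subgroup.mem_map.mpr ⟨⟨x, hx⟩, hP' (Subgroup.mem_zpowers _), rfl⟩
  · have e : ((P : Subgroup N).map N.subtype).subgroupOf N = (P : Subgroup N) := by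
      ext x
      rw [Subgroup.mem_subgroupOf, Subgroup.mem_map]
      constructor
      · rintro ⟨y, hy, hyx⟩
        have : y = x := Subtype.ext hyx
        rw [← this]; exact hy
      · intro hx
        exact ⟨x, hx, rfl⟩
    show ¬ p ∣ (((P : Subgroup N).map N.subtype).subgroupOf N).index
    rw [e]
    exact P.not_dvd_index

theorem isNilpotent_of_map_injective {G G' : Type*} [Group G] [Group G'] {f : G →* G'}
    (hf : Function.Injective f) (K : Subgroup G) (h : Group.IsNilpotent (K.map f)) :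
    Group.IsNilpotent K :=
  (Group.isNilpotent_congr (K.equivMapOfInjective f hf)).mpr h

/-- A nontrivial finite group all of whose proper subgroups are nilpotent is `P ⊔ N` with `P` a
nontrivial `p`-subgroup and `N` a normal `p'`-subgroup. -/
theorem exists_pcomplement_decomp {K : Type*} [Group K] [Finite K] [Nontrivial K]
    (hsub : ∀ H : Subgroup K, H ≠ ⊤ → Group.IsNilpotent H) :
    ∃ p : ℕ, p.Prime ∧ ∃ P N : Subgroup K, IsPGroup p P ∧ P ≠ ⊥ ∧ N.Normal ∧
      (Nat.card N).Coprime p ∧ P ⊔ N = ⊤ := by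
  by_cases hnil : Group.IsNilpotent K
  · have hcard : Nat.card K ≠ 1 := by
      intro h
      have := (Nat.card_eq_one_iff_unique.mp h).1
      exact not_subsingleton K this
    obtain ⟨p, hp, hpd⟩ := Nat.exists_prime_and_dvd hcard
    have : Fact p.Prime := ⟨hp⟩
    obtain ⟨P⟩ : Nonempty (Sylow p K) := inferInstance
    have hPn : (P : Subgroup K).Normal := inferInstance
    obtain ⟨N, hN⟩ := Subgroup.exists_right_complement'_of_coprime P.card_coprime_index
    have hNcard : (P : Subgroup K).index = Nat.card N := hN.symm.index_eq_card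
    have hNcop : (Nat.card N).Coprime p := by
      rw [← hNcard]
      exact Nat.Coprime.symm ((Nat.Prime.coprime_iff_not_dvd hp).mpr P.not_dvd_index)
    have hsup : (P : Subgroup K) ⊔ N = ⊤ := hN.sup_eq_top
    have hcomm : ∀ a ∈ (P : Subgroup K), ∀ n ∈ N, a * n = n * a := by
      intro a ha n hn
      obtain ⟨j, hj⟩ := pelem_of_mem P.isPGroup' ha
      apply comm_of_coprime_nilpotent
      exact Nat.Coprime.coprime_dvd_left (orderOf_dvd_of_pow_eq_one hj)
        (Nat.Coprime.coprime_dvd_right (Subgroup.orderOf_dvd_natCard N hn)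
          (Nat.Coprime.pow_left j (Nat.Coprime.symm hNcop)))
    refine ⟨p, hp, P, N, P.isPGroup', P.ne_bot_of_dvd_card hpd, ?_, hNcop, hsup⟩
    constructor
    intro n hn g
    have hg : g ∈ (P : Subgroup K) ⊔ N := hsup ▸ Subgroup.mem_top g
    obtain ⟨a, ha, c, hc, rfl⟩ := Subgroup.mem_sup_of_normal_left.mp hg
    have e : a * c * n * (a * c)⁻¹ = c * n * c⁻¹ := by
      have h1 := hcomm a ha (c * n * c⁻¹) (N.mul_mem (N.mul_mem hc hn) (N.inv_mem hc))
      calc a * c * n * (a * c)⁻¹ = a * (c * n * c⁻¹) * a⁻¹ := by group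
        _ = (c * n * c⁻¹) * a * a⁻¹ := by rw [h1]
        _ = c * n * c⁻¹ := by group
    rw [e]
    exact N.mul_mem (N.mul_mem hc hn) (N.inv_mem hc)
  · obtain ⟨p, q, hp, hq, hpq, P, Q, -, hQn, hPQ, hPn, -⟩ := schmidt hnil hsub
    have : Fact q.Prime := ⟨hq⟩
    refine ⟨p, hp, P, Q, P.isPGroup', ?_, hQn, ?_, hPQ⟩
    · intro hbot
      apply hPn
      rw [hbot]
      infer_instance
    · obtain ⟨k, hk⟩ := IsPGroup.iff_card.mp Q.isPGroup'
      rw [hk]
      exact Nat.Coprime.pow_left k ((Nat.coprime_primes hq hp).mpr (Ne.symm hpq))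

end Cfsg.Agent.Helper8
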