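import Mathlib
import Cfsg.Agent.Helper8.Schmidt2

/-!
# Small utilities used with Schmidt's theorem (helper8)
-/

set_option autoImplicit false

namespace Cfsg.Agent.Helper8

/-- A normal Sylow `p`-subgroup contains every `p`-element. -/
theorem mem_sylow_of_normal {G : Type*} [Group G] [Finite G] {p : ℕ} [Fact p.Prime]
    (T : Sylow p G) (hT : (T : Subgroup G).Normal) {u : G} {k : ℕ} (hu : u ^ (p ^ k) = 1) :
    u ∈ (T : Subgroup G) := by
  have hpg : IsPGroup p (Subgroup.zpowers u) := isPGroup_zpowers Fact.out hu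
  obtain ⟨P', hP'⟩ := hpg.exists_le_sylow
  have hPP : P' = T := by
    have := Sylow.unique_of_normal T hT
    exact Subsingleton.elim P' T
  rw [hPP] at hP'
  exact hP' (Subgroup.mem_zpowers u)

/-- Elements of a cyclic subgroup commute. -/
theorem comm_of_isCyclic_sub {G : Type*} [Group G] (P : Subgroup G) (hP : IsCyclic P) {a b : G}
    (ha : a ∈ P) (hb : b ∈ P) : a * b = b * a := by
  obtain ⟨g, hg⟩ := IsCyclic.exists_generator (α := P)
  obtain ⟨i, hi⟩ := Subgroup.mem_zpowers_iff.mp (hg ⟨a, ha⟩)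
  obtain ⟨j, hj⟩ := Subgroup.mem_zpowers_iff.mp (hg ⟨b, hb⟩)
  have h1 : (⟨a, ha⟩ : P) * ⟨b, hb⟩ = ⟨b, hb⟩ * ⟨a, ha⟩ := by
    rw [← hi, ← hj, ← zpow_add, ← zpow_add, add_comm]
  exact congrArg Subtype.val h1

/-- If `x y x⁻¹ = y z` and `x` commutes with `z`, then `xⁿ y x⁻ⁿ = y zⁿ`. -/
theorem conj_pow_aux {G : Type*} [Group G] (x y z : G) (hxy : x * y = y * z * x)
    (hxz : x * z = z * x) : ∀ n : ℕ, x ^ n * y = y * z ^ n * x ^ n := by
  intro n
  induction n with
  | zero => simp
  | succ n ih =>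
    have hc : x * z ^ n = z ^ n * x := (Commute.pow_right (show Commute x z from hxz) n).eq
    calc x ^ (n + 1) * y = x * (x ^ n * y) := by rw [pow_succ', mul_assoc]
      _ = x * (y * z ^ n * x ^ n) := by rw [ih]
      _ = (x * y) * z ^ n * x ^ n := by simp only [mul_assoc]
      _ = (y * z * x) * z ^ n * x ^ n := by rw [hxy]
      _ = y * z * (x * z ^ n) * x ^ n := by simp only [mul_assoc]
      _ = y * z * (z ^ n * x) * x ^ n := by rw [hc]
      _ = y * z ^ (n + 1) * x ^ (n + 1) := by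
        rw [pow_succ' z n, pow_succ' x n]; simp only [mul_assoc]

end Cfsg.Agent.Helper8
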