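import Mathlib
import Cfsg.Prelude.Def_OddOrderLocal
import Cfsg.Agent.Helper8.Metacyclic4
import Cfsg.Agent.S1236
import Cfsg.Agent.S1452
import Cfsg.Agent.S4189

set_option autoImplicit false
open Cfsg
open scoped commutatorElement

/-! # Metacyclic 2-groups with an automorphism of odd order -/

namespace Cfsg.Agent.Helper8.MetaAut

variable {X : Type*} [Group X] [Finite X]

theorem char_iff (H : Subgroup X) [hH : H.Characteristic] (α : MulAut X) (g : X) :
    α g ∈ H ↔ g ∈ H := by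
  have h := hH.fixed α
  have h2 : g ∈ H.comap α.toMonoidHom ↔ α g ∈ H := Iff.rfl
  rw [h] at h2
  exact h2.symm

theorem comm_char : (commutator X).Characteristic := by
  rw [commutator_def]; infer_instance

theorem isCoatom_of_index_two (M : Subgroup X) (hM : M.index = 2) : IsCoatom M := by
  constructor
  · intro h
    rw [← Subgroup.index_eq_one] at h
    omega
  · intro K hK
    have h1 := Subgroup.relIndex_mul_index hK.le
    rw [hM] at h1
    have h2 : K.index ∣ 2 := Dvd.intro_left _ h1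
    rcases (Nat.dvd_prime Nat.prime_two).mp h2 with h3 | h3
    · exact Subgroup.index_eq_one.mp h3
    · rw [h3] at h1
      have h4 : M.relIndex K = 1 := by omega
      exact absurd (Subgroup.relIndex_eq_one.mp h4) (not_le_of_gt hK)

theorem sq_mem (hX : IsPGroup 2 X) (g : X) : g ^ 2 ∈ frattini X :=
  Cfsg.Agent.Helper8.Meta.pow_mem_frattini (p := 2) hX g

theorem commutator_le_frattini (hX : IsPGroup 2 X) : commutator X ≤ frattini X := by
  rw [commutator_def, Subgroup.commutator_le]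
  intro a _ b _
  have h : ⁅a, b⁆ = a ^ 2 * (a⁻¹ * b) ^ 2 * (b⁻¹) ^ 2 := by
    rw [commutatorElement_def, pow_two, pow_two, pow_two]; group
  rw [h]
  exact mul_mem (mul_mem (sq_mem hX a) (sq_mem hX _)) (sq_mem hX _)

/-- The map `(i, j) ↦ y^i c^j` into a quotient. -/
def ff (H : Subgroup X) [H.Normal] (c y : X) (p : Fin 2 × Fin 2) : X ⧸ H :=
  (y : X ⧸ H) ^ (p.1 : ℕ) * (c : X ⧸ H) ^ (p.2 : ℕ)

theorem ff_surj (H : Subgroup X) [H.Normal] (c y : X) (hc : c ^ 2 ∈ H) (hy : y ^ 2 ∈ H)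
    (hform : ∀ g : X, ∃ i j : ℕ, g = y ^ i * c ^ j) : Function.Surjective (ff H c y) := by
  have hc1 : ((c : X ⧸ H)) ^ 2 = 1 := by
    rw [← QuotientGroup.mk_pow]; exact (QuotientGroup.eq_one_iff _).mpr hc
  have hy1 : ((y : X ⧸ H)) ^ 2 = 1 := by
    rw [← QuotientGroup.mk_pow]; exact (QuotientGroup.eq_one_iff _).mpr hy
  intro q
  obtain ⟨g, rfl⟩ := QuotientGroup.mk_surjective q
  obtain ⟨i, j, rfl⟩ := hform g
  refine ⟨(⟨i % 2, Nat.mod_lt _ (by norm_num)⟩, ⟨j % 2, Nat.mod_lt _ (by norm_num)⟩), ?_⟩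
  show (y : X ⧸ H) ^ (i % 2) * (c : X ⧸ H) ^ (j % 2) = _
  rw [QuotientGroup.mk_mul, QuotientGroup.mk_pow, QuotientGroup.mk_pow,
    pow_eq_pow_mod i hy1, pow_eq_pow_mod j hc1]

theorem index_le_four (H : Subgroup X) [H.Normal] (c y : X) (hc : c ^ 2 ∈ H) (hy : y ^ 2 ∈ H)
    (hform : ∀ g : X, ∃ i j : ℕ, g = y ^ i * c ^ j) : H.index ≤ 4 := by
  have h1 := Nat.card_le_card_of_surjective (ff H c y) (ff_surj H c y hc hy hform)
  have h2 : Nat.card (Fin 2 × Fin 2) = 4 := by
    rw [Nat.card_prod, Nat.card_fin]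
  rw [h2] at h1
  exact h1

theorem exists_fixed (hX : IsPGroup 2 X) (α : MulAut X) {r : ℕ} (hr : r.Prime) (hrodd : Odd r)
    (hpow : α ^ r = 1) (a : X) (ha : a⁻¹ * α a ∈ frattini X) :
    ∃ u ∈ frattini X, α (a * u) = a * u := by
  classical
  haveI : Fact r.Prime := ⟨hr⟩
  let f : ↥(frattini X) → ↥(frattini X) := fun u =>
    ⟨a⁻¹ * α (a * (u : X)), by
      have h1 : a⁻¹ * α (a * (u : X)) = a⁻¹ * α a * α (u : X) := by rw [map_mul, mul_assoc]
      rw [h1]
      exact mul_mem ha ((char_iff (frattini X) α _).mpr u.2)⟩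
  have hf : Function.Injective f := by
    intro u v huv
    have h1 : a⁻¹ * α (a * (u : X)) = a⁻¹ * α (a * (v : X)) := congrArg Subtype.val huv
    have h2 := α.injective (mul_left_cancel h1)
    exact Subtype.ext (mul_left_cancel h2)
  let σ : Equiv.Perm ↥(frattini X) := Equiv.ofBijective f (Finite.injective_iff_bijective.mp hf)
  have hσ : ∀ (k : ℕ) (u : ↥(frattini X)),
      (((σ ^ k) u : ↥(frattini X)) : X) = a⁻¹ * (α ^ k) (a * (u : X)) := by
    intro k
    induction k with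
    | zero => intro u; simp
    | succ k ih =>
      intro u
      rw [pow_succ, Equiv.Perm.mul_apply, ih]
      show a⁻¹ * (α ^ k) (a * (a⁻¹ * α (a * (u : X)))) = _
      rw [mul_inv_cancel_left, pow_succ, MulAut.mul_apply]
  have hσr : σ ^ r ^ 1 = 1 := by
    rw [pow_one]
    refine Equiv.ext (fun u => Subtype.ext ?_)
    rw [hσ, hpow]
    simp
  haveI : Fintype ↥(frattini X) := Fintype.ofFinite _
  have hcard : ¬ r ∣ Fintype.card ↥(frattini X) := by
    rw [← Nat.card_eq_fintype_card]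
    obtain ⟨m, hm⟩ := IsPGroup.iff_card.mp (hX.to_subgroup (frattini X))
    rw [hm]
    intro hdvd
    have h2 := (Nat.prime_dvd_prime_iff_eq hr Nat.prime_two).mp (hr.dvd_of_dvd_pow hdvd)
    rw [h2] at hrodd
    exact absurd hrodd (by decide)
  obtain ⟨u, hu⟩ := Equiv.Perm.exists_fixed_point_of_prime hcard hσr
  refine ⟨u, u.2, ?_⟩
  have h1 : a⁻¹ * α (a * (u : X)) = (u : X) := congrArg Subtype.val hu
  exact eq_mul_of_inv_mul_eq h1

theorem aut_eq_one (hX : IsPGroup 2 X) (α : MulAut X) {r : ℕ} (hr : r.Prime) (hrodd : Odd r)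
    (hpow : α ^ r = 1) (h : ∀ g : X, g⁻¹ * α g ∈ frattini X) : α = 1 := by
  let F : Subgroup X :=
    { carrier := {g | α g = g}
      mul_mem' := fun {a b} ha hb => by
        show α (a * b) = a * b
        rw [map_mul, (ha : α a = a), (hb : α b = b)]
      one_mem' := map_one α
      inv_mem' := fun {a} ha => by
        show α a⁻¹ = a⁻¹
        rw [map_inv, (ha : α a = a)] }
  have hF : F ⊔ frattini X = ⊤ := by
    rw [eq_top_iff]
    intro g _
    obtain ⟨u, hu, hfix⟩ := exists_fixed hX α hr hrodd hpow g (h g)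
    have h1 : g = (g * u) * u⁻¹ := by group
    rw [h1]
    exact mul_mem (Subgroup.mem_sup_left hfix) (Subgroup.mem_sup_right (inv_mem hu))
  have hF2 := frattini_nongenerating hF
  ext g
  have h3 : g ∈ F := by rw [hF2]; exact Subgroup.mem_top g
  show α g = g
  exact h3

theorem diff_mem (hX : IsPGroup 2 X) (α : MulAut X) {r : ℕ} (hrodd : Odd r)
    (hpow : α ^ r = 1) (M : Subgroup X) (hM : M.index = 2) (hMα : ∀ g, α g ∈ M ↔ g ∈ M)
    (hΦ : (frattini X).index ≤ 4) (hΦM : frattini X ≤ M) (g : X) :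
    g⁻¹ * α g ∈ frattini X := by
  have hA : ∀ g : X, g⁻¹ * α g ∈ M := by
    intro g
    rw [Subgroup.mul_mem_iff_of_index_two hM, inv_mem_iff, hMα]
  have h1 := Subgroup.relIndex_mul_index hΦM
  rw [hM] at h1
  have h0 : (frattini X).index ≠ 0 := Subgroup.index_ne_zero_of_finite
  have hB : ∀ d ∈ M, d⁻¹ * α d ∈ frattini X := by
    intro d hd
    by_cases hdΦ : d ∈ frattini X
    · exact mul_mem (inv_mem hdΦ) ((char_iff (frattini X) α d).mpr hdΦ)
    · have hne1 : (frattini X).relIndex M ≠ 1 := by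
        intro h1
        exact hdΦ (Subgroup.relIndex_eq_one.mp h1 hd)
      have h2 : ((frattini X).subgroupOf M).index = 2 := by
        have h3 : (frattini X).relIndex M = 2 := by omega
        exact h3
      have h3 := Subgroup.mul_mem_iff_of_index_two h2 (a := (⟨d, hd⟩ : ↥M)⁻¹)
        (b := ⟨α d, (hMα d).mpr hd⟩)
      have h4 : (⟨d, hd⟩ : ↥M)⁻¹ * ⟨α d, (hMα d).mpr hd⟩ ∈ (frattini X).subgroupOf M := by
        rw [h3, inv_mem_iff]
        constructor
        · intro h5; exact absurd (Subgroup.mem_subgroupOf.mp h5) hdΦ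
        · intro h5
          exact absurd ((char_iff (frattini X) α d).mp (Subgroup.mem_subgroupOf.mp h5)) hdΦ
      exact Subgroup.mem_subgroupOf.mp h4
  have hcomap : frattini X ≤ (frattini X).comap α.toMonoidHom :=
    fun x hx => (char_iff (frattini X) α x).mpr hx
  obtain ⟨β, hβ⟩ : ∃ β : X ⧸ frattini X →* X ⧸ frattini X,
      ∀ w : X, β (w : X ⧸ frattini X) = ((α w : X) : X ⧸ frattini X) :=
    ⟨QuotientGroup.map _ _ α.toMonoidHom hcomap, fun w => rfl⟩
  obtain ⟨d, hd⟩ : ∃ d : X, d = g⁻¹ * α g := ⟨_, rfl⟩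
  have hdM : d ∈ M := hd ▸ hA g
  have hπd : ((α d : X) : X ⧸ frattini X) = (d : X ⧸ frattini X) :=
    (QuotientGroup.eq.mpr (hB d hdM)).symm
  have hgd : ((α g : X) : X ⧸ frattini X) = (g : X ⧸ frattini X) * (d : X ⧸ frattini X) := by
    rw [← QuotientGroup.mk_mul, hd, mul_inv_cancel_left]
  have hC : ∀ k : ℕ, (((α ^ k) g : X) : X ⧸ frattini X) =
      (g : X ⧸ frattini X) * (d : X ⧸ frattini X) ^ k := by
    intro k
    induction k with
    | zero => simp
    | succ k ih =>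
      have e : α ^ (k + 1) = α * α ^ k := pow_succ' α k
      rw [e, MulAut.mul_apply, ← hβ, ih, map_mul, map_pow, hβ, hβ, hπd, hgd,
        pow_succ' (d : X ⧸ frattini X) k, mul_assoc]
  have h5 := hC r
  rw [hpow, MulAut.one_apply] at h5
  have h6 : (d : X ⧸ frattini X) ^ r = 1 :=
    mul_left_cancel (a := (g : X ⧸ frattini X)) (by rw [mul_one]; exact h5.symm)
  have h7 : (d : X ⧸ frattini X) ^ 2 = 1 := by
    rw [← QuotientGroup.mk_pow]; exact (QuotientGroup.eq_one_iff _).mpr (sq_mem hX d)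
  obtain ⟨t, ht⟩ := hrodd
  rw [ht, pow_succ, pow_mul, h7, one_pow, one_mul] at h6
  rw [← hd]
  exact (QuotientGroup.eq_one_iff _).mp h6

/-- The standing hypotheses. -/
structure Hyp (c y : X) (α : MulAut X) (r : ℕ) : Prop where
  pg : IsPGroup 2 X
  form : ∀ g : X, ∃ i j : ℕ, g = y ^ i * c ^ j
  rp : r.Prime
  rodd : Odd r
  pow : α ^ r = 1
  ne : α ≠ 1

variable {c y : X} {α : MulAut X} {r : ℕ}

theorem inv_iff (α : MulAut X) (K : Subgroup X) (h : ∀ g ∈ K, α g ∈ K) (g : X) :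
    α g ∈ K ↔ g ∈ K := by
  refine ⟨fun hg => ?_, h g⟩
  let f : ↥K → ↥K := fun k => ⟨α k, h k k.2⟩
  have hf : Function.Injective f :=
    fun a b hab => Subtype.ext (α.injective (congrArg Subtype.val hab))
  obtain ⟨k, hk⟩ := (Finite.injective_iff_surjective.mp hf) ⟨α g, hg⟩
  have h1 : α (k : X) = α g := congrArg Subtype.val hk
  rw [← α.injective h1]
  exact k.2

theorem frat_index_le (hX : IsPGroup 2 X) {c y : X}
    (hform : ∀ g : X, ∃ i j : ℕ, g = y ^ i * c ^ j) : (frattini X).index ≤ 4 :=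
  index_le_four (frattini X) c y (sq_mem hX c) (sq_mem hX y) hform

theorem no_inv (h : Hyp c y α r) (M : Subgroup X) (hM : M.index = 2)
    (hMα : ∀ g ∈ M, α g ∈ M) : False := by
  have hco : IsCoatom M := isCoatom_of_index_two M hM
  have hΦM : frattini X ≤ M := frattini_le_coatom hco
  apply h.ne
  exact aut_eq_one h.pg α h.rp h.rodd h.pow
    (diff_mem h.pg α h.rodd h.pow M hM (inv_iff α M hMα) (frat_index_le h.pg h.form) hΦM)

theorem frat_index (h : Hyp c y α r) : (frattini X).index = 4 := by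
  have h4 := frat_index_le h.pg h.form
  have hdvd : (frattini X).index ∣ Nat.card X := Subgroup.index_dvd_card _
  obtain ⟨m, hm⟩ := IsPGroup.iff_card.mp h.pg
  rw [hm] at hdvd
  obtain ⟨e, -, he⟩ := (Nat.dvd_prime_pow Nat.prime_two).mp hdvd
  have he2 : e ≤ 2 := by
    by_contra hcon
    have h8 : 2 ^ 3 ≤ 2 ^ e := Nat.pow_le_pow_right (by norm_num) (by omega)
    rw [he] at h4
    norm_num at h8
    omega
  interval_cases e
  · exfalso
    apply h.ne
    refine aut_eq_one h.pg α h.rp h.rodd h.pow (fun g => ?_)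
    have h9 : frattini X = ⊤ := Subgroup.index_eq_one.mp (by simpa using he)
    rw [h9]; exact Subgroup.mem_top _
  · exfalso
    exact no_inv h (frattini X) (by simpa using he)
      (fun g hg => (char_iff (frattini X) α g).mpr hg)
  · simpa using he

theorem star2 (h : Hyp c y α r) (K : Subgroup X) (hK : ∀ g ∈ K, α g ∈ K) {g0 : X}
    (hg0 : g0 ∈ K) (hg0Φ : g0 ∉ frattini X) : K = ⊤ := by
  apply frattini_nongenerating
  have hinv : ∀ g ∈ K ⊔ frattini X, α g ∈ K ⊔ frattini X := by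
    have h1 : K ⊔ frattini X ≤ (K ⊔ frattini X).comap α.toMonoidHom := by
      apply sup_le
      · intro g hg
        show α g ∈ K ⊔ frattini X
        exact Subgroup.mem_sup_left (hK g hg)
      · intro g hg
        show α g ∈ K ⊔ frattini X
        exact Subgroup.mem_sup_right ((char_iff (frattini X) α g).mpr hg)
    exact fun g hg => h1 hg
  have h1 := Subgroup.relIndex_mul_index (le_sup_right : frattini X ≤ K ⊔ frattini X)
  rw [frat_index h] at h1
  have hne1 : (frattini X).relIndex (K ⊔ frattini X) ≠ 1 := by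
    intro h2
    exact hg0Φ (Subgroup.relIndex_eq_one.mp h2 (Subgroup.mem_sup_left hg0))
  have hdvd : (K ⊔ frattini X).index ∣ 4 := Dvd.intro_left _ h1
  have h22 : (4 : ℕ) = 2 ^ 2 := by norm_num
  rw [h22] at hdvd
  obtain ⟨e, he2, he⟩ := (Nat.dvd_prime_pow Nat.prime_two).mp hdvd
  interval_cases e
  · exact Subgroup.index_eq_one.mp (by simpa using he)
  · exfalso; exact no_inv h _ (by simpa using he) hinv
  · exfalso
    rw [he] at h1
    apply hne1
    omega

theorem ff_inj (h : Hyp c y α r) : Function.Injective (ff (frattini X) c y) := by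
  have hs := ff_surj (frattini X) c y (sq_mem h.pg c) (sq_mem h.pg y) h.form
  have hcard : Nat.card (Fin 2 × Fin 2) = Nat.card (X ⧸ frattini X) := by
    rw [Nat.card_prod, Nat.card_fin]
    have h1 := frat_index h
    show 2 * 2 = (frattini X).index
    omega
  exact ((Nat.bijective_iff_surjective_and_card _).mpr ⟨hs, hcard⟩).1

theorem not_mem_y (h : Hyp c y α r) : y ∉ frattini X := by
  intro hy
  have hy1 : (y : X ⧸ frattini X) = 1 := (QuotientGroup.eq_one_iff y).mpr hy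
  have h1 : ff (frattini X) c y (1, 0) = ff (frattini X) c y (0, 0) := by
    show (y : X ⧸ frattini X) ^ ((1 : Fin 2) : ℕ) * (c : X ⧸ frattini X) ^ ((0 : Fin 2) : ℕ) =
      (y : X ⧸ frattini X) ^ ((0 : Fin 2) : ℕ) * (c : X ⧸ frattini X) ^ ((0 : Fin 2) : ℕ)
    simp [hy1]
  exact absurd (ff_inj h h1) (by decide)

theorem not_mem_c (h : Hyp c y α r) : c ∉ frattini X := by
  intro hc
  have hc1 : (c : X ⧸ frattini X) = 1 := (QuotientGroup.eq_one_iff c).mpr hc
  have h1 : ff (frattini X) c y (0, 1) = ff (frattini X) c y (0, 0) := by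
    show (y : X ⧸ frattini X) ^ ((0 : Fin 2) : ℕ) * (c : X ⧸ frattini X) ^ ((1 : Fin 2) : ℕ) =
      (y : X ⧸ frattini X) ^ ((0 : Fin 2) : ℕ) * (c : X ⧸ frattini X) ^ ((0 : Fin 2) : ℕ)
    simp [hc1]
  exact absurd (ff_inj h h1) (by decide)

theorem not_mem_yc (h : Hyp c y α r) : y * c ∉ frattini X := by
  intro hyc
  have hyc1 : (y : X ⧸ frattini X) * (c : X ⧸ frattini X) = 1 := by
    rw [← QuotientGroup.mk_mul]; exact (QuotientGroup.eq_one_iff _).mpr hyc
  have h1 : ff (frattini X) c y (1, 1) = ff (frattini X) c y (0, 0) := by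
    show (y : X ⧸ frattini X) ^ ((1 : Fin 2) : ℕ) * (c : X ⧸ frattini X) ^ ((1 : Fin 2) : ℕ) =
      (y : X ⧸ frattini X) ^ ((0 : Fin 2) : ℕ) * (c : X ⧸ frattini X) ^ ((0 : Fin 2) : ℕ)
    simp [hyc1]
  exact absurd (ff_inj h h1) (by decide)

theorem not_mem_cy (h : Hyp c y α r) : c * y⁻¹ ∉ frattini X := by
  intro hcy
  have hcy1 : (c : X ⧸ frattini X) = (y : X ⧸ frattini X) := by
    have h2 : (c : X ⧸ frattini X) * (y : X ⧸ frattini X)⁻¹ = 1 := by
      rw [← QuotientGroup.mk_inv, ← QuotientGroup.mk_mul]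
      exact (QuotientGroup.eq_one_iff _).mpr hcy
    exact mul_inv_eq_one.mp h2
  have h1 : ff (frattini X) c y (0, 1) = ff (frattini X) c y (1, 0) := by
    show (y : X ⧸ frattini X) ^ ((0 : Fin 2) : ℕ) * (c : X ⧸ frattini X) ^ ((1 : Fin 2) : ℕ) =
      (y : X ⧸ frattini X) ^ ((1 : Fin 2) : ℕ) * (c : X ⧸ frattini X) ^ ((0 : Fin 2) : ℕ)
    simp [hcy1]
  exact absurd (ff_inj h h1) (by decide)

/-- Elements whose `2^m`-th power lies in the commutator subgroup. -/
def T (X : Type*) [Group X] (m : ℕ) : Subgroup X :=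
  ((powMonoidHom (2 ^ m) : Abelianization X →* Abelianization X).ker).comap Abelianization.of

theorem mem_T (m : ℕ) (g : X) : g ∈ T X m ↔ g ^ 2 ^ m ∈ commutator X := by
  unfold T
  rw [Subgroup.mem_comap, MonoidHom.mem_ker, powMonoidHom_apply, ← map_pow, ← MonoidHom.mem_ker,
    Abelianization.ker_of]

theorem T_inv (α : MulAut X) (m : ℕ) (g : X) (hg : g ∈ T X m) : α g ∈ T X m := by
  haveI := comm_char (X := X)
  rw [mem_T] at hg ⊢
  rw [← map_pow]
  exact (char_iff (commutator X) α _).mpr hg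

theorem exists_n (h : Hyp c y α r) : ∃ n : ℕ, c ^ 2 ^ (n + 1) ∈ commutator X ∧
    y ^ 2 ^ (n + 1) ∈ commutator X ∧ c ^ 2 ^ n ∉ commutator X ∧ y ^ 2 ^ n ∉ commutator X := by
  classical
  have hex : ∃ m : ℕ, T X m = ⊤ := by
    obtain ⟨m, hm⟩ := IsPGroup.iff_card.mp h.pg
    refine ⟨m, ?_⟩
    rw [eq_top_iff]
    intro g _
    rw [mem_T, ← hm, pow_card_eq_one']
    exact one_mem _
  have hν := Nat.find_spec hex
  have hmin : ∀ m, m < Nat.find hex → T X m ≠ ⊤ := fun m hm => Nat.find_min hex hm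
  have hν0 : Nat.find hex ≠ 0 := by
    intro h0
    rw [h0] at hν
    have hy : y ∈ T X 0 := by rw [hν]; exact Subgroup.mem_top y
    rw [mem_T, pow_zero, pow_one] at hy
    exact not_mem_y h (commutator_le_frattini h.pg hy)
  obtain ⟨n, hn⟩ : ∃ n, Nat.find hex = n + 1 := ⟨Nat.find hex - 1, by omega⟩
  rw [hn] at hν
  have hTn : T X n ≠ ⊤ := hmin n (by omega)
  have hall : ∀ g : X, g ^ 2 ^ (n + 1) ∈ commutator X := by
    intro g
    rw [← mem_T, hν]; exact Subgroup.mem_top g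
  refine ⟨n, hall c, hall y, ?_, ?_⟩
  · intro hc
    exact hTn (star2 h (T X n) (T_inv α n) ((mem_T n c).mpr hc) (not_mem_c h))
  · intro hy
    exact hTn (star2 h (T X n) (T_inv α n) ((mem_T n y).mpr hy) (not_mem_y h))

theorem exists_invol_pow (hX : IsPGroup 2 X) (g : X) (hg : g ≠ 1) :
    ∃ e ∈ Subgroup.zpowers g, e ^ 2 = 1 ∧ e ≠ 1 := by
  obtain ⟨k, hk⟩ := hX g
  obtain ⟨j, -, hj⟩ := (Nat.dvd_prime_pow Nat.prime_two).mp (orderOf_dvd_of_pow_eq_one hk)
  have hj0 : j ≠ 0 := by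
    intro h0
    rw [h0, pow_zero, orderOf_eq_one_iff] at hj
    exact hg hj
  obtain ⟨i, rfl⟩ : ∃ i, j = i + 1 := ⟨j - 1, by omega⟩
  refine ⟨g ^ 2 ^ i, Subgroup.pow_mem _ (Subgroup.mem_zpowers g) _, ?_, ?_⟩
  · rw [← pow_mul, ← pow_succ, ← hj]; exact pow_orderOf_eq_one g
  · intro h1
    have h2 := orderOf_dvd_of_pow_eq_one h1
    rw [hj] at h2
    have h3 := Nat.le_of_dvd (by positivity) h2
    rw [pow_succ] at h3
    have h4 : 0 < 2 ^ i := by positivity
    linarith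

theorem invol_unique (c e e' : X) (he : e ∈ Subgroup.zpowers c) (he' : e' ∈ Subgroup.zpowers c)
    (h1 : e ^ 2 = 1) (h2 : e ≠ 1) (h1' : e' ^ 2 = 1) (h2' : e' ≠ 1) : e = e' := by
  classical
  by_contra hne
  haveI : Fintype ↥(Subgroup.zpowers c) := Fintype.ofFinite _
  have hsub : ({1, ⟨e, he⟩, ⟨e', he'⟩} : Finset ↥(Subgroup.zpowers c)) ⊆
      Finset.univ.filter (fun a : ↥(Subgroup.zpowers c) => a ^ 2 = 1) := by
    intro a ha
    simp only [Finset.mem_insert, Finset.mem_singleton] at ha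
    rw [Finset.mem_filter]
    refine ⟨Finset.mem_univ _, ?_⟩
    rcases ha with rfl | rfl | rfl
    · exact one_pow 2
    · exact Subtype.ext h1
    · exact Subtype.ext h1'
  have hcard : ({1, ⟨e, he⟩, ⟨e', he'⟩} : Finset ↥(Subgroup.zpowers c)).card = 3 :=
    Finset.card_eq_three.mpr ⟨1, ⟨e, he⟩, ⟨e', he'⟩,
      fun h => h2 (congrArg Subtype.val h).symm,
      fun h => h2' (congrArg Subtype.val h).symm,
      fun h => hne (congrArg Subtype.val h), rfl⟩
  have hcard3 : 3 ≤ (Finset.univ.filter (fun a : ↥(Subgroup.zpowers c) => a ^ 2 = 1)).card := by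
    rw [← hcard]; exact Finset.card_le_card hsub
  have hle : (Finset.univ.filter (fun a : ↥(Subgroup.zpowers c) => a ^ 2 = 1)).card ≤ 2 := by
    convert IsCyclic.card_pow_eq_one_le (α := ↥(Subgroup.zpowers c)) (n := 2) (by norm_num)
  omega

theorem abelian_case (h : Hyp c y α r) (hab : ∀ a b : X, a * b = b * a) :
    ∃ n : ℕ, Nonempty (X ≃* Multiplicative (ZMod (2 ^ n)) × Multiplicative (ZMod (2 ^ n))) := by
  obtain ⟨n, hc1, hy1, hc2, hy2⟩ := exists_n h
  have hbot : commutator X = ⊥ := by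
    rw [eq_bot_iff, commutator_def, Subgroup.commutator_le]
    intro a _ b _
    rw [Subgroup.mem_bot, commutatorElement_eq_one_iff_mul_comm]
    exact hab a b
  rw [hbot, Subgroup.mem_bot] at hc1 hy1 hc2 hy2
  have hoc : orderOf c = 2 ^ (n + 1) := orderOf_eq_prime_pow hc2 hc1
  have hoy : orderOf y = 2 ^ (n + 1) := orderOf_eq_prime_pow hy2 hy1
  have hint : ∀ g : X, g ∈ Subgroup.zpowers c → g ∈ Subgroup.zpowers y → g = 1 := by
    intro g hgc hgy
    by_contra hg
    obtain ⟨e, he, he2, he1⟩ := exists_invol_pow h.pg g hg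
    have hec : e ∈ Subgroup.zpowers c := (Subgroup.zpowers_le.mpr hgc) he
    have hey : e ∈ Subgroup.zpowers y := (Subgroup.zpowers_le.mpr hgy) he
    have hcc : (c ^ 2 ^ n) ^ 2 = 1 := by rw [← pow_mul, ← pow_succ]; exact hc1
    have hyy : (y ^ 2 ^ n) ^ 2 = 1 := by rw [← pow_mul, ← pow_succ]; exact hy1
    have h1 : e = c ^ 2 ^ n :=
      invol_unique c e _ hec (Subgroup.pow_mem _ (Subgroup.mem_zpowers c) _) he2 he1 hcc hc2
    have h2 : e = y ^ 2 ^ n :=
      invol_unique y e _ hey (Subgroup.pow_mem _ (Subgroup.mem_zpowers y) _) he2 he1 hyy hy2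
    have h3 : (c * y⁻¹) ^ 2 ^ n = 1 := by
      have hcomm : Commute c y⁻¹ := hab c y⁻¹
      rw [hcomm.mul_pow, inv_pow, ← h1, ← h2, mul_inv_cancel]
    have h4 : c * y⁻¹ ∈ T X n := by rw [mem_T, h3]; exact one_mem _
    have h5 := star2 h (T X n) (T_inv α n) h4 (not_mem_cy h)
    have h6 : c ∈ T X n := by rw [h5]; exact Subgroup.mem_top c
    rw [mem_T, hbot, Subgroup.mem_bot] at h6
    exact hc2 h6
  let ψ : ↥(Subgroup.zpowers c) × ↥(Subgroup.zpowers y) →* X :=
    MonoidHom.mk' (fun p => (p.1 : X) * (p.2 : X)) (by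
      intro p q
      show ((p.1 : X) * (q.1 : X)) * ((p.2 : X) * (q.2 : X)) =
        ((p.1 : X) * (p.2 : X)) * ((q.1 : X) * (q.2 : X))
      calc ((p.1 : X) * (q.1 : X)) * ((p.2 : X) * (q.2 : X))
          = (p.1 : X) * ((q.1 : X) * (p.2 : X)) * (q.2 : X) := by group
        _ = (p.1 : X) * ((p.2 : X) * (q.1 : X)) * (q.2 : X) := by rw [hab (q.1 : X) (p.2 : X)]
        _ = ((p.1 : X) * (p.2 : X)) * ((q.1 : X) * (q.2 : X)) := by group)
  have hinj : Function.Injective ψ := by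
    rw [injective_iff_map_eq_one]
    intro p hp
    have hp' : (p.1 : X) * (p.2 : X) = 1 := hp
    have h1 : (p.1 : X) = ((p.2 : X))⁻¹ := eq_inv_of_mul_eq_one_left hp'
    have h2 : (p.1 : X) = 1 := hint _ p.1.2 (by rw [h1]; exact inv_mem p.2.2)
    have h3 : (p.2 : X) = 1 := by rw [h2, one_mul] at hp'; exact hp'
    exact Prod.ext (Subtype.ext h2) (Subtype.ext h3)
  have hsurj : Function.Surjective ψ := by
    intro g
    obtain ⟨i, j, rfl⟩ := h.form g
    refine ⟨(⟨c ^ j, Subgroup.pow_mem _ (Subgroup.mem_zpowers c) _⟩,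
      ⟨y ^ i, Subgroup.pow_mem _ (Subgroup.mem_zpowers y) _⟩), ?_⟩
    show c ^ j * y ^ i = y ^ i * c ^ j
    exact hab _ _
  have e1 : Nonempty (↥(Subgroup.zpowers c) ≃* Multiplicative (ZMod (2 ^ (n + 1)))) := by
    have hcard : Nat.card ↥(Subgroup.zpowers c) = 2 ^ (n + 1) := by rw [Nat.card_zpowers, hoc]
    have e := zmodCyclicMulEquiv (G := ↥(Subgroup.zpowers c)) inferInstance
    rw [hcard] at e
    exact ⟨e.symm⟩
  have e2 : Nonempty (↥(Subgroup.zpowers y) ≃* Multiplicative (ZMod (2 ^ (n + 1)))) := by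
    have hcard : Nat.card ↥(Subgroup.zpowers y) = 2 ^ (n + 1) := by rw [Nat.card_zpowers, hoy]
    have e := zmodCyclicMulEquiv (G := ↥(Subgroup.zpowers y)) inferInstance
    rw [hcard] at e
    exact ⟨e.symm⟩
  obtain ⟨e1⟩ := e1
  obtain ⟨e2⟩ := e2
  exact ⟨n + 1, ⟨(MulEquiv.ofBijective ψ ⟨hinj, hsurj⟩).symm.trans (MulEquiv.prodCongr e1 e2)⟩⟩

theorem pow_mul_Sq {z : X} (hgen : ∀ u ∈ commutator X, ∃ k : ℕ, u = z ^ k)
    (hcent : ∀ u ∈ commutator X, ∀ g : X, u * g = g * u) (N : ℕ) (g h : X) :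
    ∃ s ∈ Subgroup.zpowers (z ^ 2),
      (g * h) ^ 2 ^ (N + 2) = g ^ 2 ^ (N + 2) * h ^ 2 ^ (N + 2) * s := by
  have hw : ⁅h⁻¹, g⁻¹⁆ ∈ commutator X := Cfsg.Agent.Helper8.Meta.comm_mem_commutator _ _
  obtain ⟨k, hk⟩ := hgen _ hw
  have hyx : h * g = g * h * ⁅h⁻¹, g⁻¹⁆ := by rw [commutatorElement_def]; group
  have h1 := Cfsg.Agent.S1452.mul_pow_of_comm g h ⁅h⁻¹, g⁻¹⁆ hyx (hcent _ hw g) (hcent _ hw h)
    (2 ^ (N + 2))
  refine ⟨_, ?_, h1⟩
  have h2 := Finset.sum_range_id_mul_two (2 ^ (N + 2))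
  have h3 : (∑ i ∈ Finset.range (2 ^ (N + 2)), i) = 2 * (2 ^ N * (2 ^ (N + 2) - 1)) := by
    refine Nat.eq_of_mul_eq_mul_right (by norm_num : 0 < 2) ?_
    rw [h2]
    generalize 2 ^ (N + 2) - 1 = m'
    ring
  rw [h3, hk]
  have h4 : (z ^ k) ^ (2 * (2 ^ N * (2 ^ (N + 2) - 1))) =
      (z ^ 2) ^ (k * (2 ^ N * (2 ^ (N + 2) - 1))) := by
    rw [← pow_mul, ← pow_mul]; congr 1; ring
  rw [h4]
  exact Subgroup.pow_mem _ (Subgroup.mem_zpowers _) _

theorem sq_prod {z : X} (hgen : ∀ u ∈ commutator X, ∃ k : ℕ, u = z ^ k) {u v : X}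
    (hu : u ∈ commutator X) (hv : v ∈ commutator X) (hu2 : u ∉ Subgroup.zpowers (z ^ 2))
    (hv2 : v ∉ Subgroup.zpowers (z ^ 2)) : u * v ∈ Subgroup.zpowers (z ^ 2) := by
  obtain ⟨a, rfl⟩ := hgen u hu
  obtain ⟨b, rfl⟩ := hgen v hv
  have ha : a % 2 = 1 := by
    by_contra hcon
    apply hu2
    have h1 : a = 2 * (a / 2) := by omega
    rw [h1, pow_mul]
    exact Subgroup.pow_mem _ (Subgroup.mem_zpowers _) _
  have hb : b % 2 = 1 := by
    by_contra hcon
    apply hv2
    have h1 : b = 2 * (b / 2) := by omega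
    rw [h1, pow_mul]
    exact Subgroup.pow_mem _ (Subgroup.mem_zpowers _) _
  have h1 : a + b = 2 * ((a + b) / 2) := by omega
  rw [← pow_add, h1, pow_mul]
  exact Subgroup.pow_mem _ (Subgroup.mem_zpowers _) _

theorem nonabelian_case (h : Hyp c y α r) (hN : commutator X ≤ Subgroup.zpowers c)
    (hna : ¬ ∀ a b : X, a * b = b * a) : (commutator X).index = 4 := by
  haveI := comm_char (X := X)
  have hcent : ∀ u ∈ commutator X, ∀ g : X, u * g = g * u := by
    have hC : Subgroup.centralizer (commutator X : Set X) = ⊤ := by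
      refine star2 h _ ?_ (g0 := c) ?_ (not_mem_c h)
      · intro g hg
        rw [Subgroup.mem_centralizer_iff] at hg ⊢
        intro u hu
        have hu' : α⁻¹ u ∈ commutator X := (char_iff (commutator X) α⁻¹ u).mpr hu
        have h1 := hg _ hu'
        have h2 := congrArg α h1
        rw [map_mul, map_mul, MulAut.apply_inv_self] at h2
        exact h2
      · rw [Subgroup.mem_centralizer_iff]
        intro u hu
        exact Cfsg.Agent.S1236.zp_comm c u c (hN hu) (Subgroup.mem_zpowers c)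
    intro u hu g
    have hg : g ∈ Subgroup.centralizer (commutator X : Set X) := by
      rw [hC]; exact Subgroup.mem_top g
    rw [Subgroup.mem_centralizer_iff] at hg
    exact hg u hu
  obtain ⟨z, hzmem, hgen⟩ : ∃ z : X, z ∈ commutator X ∧
      ∀ u ∈ commutator X, ∃ k : ℕ, u = z ^ k := by
    haveI : IsCyclic ↥((commutator X).subgroupOf (Subgroup.zpowers c)) := inferInstance
    haveI : IsCyclic ↥(commutator X) :=
      (Subgroup.subgroupOfEquivOfLe hN).isCyclic.mp inferInstance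
    obtain ⟨z, hz⟩ := IsCyclic.exists_generator (α := ↥(commutator X))
    refine ⟨z, z.2, fun u hu => ?_⟩
    obtain ⟨k, hk⟩ := Cfsg.Agent.Helper8.Meta.exists_pow_of_mem_zpowers (hz ⟨u, hu⟩)
    exact ⟨k, by simpa using (congrArg Subtype.val hk).symm⟩
  have hne : ∃ u ∈ commutator X, u ≠ 1 := by
    by_contra hcon
    apply hna
    intro a b
    have h1 : ⁅a, b⁆ ∈ commutator X := Cfsg.Agent.Helper8.Meta.comm_mem_commutator a b
    have h2 : ⁅a, b⁆ = 1 := by
      by_contra h3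
      exact hcon ⟨_, h1, h3⟩
    exact commutatorElement_eq_one_iff_mul_comm.mp h2
  obtain ⟨u0, hu0, hu01⟩ := hne
  obtain ⟨e, he, he2, he1⟩ := exists_invol_pow h.pg u0 hu01
  have heX : e ∈ commutator X := (Subgroup.zpowers_le.mpr hu0) he
  obtain ⟨n, hc1, hy1, hc2, hy2⟩ := exists_n h
  have hcS : c ^ 2 ^ (n + 1) ∉ Subgroup.zpowers (z ^ 2) := by
    intro hmem
    obtain ⟨k, hk⟩ := Cfsg.Agent.Helper8.Meta.exists_pow_of_mem_zpowers hmem
    have huX : z ^ k ∈ commutator X := pow_mem hzmem k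
    have huc : z ^ k ∈ Subgroup.zpowers c := hN huX
    have hcomm : Commute (c ^ 2 ^ n) (z ^ k)⁻¹ :=
      Cfsg.Agent.S1236.zp_comm c (c ^ 2 ^ n) (z ^ k)⁻¹
        (Subgroup.pow_mem _ (Subgroup.mem_zpowers c) _) (inv_mem huc)
    have hw2 : (c ^ 2 ^ n * (z ^ k)⁻¹) ^ 2 = 1 := by
      rw [hcomm.mul_pow, ← pow_mul, ← pow_succ, inv_pow, ← pow_mul, mul_comm k 2, pow_mul, hk,
        mul_inv_cancel]
    have hw1 : c ^ 2 ^ n * (z ^ k)⁻¹ ≠ 1 := by
      intro h1
      apply hc2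
      have h2 : c ^ 2 ^ n = z ^ k := mul_inv_eq_one.mp h1
      rw [h2]; exact huX
    have hwc : c ^ 2 ^ n * (z ^ k)⁻¹ ∈ Subgroup.zpowers c :=
      mul_mem (Subgroup.pow_mem _ (Subgroup.mem_zpowers c) _) (inv_mem huc)
    have hwe := invol_unique c _ e hwc (hN heX) hw2 hw1 he2 he1
    apply hc2
    have h3 : c ^ 2 ^ n = e * z ^ k := by
      rw [← hwe]; exact (inv_mul_cancel_right _ _).symm
    rw [h3]
    exact mul_mem heX huX
  have hn0 : n = 0 := by
    by_contra hn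
    obtain ⟨N, rfl⟩ : ∃ N, n = N + 1 := ⟨n - 1, by omega⟩
    have hc1' : c ^ 2 ^ (N + 2) ∈ commutator X := hc1
    have hy1' : y ^ 2 ^ (N + 2) ∈ commutator X := hy1
    have hcS' : c ^ 2 ^ (N + 2) ∉ Subgroup.zpowers (z ^ 2) := hcS
    let K1 : Subgroup X :=
      { carrier := {g | g ^ 2 ^ (N + 2) ∈ Subgroup.zpowers (z ^ 2)}
        mul_mem' := by
          intro a b ha hb
          have ha' : a ^ 2 ^ (N + 2) ∈ Subgroup.zpowers (z ^ 2) := ha
          have hb' : b ^ 2 ^ (N + 2) ∈ Subgroup.zpowers (z ^ 2) := hb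
          obtain ⟨s, hs, hab⟩ := pow_mul_Sq hgen hcent N a b
          show (a * b) ^ 2 ^ (N + 2) ∈ Subgroup.zpowers (z ^ 2)
          rw [hab]
          exact mul_mem (mul_mem ha' hb') hs
        one_mem' := by
          show (1 : X) ^ 2 ^ (N + 2) ∈ Subgroup.zpowers (z ^ 2)
          rw [one_pow]; exact one_mem _
        inv_mem' := by
          intro a ha
          have ha' : a ^ 2 ^ (N + 2) ∈ Subgroup.zpowers (z ^ 2) := ha
          show (a⁻¹) ^ 2 ^ (N + 2) ∈ Subgroup.zpowers (z ^ 2)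
          rw [inv_pow]; exact inv_mem ha' }
    have hK1 : ∀ g, g ∈ K1 ↔ g ^ 2 ^ (N + 2) ∈ Subgroup.zpowers (z ^ 2) := fun g => Iff.rfl
    have hK1inv : ∀ g ∈ K1, α g ∈ K1 := by
      intro g hg
      rw [hK1] at hg ⊢
      obtain ⟨k, hk⟩ := Cfsg.Agent.Helper8.Meta.exists_pow_of_mem_zpowers hg
      rw [← map_pow, ← hk, map_pow, map_pow]
      obtain ⟨j, hj⟩ := hgen (α z) ((char_iff (commutator X) α z).mpr hzmem)
      have hjj : (z ^ j) ^ 2 = (z ^ 2) ^ j := by rw [← pow_mul, ← pow_mul, mul_comm]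
      rw [hj, hjj]
      exact Subgroup.pow_mem _ (Subgroup.pow_mem _ (Subgroup.mem_zpowers _) _) _
    have hcK : c ∉ K1 := fun hc => hcS' ((hK1 c).mp hc)
    by_cases hyS : y ^ 2 ^ (N + 2) ∈ Subgroup.zpowers (z ^ 2)
    · have htop := star2 h K1 hK1inv (g0 := y) ((hK1 y).mpr hyS) (not_mem_y h)
      apply hcK; rw [htop]; exact Subgroup.mem_top c
    · have hprod := sq_prod hgen hy1' hc1' hyS hcS'
      obtain ⟨s, hs, hyc⟩ := pow_mul_Sq hgen hcent N y c
      have hycK : y * c ∈ K1 := by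
        rw [hK1, hyc]
        exact mul_mem hprod hs
      have htop := star2 h K1 hK1inv hycK (not_mem_yc h)
      apply hcK; rw [htop]; exact Subgroup.mem_top c
  subst hn0
  have hc1' : c ^ 2 ∈ commutator X := by simpa using hc1
  have hy1' : y ^ 2 ∈ commutator X := by simpa using hy1
  have hle := index_le_four (commutator X) c y hc1' hy1' h.form
  have hdvd : (frattini X).index ∣ (commutator X).index :=
    Subgroup.index_dvd_of_le (commutator_le_frattini h.pg)
  rw [frat_index h] at hdvd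
  have hne0 : (commutator X).index ≠ 0 := Subgroup.index_ne_zero_of_finite
  have h5 := Nat.le_of_dvd (Nat.pos_of_ne_zero hne0) hdvd
  omega

end Cfsg.Agent.Helper8.MetaAut
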