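import Mathlib
import Cfsg.Agent.Helper8.MetaAut

set_option autoImplicit false

/-! # The monomial group of `F_q²` and its automorphisms (basic calculus) -/

namespace Cfsg.Agent.Helper8.MonoAut

/-- The ambient group. -/
abbrev E (q : ℕ) := (Fin 2 → ZMod q) ≃ₗ[ZMod q] (Fin 2 → ZMod q)

variable {q : ℕ} [Fact q.Prime]

/-- Diagonal form. -/
def IsD (f : E q) (a s : ZMod q) : Prop := ∀ v, f v = ![a * v 0, s * a⁻¹ * v 1]

/-- Antidiagonal form. -/
def IsW (f : E q) (a s : ZMod q) : Prop := ∀ v, f v = ![s * a⁻¹ * v 1, a * v 0]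

theorem finite_E : Finite (E q) :=
  Finite.of_injective (fun f : E q => (f : (Fin 2 → ZMod q) → (Fin 2 → ZMod q)))
    DFunLike.coe_injective

theorem finite_mulAut (X : Type*) [Group X] [Finite X] : Finite (MulAut X) :=
  Finite.of_injective (fun f : MulAut X => (f : X → X)) DFunLike.coe_injective

theorem isD_one : IsD (1 : E q) 1 1 := by
  intro v
  funext i
  fin_cases i <;> simp

theorem isD_mul {f g : E q} {a s b t : ZMod q} (hf : IsD f a s) (hg : IsD g b t) :
    IsD (f * g) (a * b) (s * t) := by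
  intro v
  rw [LinearEquiv.mul_apply, hg v, hf]
  funext i
  fin_cases i
  · simp [mul_assoc]
  · simp [mul_inv]; ring

theorem isW_mul_isW {f g : E q} {a s b t : ZMod q} (hf : IsW f a s) (hg : IsW g b t)
    (hs : s = 1 ∨ s = -1) : IsD (f * g) (s * a⁻¹ * b) (s * t) := by
  intro v
  rw [LinearEquiv.mul_apply, hg v, hf]
  funext i
  fin_cases i
  · simp [mul_assoc]
  · rcases hs with rfl | rfl
    · simp [mul_inv]; ring
    · simp [mul_inv]; ring

theorem isD_mul_isW {f g : E q} {a s b t : ZMod q} (hf : IsD f a s) (hg : IsW g b t)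
    (hs : s = 1 ∨ s = -1) : IsW (f * g) (s * a⁻¹ * b) (s * t) := by
  intro v
  rw [LinearEquiv.mul_apply, hg v, hf]
  funext i
  fin_cases i
  · rcases hs with rfl | rfl
    · simp [mul_inv]; ring
    · simp [mul_inv]; ring
  · simp [mul_assoc]

theorem isW_mul_isD {f g : E q} {a s b t : ZMod q} (hf : IsW f a s) (hg : IsD g b t) :
    IsW (f * g) (a * b) (s * t) := by
  intro v
  rw [LinearEquiv.mul_apply, hg v, hf]
  funext i
  fin_cases i
  · simp [mul_inv]; ring
  · simp [mul_assoc]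

theorem not_isD_isW {f : E q} {a s b t : ZMod q} (hf : IsD f a s) (hg : IsW f b t)
    (ha : a ≠ 0) : False := by
  have h1 := hf ![1, 0]
  rw [hg] at h1
  have h2 := congrFun h1 0
  simp at h2
  exact ha h2.symm

theorem isD_unique {f : E q} {a s b t : ZMod q} (hf : IsD f a s) (hg : IsD f b t)
    (ha : a ≠ 0) : a = b ∧ s = t := by
  have h1 := hf ![1, 0]
  rw [hg] at h1
  have h2 := congrFun h1 0
  simp at h2
  have h3 := hf ![0, 1]
  rw [hg] at h3
  have h4 := congrFun h3 1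
  simp at h4
  refine ⟨h2.symm, ?_⟩
  rw [h2] at h4
  have ha' : a⁻¹ ≠ 0 := inv_ne_zero ha
  exact (mul_right_cancel₀ ha' h4).symm

theorem isW_unique {f : E q} {a s b t : ZMod q} (hf : IsW f a s) (hg : IsW f b t)
    (ha : a ≠ 0) : a = b ∧ s = t := by
  have h1 := hf ![1, 0]
  rw [hg] at h1
  have h2 := congrFun h1 1
  simp at h2
  have h3 := hf ![0, 1]
  rw [hg] at h3
  have h4 := congrFun h3 0
  simp at h4
  refine ⟨h2.symm, ?_⟩
  rw [h2] at h4
  have ha' : a⁻¹ ≠ 0 := inv_ne_zero ha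
  exact (mul_right_cancel₀ ha' h4).symm

theorem isD_ext {f g : E q} {a s : ZMod q} (hf : IsD f a s) (hg : IsD g a s) : f = g :=
  LinearEquiv.ext fun v => by rw [hf v, hg v]

theorem isW_ext {f g : E q} {a s : ZMod q} (hf : IsW f a s) (hg : IsW g a s) : f = g :=
  LinearEquiv.ext fun v => by rw [hf v, hg v]

theorem isD_inv {f : E q} {a s : ZMod q} (hf : IsD f a s) (ha : a ≠ 0)
    (hs : s = 1 ∨ s = -1) : IsD f⁻¹ a⁻¹ s := by
  intro v
  apply f.injective
  have h1 : f (f⁻¹ v) = v := by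
    rw [← LinearEquiv.mul_apply, mul_inv_cancel]; rfl
  rw [h1, hf]
  funext i
  fin_cases i
  · simp [ha]
  · rcases hs with rfl | rfl
    · simp [ha]
    · simp [ha]

theorem isW_inv {f : E q} {a s : ZMod q} (hf : IsW f a s) (ha : a ≠ 0)
    (hs : s = 1 ∨ s = -1) : IsW f⁻¹ (s * a) s := by
  intro v
  apply f.injective
  have h1 : f (f⁻¹ v) = v := by
    rw [← LinearEquiv.mul_apply, mul_inv_cancel]; rfl
  rw [h1, hf]
  funext i
  fin_cases i
  · rcases hs with rfl | rfl
    · simp [ha]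
    · simp [ha]
  · rcases hs with rfl | rfl
    · simp [ha]
    · simp [ha]

theorem isD_pow {f : E q} {a s : ZMod q} (hf : IsD f a s) (n : ℕ) :
    IsD (f ^ n) (a ^ n) (s ^ n) := by
  induction n with
  | zero => simpa using (isD_one (q := q))
  | succ n ih =>
    rw [pow_succ, pow_succ, pow_succ]
    exact isD_mul ih hf

theorem exists_isD (a s : ZMod q) (ha : a ≠ 0) (hs : s = 1 ∨ s = -1) :
    ∃ f : E q, IsD f a s := by
  have hs0 : s ≠ 0 := by
    rcases hs with rfl | rfl
    · exact one_ne_zero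
    · exact neg_ne_zero.mpr one_ne_zero
  let u : Fin 2 → (ZMod q)ˣ := ![Units.mk0 a ha, Units.mk0 (s * a⁻¹) (mul_ne_zero hs0 (inv_ne_zero ha))]
  refine ⟨LinearEquiv.piCongrRight (fun i => LinearEquiv.smulOfUnit (u i)), ?_⟩
  intro v
  funext i
  fin_cases i
  · simp [u, LinearEquiv.smulOfUnit, Units.smul_def]
  · simp [u, LinearEquiv.smulOfUnit, Units.smul_def]

theorem exists_isW (a s : ZMod q) (ha : a ≠ 0) (hs : s = 1 ∨ s = -1) :
    ∃ f : E q, IsW f a s := by
  obtain ⟨d, hd⟩ := exists_isD (q := q) (s * a⁻¹) s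
    (by
      rcases hs with rfl | rfl
      · simpa using ha
      · simpa using ha) hs
  refine ⟨d * LinearEquiv.funCongrLeft (ZMod q) (ZMod q) (Equiv.swap (0 : Fin 2) 1), ?_⟩
  intro v
  rw [LinearEquiv.mul_apply, hd]
  funext i
  fin_cases i
  · simp [LinearEquiv.funCongrLeft]
  · rcases hs with rfl | rfl
    · simp [LinearEquiv.funCongrLeft]
    · simp [LinearEquiv.funCongrLeft]

/-- A finite group without elements of odd prime order is a `2`-group. -/
theorem isPGroup_two_of {G : Type*} [Group G] [Finite G]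
    (h : ∀ (g : G) (r : ℕ), r.Prime → Odd r → g ^ r = 1 → g = 1) : IsPGroup 2 G := by
  intro g
  have hn : orderOf g ≠ 0 := (orderOf_pos g).ne'
  have h2 : ∀ {r : ℕ}, r.Prime → r ∣ orderOf g → r = 2 := by
    intro r hr hdvd
    by_contra hne
    have hodd : Odd r := hr.odd_of_ne_two hne
    obtain ⟨k, hk⟩ := hdvd
    have h1 := h (g ^ k) r hr hodd (by rw [← pow_mul, mul_comm, ← hk, pow_orderOf_eq_one])
    have h3 := orderOf_dvd_of_pow_eq_one h1
    rw [hk] at h3
    have hk0 : k ≠ 0 := by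
      rintro rfl
      rw [mul_zero] at hk
      exact hn hk
    have hk1 : 0 < k := Nat.pos_of_ne_zero hk0
    have h4 := Nat.le_of_dvd hk1 h3
    have h5 := hr.two_le
    nlinarith
  refine ⟨(orderOf g).primeFactorsList.length, ?_⟩
  rw [← Nat.eq_prime_pow_of_unique_prime_dvd hn h2]
  exact pow_orderOf_eq_one g

/-- One step of the unipotent argument. -/
theorem step {X : Type*} [Group X] [Finite X] (hX : IsPGroup 2 X) (α : MulAut X) {r : ℕ}
    (hrodd : Odd r) (hpow : α ^ r = 1) (g : X)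
    (h : (g⁻¹ * α g)⁻¹ * α (g⁻¹ * α g) ∈ frattini X) : g⁻¹ * α g ∈ frattini X := by
  have hcomap : frattini X ≤ (frattini X).comap α.toMonoidHom :=
    fun x hx => (MetaAut.char_iff (frattini X) α x).mpr hx
  obtain ⟨β, hβ⟩ : ∃ β : X ⧸ frattini X →* X ⧸ frattini X,
      ∀ w : X, β (w : X ⧸ frattini X) = ((α w : X) : X ⧸ frattini X) :=
    ⟨QuotientGroup.map _ _ α.toMonoidHom hcomap, fun w => rfl⟩
  obtain ⟨d, hd⟩ : ∃ d : X, d = g⁻¹ * α g := ⟨_, rfl⟩
  rw [← hd] at h
  have hπd : ((α d : X) : X ⧸ frattini X) = (d : X ⧸ frattini X) :=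
    (QuotientGroup.eq.mpr h).symm
  have hgd : ((α g : X) : X ⧸ frattini X) = (g : X ⧸ frattini X) * (d : X ⧸ frattini X) := by
    rw [← QuotientGroup.mk_mul, hd, mul_inv_cancel_left]
  have hC : ∀ k : ℕ, (((α ^ k) g : X) : X ⧸ frattini X) =
      (g : X ⧸ frattini X) * (d : X ⧸ frattini X) ^ k := by
    intro k
    induction k with
    | zero => simp
    | succ k ih =>
      have e : α ^ (k + 1) = α * α ^ k := pow_succ' α k
      rw [e, MulAut.mul_apply, ← hβ, ih, map_mul, map_pow, hβ, hβ, hπd, hgd,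
        pow_succ' (d : X ⧸ frattini X) k, mul_assoc]
  have h5 := hC r
  rw [hpow, MulAut.one_apply] at h5
  have h6 : (d : X ⧸ frattini X) ^ r = 1 :=
    mul_left_cancel (a := (g : X ⧸ frattini X)) (by rw [mul_one]; exact h5.symm)
  have h7 : (d : X ⧸ frattini X) ^ 2 = 1 := by
    rw [← QuotientGroup.mk_pow]; exact (QuotientGroup.eq_one_iff _).mpr (MetaAut.sq_mem hX d)
  obtain ⟨t, ht⟩ := hrodd
  rw [ht, pow_succ, pow_mul, h7, one_pow, one_mul] at h6
  rw [← hd]
  exact (QuotientGroup.eq_one_iff _).mp h6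

end Cfsg.Agent.Helper8.MonoAut
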