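import Mathlib
import Cfsg.Agent.Helper8.MonoAut

set_option autoImplicit false

/-! # The monomial group of `F_q²`: automorphisms of odd order are trivial -/

namespace Cfsg.Agent.Helper8.MonoAut

variable {q : ℕ} [Fact q.Prime]

/-- The membership hypothesis. -/
def Mem (T : Subgroup (E q)) : Prop :=
  ∀ f, f ∈ T ↔ ∃ a s : ZMod q, a ≠ 0 ∧ (s = 1 ∨ s = -1) ∧
      ((∀ v, f v = ![a * v 0, s * a⁻¹ * v 1]) ∨ (∀ v, f v = ![s * a⁻¹ * v 1, a * v 0]))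

variable {T : Subgroup (E q)}

theorem cases_T (hT : Mem T) (x : ↥T) :
    ∃ a s : ZMod q, a ≠ 0 ∧ (s = 1 ∨ s = -1) ∧ (IsD (x : E q) a s ∨ IsW (x : E q) a s) :=
  (hT x.1).mp x.2

theorem mkD (hT : Mem T) (a s : ZMod q) (ha : a ≠ 0) (hs : s = 1 ∨ s = -1) :
    ∃ x : ↥T, IsD (x : E q) a s := by
  obtain ⟨f, hf⟩ := exists_isD a s ha hs
  exact ⟨⟨f, (hT f).mpr ⟨a, s, ha, hs, Or.inl hf⟩⟩, hf⟩

theorem mkW (hT : Mem T) (a s : ZMod q) (ha : a ≠ 0) (hs : s = 1 ∨ s = -1) :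
    ∃ x : ↥T, IsW (x : E q) a s := by
  obtain ⟨f, hf⟩ := exists_isW a s ha hs
  exact ⟨⟨f, (hT f).mpr ⟨a, s, ha, hs, Or.inr hf⟩⟩, hf⟩

theorem sign_sq {s : ZMod q} (hs : s = 1 ∨ s = -1) : s * s = 1 := by
  rcases hs with rfl | rfl <;> simp

theorem sign_ne {s : ZMod q} (hs : s = 1 ∨ s = -1) : s ≠ 0 := by
  rcases hs with rfl | rfl
  · exact one_ne_zero
  · exact neg_ne_zero.mpr one_ne_zero

theorem sign_mul {s t : ZMod q} (hs : s = 1 ∨ s = -1) (ht : t = 1 ∨ t = -1) :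
    s * t = 1 ∨ s * t = -1 := by
  rcases hs with rfl | rfl <;> rcases ht with rfl | rfl <;> simp

/-- Being a square in `T`. -/
def Sq (x : ↥T) : Prop := ∃ y : ↥T, x = y * y

theorem sq_inv_iff (α : MulAut ↥T) (x : ↥T) : Sq (α x) ↔ Sq x := by
  constructor
  · rintro ⟨y, hy⟩
    refine ⟨α⁻¹ y, ?_⟩
    rw [← map_mul, ← hy, MulAut.inv_apply_self]
  · rintro ⟨y, hy⟩
    exact ⟨α y, by rw [hy, map_mul]⟩

theorem sq_mem_frattini [Finite ↥T] (hX : IsPGroup 2 ↥T) {x : ↥T} (hx : Sq x) :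
    x ∈ frattini ↥T := by
  obtain ⟨y, rfl⟩ := hx
  rw [← pow_two]
  exact MetaAut.sq_mem hX y

/-- `T` is a `2`-group when `q - 1` is a power of `2` and `q` is odd. -/
theorem isPGroup_T (hT : Mem T) {m : ℕ} (hq : q = 2 ^ m + 1) (hm : 1 ≤ m) : IsPGroup 2 ↥T := by
  intro x
  obtain ⟨a, s, ha, hs, hD | hW⟩ := cases_T hT x
  · refine ⟨m, Subtype.ext ?_⟩
    rw [Subgroup.coe_pow]
    have h1 := isD_pow hD (2 ^ m)
    have h2 : a ^ 2 ^ m = 1 := by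
      have h3 := ZMod.pow_card_sub_one_eq_one ha
      have h4 : q - 1 = 2 ^ m := by rw [hq, Nat.add_sub_cancel]
      rw [h4] at h3
      exact h3
    have h5 : s ^ 2 ^ m = 1 := by
      obtain ⟨k, rfl⟩ : ∃ k, m = k + 1 := ⟨m - 1, by omega⟩
      rw [pow_succ, mul_comm, pow_mul, pow_two, sign_sq hs, one_pow]
    rw [h2, h5] at h1
    exact isD_ext h1 isD_one
  · refine ⟨2, Subtype.ext ?_⟩
    rw [Subgroup.coe_pow]
    have h2 := isW_mul_isW hW hW hs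
    have h3 := isD_mul h2 h2
    rw [inv_mul_cancel_right₀ ha, sign_sq hs, one_mul] at h3
    have h4 : (x : E q) ^ 2 ^ 2 = (x : E q) * (x : E q) * ((x : E q) * (x : E q)) := by
      rw [show (2 : ℕ) ^ 2 = 2 + 2 from rfl, pow_add, pow_two]
    rw [h4]
    exact isD_ext h3 isD_one

/-! ## The case `q = 3` -/

theorem sq_isD (hT : Mem T) {x : ↥T} (hx : Sq x) : ∃ a : ZMod q, a ≠ 0 ∧ IsD (x : E q) a 1 := by
  obtain ⟨y, rfl⟩ := hx
  obtain ⟨a, s, ha, hs, hD | hW⟩ := cases_T hT y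
  · have h2 := isD_mul hD hD
    rw [sign_sq hs] at h2
    exact ⟨a * a, mul_ne_zero ha ha, h2⟩
  · have h2 := isW_mul_isW hW hW hs
    rw [inv_mul_cancel_right₀ ha, sign_sq hs] at h2
    exact ⟨s, sign_ne hs, h2⟩

theorem o4_iff (hT : Mem T) (h3 : ∀ a : ZMod q, a ≠ 0 → a = 1 ∨ a = -1)
    (h1 : (1 : ZMod q) ≠ -1) (x : ↥T) :
    x * x ≠ 1 ↔ ∃ a : ZMod q, a ≠ 0 ∧ IsW (x : E q) a (-1) := by
  constructor
  · intro hx
    obtain ⟨a, s, ha, hs, hD | hW⟩ := cases_T hT x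
    · exfalso
      apply hx
      apply Subtype.ext
      have h2 := isD_mul hD hD
      rw [sign_sq (h3 a ha), sign_sq hs] at h2
      exact isD_ext h2 isD_one
    · rcases hs with rfl | rfl
      · exfalso
        apply hx
        apply Subtype.ext
        have h2 := isW_mul_isW hW hW (Or.inl rfl)
        rw [inv_mul_cancel_right₀ ha, one_mul] at h2
        exact isD_ext h2 isD_one
      · exact ⟨a, ha, hW⟩
  · rintro ⟨a, ha, hW⟩ hx
    have h2 := isW_mul_isW hW hW (Or.inr rfl)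
    rw [inv_mul_cancel_right₀ ha] at h2
    have h4 : ((x * x : ↥T) : E q) = 1 := by rw [hx]; rfl
    have h5 : IsD (1 : E q) (-1) (-1 * -1) := by rw [← h4]; exact h2
    have h6 := isD_unique isD_one h5 one_ne_zero
    exact h1 h6.1

theorem sq_iff_small (hT : Mem T) (h3 : ∀ a : ZMod q, a ≠ 0 → a = 1 ∨ a = -1) (x : ↥T) :
    Sq x ↔ ∃ a : ZMod q, a ≠ 0 ∧ IsD (x : E q) a 1 := by
  constructor
  · exact sq_isD hT
  · rintro ⟨a, ha, hD⟩
    rcases h3 a ha with rfl | rfl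
    · refine ⟨1, Subtype.ext ?_⟩
      rw [mul_one]
      exact isD_ext hD isD_one
    · obtain ⟨y, hy⟩ := mkW hT 1 (-1) one_ne_zero (Or.inr rfl)
      refine ⟨y, Subtype.ext ?_⟩
      have h2 := isW_mul_isW hy hy (Or.inr rfl)
      have e1 : (-1 : ZMod q) * 1⁻¹ * 1 = -1 := by simp
      have e2 : (-1 : ZMod q) * -1 = 1 := by simp
      rw [e1, e2] at h2
      exact isD_ext hD h2

theorem o4_inv (α : MulAut ↥T) (x : ↥T) : α x * α x ≠ 1 ↔ x * x ≠ 1 := by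
  rw [← map_mul, Ne, Ne, map_eq_one_iff α α.injective]

theorem small_d (hT : Mem T) (h3 : ∀ a : ZMod q, a ≠ 0 → a = 1 ∨ a = -1)
    (h1 : (1 : ZMod q) ≠ -1) (α : MulAut ↥T) (g : ↥T) :
    (g⁻¹ * α g) * (g⁻¹ * α g) ≠ 1 ∨ Sq (g⁻¹ * α g) := by
  have e2 : (-1 : ZMod q) * -1 = 1 := by simp
  obtain ⟨a, s, ha, hs, hD | hW⟩ := cases_T hT g
  · obtain ⟨b, t, hb, ht, hD' | hW'⟩ := cases_T hT (α g)
    · have h2 := isD_mul (isD_inv hD ha hs) hD'
      have hne : a⁻¹ * b ≠ 0 := mul_ne_zero (inv_ne_zero ha) hb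
      rcases hs with rfl | rfl
      · have hg : Sq g := (sq_iff_small hT h3 g).mpr ⟨a, ha, hD⟩
        obtain ⟨b', hb', hD''⟩ := (sq_iff_small hT h3 (α g)).mp ((sq_inv_iff α g).mpr hg)
        have h5 := isD_unique hD' hD'' hb
        rw [h5.2, one_mul] at h2
        exact Or.inr ((sq_iff_small hT h3 _).mpr ⟨a⁻¹ * b, hne, h2⟩)
      · rcases ht with rfl | rfl
        · exfalso
          have hg : Sq (α g) := (sq_iff_small hT h3 _).mpr ⟨b, hb, hD'⟩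
          obtain ⟨a', ha', hD''⟩ := (sq_iff_small hT h3 g).mp ((sq_inv_iff α g).mp hg)
          have h5 := isD_unique hD'' hD ha'
          exact h1 h5.2
        · rw [e2] at h2
          exact Or.inr ((sq_iff_small hT h3 _).mpr ⟨a⁻¹ * b, hne, h2⟩)
    · rcases ht with rfl | rfl
      · have h2 := isD_mul_isW (isD_inv hD ha hs) hW' hs
        rcases hs with rfl | rfl
        · exfalso
          have hg : Sq g := (sq_iff_small hT h3 g).mpr ⟨a, ha, hD⟩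
          obtain ⟨b', hb', hD''⟩ := (sq_iff_small hT h3 (α g)).mp ((sq_inv_iff α g).mpr hg)
          exact not_isD_isW hD'' hW' hb'
        · left
          rw [mul_one] at h2
          refine (o4_iff hT h3 h1 _).mpr ⟨_, ?_, h2⟩
          exact mul_ne_zero (mul_ne_zero (neg_ne_zero.mpr one_ne_zero)
            (inv_ne_zero (inv_ne_zero ha))) hb
      · exfalso
        have h5 : α g * α g ≠ 1 := (o4_iff hT h3 h1 _).mpr ⟨b, hb, hW'⟩
        obtain ⟨a', ha', hW''⟩ := (o4_iff hT h3 h1 g).mp ((o4_inv α g).mp h5)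
        exact not_isD_isW hD hW'' ha
  · obtain ⟨b, t, hb, ht, hD' | hW'⟩ := cases_T hT (α g)
    · have h2 := isW_mul_isD (isW_inv hW ha hs) hD'
      rcases hs with rfl | rfl
      · rcases ht with rfl | rfl
        · exfalso
          have hg : Sq (α g) := (sq_iff_small hT h3 _).mpr ⟨b, hb, hD'⟩
          obtain ⟨a', ha', hD''⟩ := (sq_iff_small hT h3 g).mp ((sq_inv_iff α g).mp hg)
          exact not_isD_isW hD'' hW ha'
        · left
          have e3 : (1 : ZMod q) * -1 = -1 := by simp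
          rw [e3] at h2
          refine (o4_iff hT h3 h1 _).mpr ⟨_, ?_, h2⟩
          exact mul_ne_zero (mul_ne_zero one_ne_zero ha) hb
      · exfalso
        have h5 : g * g ≠ 1 := (o4_iff hT h3 h1 _).mpr ⟨a, ha, hW⟩
        obtain ⟨b', hb', hW''⟩ := (o4_iff hT h3 h1 (α g)).mp ((o4_inv α g).mpr h5)
        exact not_isD_isW hD' hW'' hb
    · have h2 := isW_mul_isW (isW_inv hW ha hs) hW' hs
      have hne : s * (s * a)⁻¹ * b ≠ 0 :=
        mul_ne_zero (mul_ne_zero (sign_ne hs)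
          (inv_ne_zero (mul_ne_zero (sign_ne hs) ha))) hb
      have hst : s = t := by
        rcases hs with rfl | rfl
        · rcases ht with rfl | rfl
          · rfl
          · exfalso
            have h5 : α g * α g ≠ 1 := (o4_iff hT h3 h1 _).mpr ⟨b, hb, hW'⟩
            obtain ⟨a', ha', hW''⟩ := (o4_iff hT h3 h1 g).mp ((o4_inv α g).mp h5)
            exact h1 (isW_unique hW hW'' ha).2
        · have h5 : g * g ≠ 1 := (o4_iff hT h3 h1 _).mpr ⟨a, ha, hW⟩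
          obtain ⟨b', hb', hW''⟩ := (o4_iff hT h3 h1 (α g)).mp ((o4_inv α g).mpr h5)
          exact (isW_unique hW'' hW' hb').2
      rw [← hst, sign_sq hs] at h2
      exact Or.inr ((sq_iff_small hT h3 _).mpr ⟨_, hne, h2⟩)

theorem small_e (hT : Mem T) (h3 : ∀ a : ZMod q, a ≠ 0 → a = 1 ∨ a = -1)
    (h1 : (1 : ZMod q) ≠ -1) (α : MulAut ↥T) (d : ↥T) (hd : d * d ≠ 1 ∨ Sq d) :
    Sq (d⁻¹ * α d) := by
  have e2 : (-1 : ZMod q) * -1 = 1 := by simp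
  rcases hd with hd | hd
  · obtain ⟨a, ha, hW⟩ := (o4_iff hT h3 h1 d).mp hd
    obtain ⟨b, hb, hW'⟩ := (o4_iff hT h3 h1 (α d)).mp ((o4_inv α d).mpr hd)
    have h2 := isW_mul_isW (isW_inv hW ha (Or.inr rfl)) hW' (Or.inr rfl)
    rw [e2] at h2
    refine (sq_iff_small hT h3 _).mpr ⟨_, ?_, h2⟩
    exact mul_ne_zero (mul_ne_zero (neg_ne_zero.mpr one_ne_zero)
      (inv_ne_zero (mul_ne_zero (neg_ne_zero.mpr one_ne_zero) ha))) hb
  · obtain ⟨a, ha, hD⟩ := (sq_iff_small hT h3 d).mp hd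
    obtain ⟨b, hb, hD'⟩ := (sq_iff_small hT h3 (α d)).mp ((sq_inv_iff α d).mpr hd)
    have h2 := isD_mul (isD_inv hD ha (Or.inl rfl)) hD'
    rw [one_mul] at h2
    exact (sq_iff_small hT h3 _).mpr ⟨_, mul_ne_zero (inv_ne_zero ha) hb, h2⟩

theorem small_main [Finite ↥T] (hT : Mem T) (h3 : ∀ a : ZMod q, a ≠ 0 → a = 1 ∨ a = -1)
    (h1 : (1 : ZMod q) ≠ -1) (hX : IsPGroup 2 ↥T) (α : MulAut ↥T) {r : ℕ} (hr : r.Prime)
    (hrodd : Odd r) (hpow : α ^ r = 1) : α = 1 := by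
  apply MetaAut.aut_eq_one hX α hr hrodd hpow
  intro g
  apply step hX α hrodd hpow
  exact sq_mem_frattini hX (small_e hT h3 h1 α _ (small_d hT h3 h1 α g))

/-! ## The case `q = 2` -/

theorem tiny_main (hT : Mem T) (h2 : ∀ a : ZMod q, a ≠ 0 → a = 1)
    (h11 : (-1 : ZMod q) = 1) (α : MulAut ↥T) : α = 1 := by
  refine MulEquiv.ext (fun x => ?_)
  rw [MulAut.one_apply]
  have hsgn : ∀ s : ZMod q, (s = 1 ∨ s = -1) → s = 1 := by
    intro s hs
    rcases hs with rfl | rfl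
    · rfl
    · exact h11
  obtain ⟨a, s, ha, hs, hD | hW⟩ := cases_T hT x
  · have ha1 := h2 a ha
    have hs1 := hsgn s hs
    rw [ha1, hs1] at hD
    have hx : x = 1 := Subtype.ext (isD_ext hD isD_one)
    rw [hx, map_one]
  · have hx1 : x ≠ 1 := by
      rintro rfl
      exact not_isD_isW (isD_one (q := q)) hW one_ne_zero
    have hα : α x ≠ 1 := fun h => hx1 ((map_eq_one_iff α α.injective).mp h)
    obtain ⟨b, t, hb, ht, hD' | hW'⟩ := cases_T hT (α x)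
    · exfalso
      apply hα
      rw [h2 b hb, hsgn t ht] at hD'
      exact Subtype.ext (isD_ext hD' isD_one)
    · rw [h2 b hb, hsgn t ht] at hW'
      rw [h2 a ha, hsgn s hs] at hW
      exact Subtype.ext (isW_ext hW' hW)

/-! ## The case `q ≥ 17` -/

theorem pow_D (h4 : 4 ∣ q / 2) {f : E q} {a s : ZMod q}
    (hf : IsD f a s) (ha : a ≠ 0) (hs : s = 1 ∨ s = -1) :
    f ^ (q / 2) = 1 ↔ IsSquare a := by
  have hp := isD_pow hf (q / 2)
  have hs2 : s ^ (q / 2) = 1 := by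
    obtain ⟨k, hk⟩ := h4
    rw [hk, show (4 : ℕ) = 2 * 2 from rfl, mul_assoc, pow_mul, pow_two, sign_sq hs, one_pow]
  rw [hs2] at hp
  rw [ZMod.euler_criterion q ha]
  constructor
  · intro h
    rw [h] at hp
    exact (isD_unique hp isD_one (pow_ne_zero _ ha)).1
  · intro h
    rw [h] at hp
    exact isD_ext hp isD_one

theorem pow_W (h4 : 4 ∣ q / 2) {f : E q} {a s : ZMod q} (hf : IsW f a s) (ha : a ≠ 0)
    (hs : s = 1 ∨ s = -1) : f ^ (q / 2) = 1 := by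
  have h2 := isW_mul_isW hf hf hs
  have h3 := isD_mul h2 h2
  rw [inv_mul_cancel_right₀ ha, sign_sq hs, one_mul] at h3
  obtain ⟨k, hk⟩ := h4
  have h5 : f ^ 4 = f * f * (f * f) := by
    rw [show (4 : ℕ) = 2 + 2 from rfl, pow_add, pow_two]
  rw [hk, pow_mul, h5, isD_ext h3 isD_one, one_pow]

theorem ns_iff (hT : Mem T) (h4 : 4 ∣ q / 2) (x : ↥T) :
    x ^ (q / 2) ≠ 1 ↔ ∃ a s : ZMod q, a ≠ 0 ∧ (s = 1 ∨ s = -1) ∧ IsD (x : E q) a s ∧
      ¬ IsSquare a := by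
  have hc : x ^ (q / 2) = 1 ↔ (x : E q) ^ (q / 2) = 1 := by
    rw [Subtype.ext_iff]; rfl
  rw [Ne, hc]
  constructor
  · intro hx
    obtain ⟨a, s, ha, hs, hD | hW⟩ := cases_T hT x
    · exact ⟨a, s, ha, hs, hD, fun hsq => hx ((pow_D h4 hD ha hs).mpr hsq)⟩
    · exact absurd (pow_W h4 hW ha hs) hx
  · rintro ⟨a, s, ha, hs, hD, hsq⟩ hx
    exact hsq ((pow_D h4 hD ha hs).mp hx)

theorem ns_inv (α : MulAut ↥T) (x : ↥T) (n : ℕ) : (α x) ^ n ≠ 1 ↔ x ^ n ≠ 1 := by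
  rw [← map_pow, Ne, Ne, map_eq_one_iff α α.injective]

theorem d_inv (hT : Mem T) (h4 : 4 ∣ q / 2) (α : MulAut ↥T) (x : ↥T)
    (hx : ∃ a s : ZMod q, a ≠ 0 ∧ (s = 1 ∨ s = -1) ∧ IsD (x : E q) a s) :
    ∃ a s : ZMod q, a ≠ 0 ∧ (s = 1 ∨ s = -1) ∧ IsD (α x : E q) a s := by
  obtain ⟨a, s, ha, hs, hD⟩ := hx
  by_cases hsq : IsSquare a
  · have hq2 : ringChar (ZMod q) ≠ 2 := by
      rw [ZMod.ringChar_zmod_n]
      intro h
      rw [h] at h4
      norm_num at h4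
    obtain ⟨g, hg⟩ := FiniteField.exists_nonsquare (F := ZMod q) hq2
    have hg0 : g ≠ 0 := by
      rintro rfl
      exact hg ⟨0, by simp⟩
    obtain ⟨y, hy⟩ := mkD hT g 1 hg0 (Or.inl rfl)
    have hz : IsD ((y⁻¹ * x : ↥T) : E q) (g⁻¹ * a) (1 * s) :=
      isD_mul (isD_inv hy hg0 (Or.inl rfl)) hD
    have hzns : ¬ IsSquare (g⁻¹ * a) := by
      intro h
      apply hg
      have e : g = a * (g⁻¹ * a)⁻¹ := by
        field_simp
      rw [e]
      exact hsq.mul h.inv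
    have h5 : (α y) ^ (q / 2) ≠ 1 :=
      (ns_inv α y _).mpr ((ns_iff hT h4 y).mpr ⟨g, 1, hg0, Or.inl rfl, hy, hg⟩)
    have h6 : (α (y⁻¹ * x)) ^ (q / 2) ≠ 1 :=
      (ns_inv α _ _).mpr ((ns_iff hT h4 _).mpr
        ⟨_, _, mul_ne_zero (inv_ne_zero hg0) ha, by rw [one_mul]; exact hs, hz, hzns⟩)
    obtain ⟨b, t, hb, ht, hDb, -⟩ := (ns_iff hT h4 _).mp h5
    obtain ⟨c, u, hc, hu, hDc, -⟩ := (ns_iff hT h4 _).mp h6
    have e : α x = α y * α (y⁻¹ * x) := by rw [← map_mul, mul_inv_cancel_left]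
    rw [e]
    exact ⟨b * c, t * u, mul_ne_zero hb hc, sign_mul ht hu, isD_mul hDb hDc⟩
  · have h5 : (α x) ^ (q / 2) ≠ 1 :=
      (ns_inv α x _).mpr ((ns_iff hT h4 x).mpr ⟨a, s, ha, hs, hD, hsq⟩)
    obtain ⟨b, t, hb, ht, hDb, -⟩ := (ns_iff hT h4 _).mp h5
    exact ⟨b, t, hb, ht, hDb⟩

theorem sq_iff_big (hT : Mem T) (hi : ∃ i : ZMod q, i * i = -1) (x : ↥T) :
    Sq x ↔ ∃ c : ZMod q, c ≠ 0 ∧ IsD (x : E q) (c * c) 1 := by
  constructor
  · rintro ⟨y, rfl⟩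
    obtain ⟨a, s, ha, hs, hD | hW⟩ := cases_T hT y
    · have h2 := isD_mul hD hD
      rw [sign_sq hs] at h2
      exact ⟨a, ha, h2⟩
    · have h2 := isW_mul_isW hW hW hs
      rw [inv_mul_cancel_right₀ ha, sign_sq hs] at h2
      rcases hs with rfl | rfl
      · exact ⟨1, one_ne_zero, by rw [one_mul]; exact h2⟩
      · obtain ⟨i, hi⟩ := hi
        refine ⟨i, ?_, by rw [hi]; exact h2⟩
        rintro rfl
        rw [mul_zero] at hi
        exact one_ne_zero (neg_eq_zero.mp hi.symm)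
  · rintro ⟨c, hc, hD⟩
    obtain ⟨y, hy⟩ := mkD hT c 1 hc (Or.inl rfl)
    refine ⟨y, Subtype.ext ?_⟩
    have h2 := isD_mul hy hy
    rw [one_mul] at h2
    exact isD_ext hD h2

theorem big_d (hT : Mem T) (h4 : 4 ∣ q / 2) (α : MulAut ↥T) (g : ↥T) :
    ∃ a s : ZMod q, a ≠ 0 ∧ (s = 1 ∨ s = -1) ∧ IsD ((g⁻¹ * α g : ↥T) : E q) a s := by
  obtain ⟨a, s, ha, hs, hD | hW⟩ := cases_T hT g
  · obtain ⟨b, t, hb, ht, hD'⟩ := d_inv hT h4 α g ⟨a, s, ha, hs, hD⟩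
    exact ⟨a⁻¹ * b, s * t, mul_ne_zero (inv_ne_zero ha) hb, sign_mul hs ht,
      isD_mul (isD_inv hD ha hs) hD'⟩
  · obtain ⟨b, t, hb, ht, hD' | hW'⟩ := cases_T hT (α g)
    · exfalso
      obtain ⟨a', s', ha', hs', hD''⟩ := d_inv hT h4 α⁻¹ (α g) ⟨b, t, hb, ht, hD'⟩
      rw [MulAut.inv_apply_self] at hD''
      exact not_isD_isW hD'' hW ha'
    · exact ⟨s * (s * a)⁻¹ * b, s * t,
        mul_ne_zero (mul_ne_zero (sign_ne hs)
          (inv_ne_zero (mul_ne_zero (sign_ne hs) ha))) hb, sign_mul hs ht,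
        isW_mul_isW (isW_inv hW ha hs) hW' hs⟩

theorem big_e (hT : Mem T) (h4 : 4 ∣ q / 2) (α : MulAut ↥T) (d : ↥T)
    (hd : ∃ a s : ZMod q, a ≠ 0 ∧ (s = 1 ∨ s = -1) ∧ IsD (d : E q) a s) :
    ∃ c u : ZMod q, c ≠ 0 ∧ (u = 1 ∨ u = -1) ∧ IsD ((d⁻¹ * α d : ↥T) : E q) (c * c) u := by
  obtain ⟨a, s, ha, hs, hD⟩ := hd
  obtain ⟨b, t, hb, ht, hD'⟩ := d_inv hT h4 α d ⟨a, s, ha, hs, hD⟩
  have h2 := isD_mul (isD_inv hD ha hs) hD'
  have hsq : IsSquare (a⁻¹ * b) := by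
    by_cases hsa : IsSquare a
    · have hsb : IsSquare b := by
        by_contra hsb
        have h5 : (α d) ^ (q / 2) ≠ 1 := (ns_iff hT h4 _).mpr ⟨b, t, hb, ht, hD', hsb⟩
        obtain ⟨a', s', ha', hs', hD'', hns⟩ := (ns_iff hT h4 d).mp ((ns_inv α d _).mp h5)
        exact hns ((isD_unique hD hD'' ha).1 ▸ hsa)
      exact hsa.inv.mul hsb
    · have hsb : ¬ IsSquare b := by
        have h5 : (α d) ^ (q / 2) ≠ 1 :=
          (ns_inv α d _).mpr ((ns_iff hT h4 d).mpr ⟨a, s, ha, hs, hD, hsa⟩)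
        obtain ⟨b', t', hb', ht', hD'', hns⟩ := (ns_iff hT h4 _).mp h5
        rw [(isD_unique hD' hD'' hb).1]
        exact hns
      rw [ZMod.euler_criterion q (mul_ne_zero (inv_ne_zero ha) hb), mul_pow, inv_pow]
      have ea : a ^ (q / 2) = -1 := by
        rcases ZMod.pow_div_two_eq_neg_one_or_one q ha with h | h
        · exact absurd ((ZMod.euler_criterion q ha).mpr h) hsa
        · exact h
      have eb : b ^ (q / 2) = -1 := by
        rcases ZMod.pow_div_two_eq_neg_one_or_one q hb with h | h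
        · exact absurd ((ZMod.euler_criterion q hb).mpr h) hsb
        · exact h
      rw [ea, eb]
      simp
  obtain ⟨c, hc⟩ := hsq
  refine ⟨c, s * t, ?_, sign_mul hs ht, by rw [← hc]; exact h2⟩
  rintro rfl
  rw [mul_zero] at hc
  exact mul_ne_zero (inv_ne_zero ha) hb hc

theorem big_f (hT : Mem T) (h4 : 4 ∣ q / 2) (h1 : (1 : ZMod q) ≠ -1)
    (hi : ∃ i : ZMod q, i * i = -1) (α : MulAut ↥T) (e : ↥T)
    (he : ∃ c u : ZMod q, c ≠ 0 ∧ (u = 1 ∨ u = -1) ∧ IsD (e : E q) (c * c) u) :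
    Sq (e⁻¹ * α e) := by
  obtain ⟨c, u, hc, hu, hD⟩ := he
  have hcc : c * c ≠ 0 := mul_ne_zero hc hc
  obtain ⟨b, t, hb, ht, hD'⟩ := d_inv hT h4 α e ⟨c * c, u, hcc, hu, hD⟩
  have hsb : IsSquare b := by
    by_contra hsb
    have h5 : (α e) ^ (q / 2) ≠ 1 := (ns_iff hT h4 _).mpr ⟨b, t, hb, ht, hD', hsb⟩
    obtain ⟨a', s', ha', hs', hD'', hns⟩ := (ns_iff hT h4 e).mp ((ns_inv α e _).mp h5)
    exact hns ((isD_unique hD hD'' hcc).1 ▸ ⟨c, rfl⟩)
  obtain ⟨k, rfl⟩ := hsb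
  have hk : k ≠ 0 := by
    rintro rfl
    exact hb (mul_zero 0)
  have htu : u = t := by
    rcases hu with rfl | rfl
    · have h5 : Sq e := (sq_iff_big hT hi e).mpr ⟨c, hc, hD⟩
      obtain ⟨c', hc', hD''⟩ := (sq_iff_big hT hi (α e)).mp ((sq_inv_iff α e).mpr h5)
      exact ((isD_unique hD' hD'' hb).2).symm
    · rcases ht with rfl | rfl
      · exfalso
        have h5 : Sq (α e) := (sq_iff_big hT hi _).mpr ⟨k, hk, hD'⟩
        obtain ⟨c', hc', hD''⟩ := (sq_iff_big hT hi e).mp ((sq_inv_iff α e).mp h5)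
        exact h1 (isD_unique hD'' hD (mul_ne_zero hc' hc')).2
      · rfl
  have h2 := isD_mul (isD_inv hD hcc hu) hD'
  rw [← htu, sign_sq hu] at h2
  have e1 : (c * c)⁻¹ * (k * k) = (c⁻¹ * k) * (c⁻¹ * k) := by rw [mul_inv]; ring
  rw [e1] at h2
  exact (sq_iff_big hT hi _).mpr ⟨c⁻¹ * k, mul_ne_zero (inv_ne_zero hc) hk, h2⟩

theorem big_main [Finite ↥T] (hT : Mem T) (h4 : 4 ∣ q / 2) (h1 : (1 : ZMod q) ≠ -1)
    (hi : ∃ i : ZMod q, i * i = -1) (hX : IsPGroup 2 ↥T) (α : MulAut ↥T) {r : ℕ}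
    (hr : r.Prime) (hrodd : Odd r) (hpow : α ^ r = 1) : α = 1 := by
  apply MetaAut.aut_eq_one hX α hr hrodd hpow
  intro g
  apply step hX α hrodd hpow
  apply step hX α hrodd hpow
  exact sq_mem_frattini hX (big_f hT h4 h1 hi α _ (big_e hT h4 α _ (big_d hT h4 α g)))

theorem zmod2_a : ∀ a : ZMod 2, a ≠ 0 → a = 1 := by decide

theorem zmod2_b : (-1 : ZMod 2) = 1 := by decide

theorem zmod3_a : ∀ a : ZMod 3, a ≠ 0 → a = 1 ∨ a = -1 := by decide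

theorem zmod3_b : (1 : ZMod 3) ≠ -1 := by decide

end Cfsg.Agent.Helper8.MonoAut
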