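import Mathlib
import Cfsg.Agent.Helper8.GL2Odd
import Cfsg.Agent.Helper8.PowFormula2
import Cfsg.Agent.Helper8.Wielandt4
import Cfsg.Agent.S0093
import Cfsg.Agent.S0121
import Cfsg.Agent.S1443
import Cfsg.Prelude.Def_OddOrderLocal

set_option autoImplicit false

/-! # Odd-order solvable automorphism groups of `p`-groups of rank at most two -/

namespace Cfsg.Agent.Helper8.RankTwoAut

open scoped commutatorElement
open Cfsg.Agent.Helper8

/-- The multiplicative version of `GL2Odd.gl2_odd`. -/
theorem gl2_mul {p : ℕ} [Fact p.Prime] (hp2 : p ≠ 2) {V : Type*} [CommGroup V] [Finite V]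
    (hV : ∀ v : V, v ^ p = 1) (hc : Nat.card V ≤ p ^ 2) {X : Type*} [Group X] [Finite X]
    (hodd : Odd (Nat.card X)) [Group.IsSolvable X] (φ : X →* MulAut V) :
    ∀ g ∈ commutator X, (φ g) ^ p = 1 := by
  haveI : Module (ZMod p) (Additive V) := AddCommGroup.zmodModule (n := p) (fun x => by
    rw [← ofMul_toMul x, ← ofMul_pow, hV]; rfl)
  let linOf : MulAut V → (Additive V ≃ₗ[ZMod p] Additive V) := fun σ =>
    { toFun := fun x => Additive.ofMul (σ (Additive.toMul x))
      map_add' := fun x y => by
        show Additive.ofMul (σ (Additive.toMul x * Additive.toMul y)) = _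
        rw [map_mul]; rfl
      map_smul' := fun c x => ZMod.map_smul (MulEquiv.toAdditive σ) c x
      invFun := fun x => Additive.ofMul (σ⁻¹ (Additive.toMul x))
      left_inv := fun x => by
        show Additive.ofMul (σ⁻¹ (σ (Additive.toMul x))) = x
        rw [MulAut.inv_apply_self]; rfl
      right_inv := fun x => by
        show Additive.ofMul (σ (σ⁻¹ (Additive.toMul x))) = x
        rw [MulAut.apply_inv_self]; rfl }
  have hlin : ∀ (σ : MulAut V) (x : Additive V),
      linOf σ x = Additive.ofMul (σ (Additive.toMul x)) := fun σ x => rfl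
  let lin : MulAut V →* (Additive V ≃ₗ[ZMod p] Additive V) :=
    { toFun := linOf
      map_one' := by
        apply LinearEquiv.ext
        intro x
        rw [hlin]; rfl
      map_mul' := fun σ τ => by
        apply LinearEquiv.ext
        intro x
        rw [LinearEquiv.mul_apply, hlin, hlin, hlin]; rfl }
  have hinj : Function.Injective lin := by
    intro σ τ h
    apply MulEquiv.ext
    intro v
    have h1 := LinearEquiv.congr_fun h (Additive.ofMul v)
    exact h1
  have hcard : Nat.card (Additive V) ≤ p ^ 2 := (Nat.card_congr Additive.toMul).trans_le hc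
  intro g hg
  have h := GL2Odd.gl2_odd hp2 (W := Additive V) hcard hodd (lin.comp φ) g hg
  apply hinj
  rw [map_pow, map_one]
  exact h

/-- An automorphism of `p'`-order of a class-two group of exponent `p` acting trivially on the
abelianization is trivial. -/
theorem stab_trivial {Q : Type*} [Group Q] {p : ℕ} (hexp : ∀ q : Q, q ^ p = 1)
    (hcl : commutator Q ≤ Subgroup.center Q) (σ : MulAut Q)
    (hσ : ∀ e : Q, e⁻¹ * σ e ∈ commutator Q) {m : ℕ} (hm : σ ^ m = 1) (hmp : Nat.Coprime m p) :
    σ = 1 := by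
  have hfix : ∀ c ∈ commutator Q, σ c = c := by
    intro c hc
    rw [commutator_eq_closure] at hc
    induction hc using Subgroup.closure_induction with
    | mem x hx =>
      obtain ⟨a, b, rfl⟩ := hx
      rw [map_commutatorElement]
      have ha : σ a = a * (a⁻¹ * σ a) := by group
      have hb : σ b = b * (b⁻¹ * σ b) := by group
      have hz : ∀ g, (a⁻¹ * σ a) * g = g * (a⁻¹ * σ a) :=
        fun g => (Subgroup.mem_center_iff.mp (hcl (hσ a)) g).symm
      have hz' : ∀ g, (b⁻¹ * σ b) * g = g * (b⁻¹ * σ b) :=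
        fun g => (Subgroup.mem_center_iff.mp (hcl (hσ b)) g).symm
      rw [ha, hb]
      generalize a⁻¹ * σ a = z at hz
      generalize b⁻¹ * σ b = z' at hz'
      rw [commutatorElement_def, commutatorElement_def]
      have e1 : a * z * (b * z') * (a * z)⁻¹ * (b * z')⁻¹ =
          a * (z * (b * z')) * (z⁻¹ * a⁻¹) * (z'⁻¹ * b⁻¹) := by group
      rw [e1, hz (b * z')]
      have e2 : a * (b * z' * z) * (z⁻¹ * a⁻¹) * (z'⁻¹ * b⁻¹) =
          a * b * (z' * a⁻¹) * (z'⁻¹ * b⁻¹) := by group
      rw [e2, hz' a⁻¹]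
      group
    | one => exact map_one σ
    | mul x y _ _ hx hy => rw [map_mul, hx, hy]
    | inv x _ hx => rw [map_inv, hx]
  have hpow : ∀ k : ℕ, ∀ e, (σ ^ k) e = e * (e⁻¹ * σ e) ^ k := by
    intro k
    induction k with
    | zero => intro e; rw [pow_zero, pow_zero, mul_one]; rfl
    | succ k ih =>
      intro e
      rw [pow_succ', MulAut.mul_apply, ih, map_mul, map_pow, hfix _ (hσ e),
        pow_succ' (e⁻¹ * σ e) k, ← mul_assoc, mul_inv_cancel_left]
  apply MulEquiv.ext
  intro e
  have h1 := hpow m e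
  rw [hm] at h1
  have hd : (e⁻¹ * σ e) ^ m = 1 := by
    have h2 : e = e * (e⁻¹ * σ e) ^ m := h1
    have h3 : e * (e⁻¹ * σ e) ^ m = e * 1 := by rw [mul_one]; exact h2.symm
    exact mul_left_cancel h3
  have hdp : (e⁻¹ * σ e) ^ p = 1 := hexp _
  have h4 : orderOf (e⁻¹ * σ e) = 1 := by
    have h5 := Nat.dvd_gcd (orderOf_dvd_of_pow_eq_one hd) (orderOf_dvd_of_pow_eq_one hdp)
    rw [hmp.gcd_eq_one] at h5
    exact Nat.dvd_one.mp h5
  have h6 : e⁻¹ * σ e = 1 := orderOf_eq_one_iff.mp h4
  show σ e = e
  exact (inv_mul_eq_one.mp h6).symm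

/-- The centre of the centralizer of `g`, as a subgroup of the whole group. -/
def zc {Q : Type*} [Group Q] (g : Q) : Subgroup Q :=
  (Subgroup.center ↥(Subgroup.centralizer ({g} : Set Q))).map
    (Subgroup.centralizer ({g} : Set Q)).subtype

instance zc_comm {Q : Type*} [Group Q] (g : Q) : IsMulCommutative ↥(zc g) := by
  unfold zc; infer_instance

theorem center_le_zc {Q : Type*} [Group Q] (g : Q) : Subgroup.center Q ≤ zc g := by
  intro z hz
  have hzc : z ∈ Subgroup.centralizer ({g} : Set Q) := by
    rw [Subgroup.mem_centralizer_iff]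
    intro h hh
    rw [Set.mem_singleton_iff] at hh
    rw [hh]
    exact Subgroup.mem_center_iff.mp hz g
  refine ⟨⟨z, hzc⟩, ?_, rfl⟩
  rw [SetLike.mem_coe, Subgroup.mem_center_iff]
  intro y
  exact Subtype.ext (Subgroup.mem_center_iff.mp hz y)

theorem mem_zc_self {Q : Type*} [Group Q] (g : Q) : g ∈ zc g := by
  have hgc : g ∈ Subgroup.centralizer ({g} : Set Q) := by
    rw [Subgroup.mem_centralizer_iff]
    intro h hh
    rw [Set.mem_singleton_iff] at hh
    rw [hh]
  refine ⟨⟨g, hgc⟩, ?_, rfl⟩
  rw [SetLike.mem_coe, Subgroup.mem_center_iff]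
  intro y
  apply Subtype.ext
  have h1 := y.2
  rw [Subgroup.mem_centralizer_iff] at h1
  exact (h1 g rfl).symm

theorem card_mul_le {Q : Type*} [Group Q] [Finite Q] {p : ℕ} [Fact p.Prime] (hQ : IsPGroup p Q)
    {A B : Subgroup Q} (hlt : A < B) : Nat.card A * p ≤ Nat.card B := by
  have hp : p.Prime := Fact.out
  obtain ⟨a, ha⟩ := IsPGroup.iff_card.mp (hQ.to_subgroup A)
  obtain ⟨b, hb⟩ := IsPGroup.iff_card.mp (hQ.to_subgroup B)
  have hle := Subgroup.card_le_of_le hlt.le
  have hne : Nat.card A ≠ Nat.card B :=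
    fun h => hlt.ne (Subgroup.eq_of_le_of_card_ge hlt.le h.ge)
  rw [ha, hb] at hle hne ⊢
  have hab : a < b := by
    refine lt_of_le_of_ne ((Nat.pow_le_pow_iff_right hp.one_lt).mp hle) ?_
    intro h
    exact hne (by rw [h])
  calc p ^ a * p = p ^ (a + 1) := (pow_succ p a).symm
    _ ≤ p ^ b := Nat.pow_le_pow_right hp.pos hab

/-- In a finite `p`-group of class at most two whose abelian subgroups have order at most
`p ^ 2`, the commutator subgroup has index at most `p ^ 2`. -/
theorem index_commutator_le {Q : Type*} [Group Q] [Finite Q] {p : ℕ} [Fact p.Prime]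
    (hQ : IsPGroup p Q) (hcl : commutator Q ≤ Subgroup.center Q)
    (hab : ∀ B : Subgroup Q, IsMulCommutative B → Nat.card B ≤ p ^ 2) :
    (commutator Q).index ≤ p ^ 2 := by
  have hp : p.Prime := Fact.out
  by_cases hQab : ∀ a b : Q, a * b = b * a
  · have h1 := hab ⊤ ⟨⟨fun a b => Subtype.ext (hQab a b)⟩⟩
    rw [Subgroup.card_top] at h1
    exact (Nat.le_of_dvd Nat.card_pos (Subgroup.index_dvd_card _)).trans h1
  · obtain ⟨x, hx⟩ : ∃ x : Q, ¬ ∀ b, x * b = b * x := by
      by_contra hcon
      apply hQab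
      intro a b
      by_contra hab'
      exact hcon ⟨a, fun h => hab' (h b)⟩
    have hxZ : x ∉ Subgroup.center Q :=
      fun h => hx (fun b => (Subgroup.mem_center_iff.mp h b).symm)
    have hcomm_mem : ∀ a b : Q, ⁅a, b⁆ ∈ commutator Q := by
      intro a b
      rw [commutator_def]
      exact Subgroup.commutator_mem_commutator (Subgroup.mem_top _) (Subgroup.mem_top _)
    -- `|Q| ≤ |C_Q(x)| |Q'|`
    have hi : Nat.card Q ≤ Nat.card ↥(Subgroup.centralizer ({x} : Set Q)) *
        Nat.card ↥(commutator Q) := by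
      let f : Q →* Q := MonoidHom.mk' (fun y => ⁅y, x⁆) (by
        intro y y'
        show ⁅y * y', x⁆ = ⁅y, x⁆ * ⁅y', x⁆
        have hcc := Subgroup.mem_center_iff.mp (hcl (hcomm_mem y' x))
        have e : ⁅y * y', x⁆ = y * ⁅y', x⁆ * (x * y⁻¹ * x⁻¹) := by
          simp only [commutatorElement_def]; group
        have e2 : ⁅y', x⁆ * ⁅y, x⁆ = ⁅y', x⁆ * y * (x * y⁻¹ * x⁻¹) := by
          rw [commutatorElement_def y x]; group
        rw [e, hcc y, ← e2, hcc ⁅y, x⁆])
      have hker : f.ker = Subgroup.centralizer ({x} : Set Q) := by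
        ext y
        rw [MonoidHom.mem_ker, Subgroup.mem_centralizer_iff]
        show ⁅y, x⁆ = 1 ↔ _
        rw [commutatorElement_eq_one_iff_commute]
        constructor
        · intro h z hz
          rw [Set.mem_singleton_iff] at hz
          rw [hz]
          exact h.eq.symm
        · intro h
          exact (h x rfl).symm
      have hrange : f.range ≤ commutator Q := by
        rintro _ ⟨y, rfl⟩
        exact hcomm_mem y x
      have h1 := Subgroup.card_mul_index f.ker
      rw [Subgroup.index_ker, hker] at h1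
      rw [← h1]
      exact Nat.mul_le_mul_left _ (Subgroup.card_le_of_le hrange)
    -- `C_Q(x)` is abelian
    have hCab : ∀ a b : ↥(Subgroup.centralizer ({x} : Set Q)), a * b = b * a := by
      by_contra hcon
      obtain ⟨y, hy⟩ : ∃ y : ↥(Subgroup.centralizer ({x} : Set Q)), ¬ ∀ b, y * b = b * y := by
        by_contra hcon'
        apply hcon
        intro a b
        by_contra hab'
        exact hcon' ⟨a, fun h => hab' (h b)⟩
      have hyZ : y ∉ Subgroup.center ↥(Subgroup.centralizer ({x} : Set Q)) :=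
        fun h => hy (fun b => (Subgroup.mem_center_iff.mp h b).symm)
      have h1 : (⊥ : Subgroup Q) < Subgroup.center Q := by
        haveI : Nontrivial Q := ⟨⟨x, 1, fun h => hxZ (h ▸ Subgroup.one_mem _)⟩⟩
        haveI := hQ.center_nontrivial
        exact bot_lt_iff_ne_bot.mpr ((Subgroup.nontrivial_iff_ne_bot _).mp inferInstance)
      have h2 : Subgroup.center Q < zc x :=
        lt_of_le_of_ne (center_le_zc x) (fun h => hxZ (h ▸ mem_zc_self x))
      have h3 : zc x < (zc y).map (Subgroup.centralizer ({x} : Set Q)).subtype := by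
        refine lt_of_le_of_ne (Subgroup.map_mono (center_le_zc y)) ?_
        intro h
        have h4 : (y : Q) ∈ zc x := by
          rw [h]
          exact Subgroup.mem_map_of_mem _ (mem_zc_self y)
        obtain ⟨c, hc, hcy⟩ := h4
        have hcy' : c = y := Subtype.ext hcy
        rw [hcy'] at hc
        exact hyZ hc
      have c1 := card_mul_le hQ h1
      have c2 := card_mul_le hQ h2
      have c3 := card_mul_le hQ h3
      have c4 := hab ((zc y).map (Subgroup.centralizer ({x} : Set Q)).subtype) inferInstance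
      rw [Subgroup.card_bot] at c1
      have d1 : p * p * p ≤ p ^ 2 :=
        calc p * p * p = (1 * p) * p * p := by ring
          _ ≤ Nat.card ↥(Subgroup.center Q) * p * p :=
              Nat.mul_le_mul_right p (Nat.mul_le_mul_right p c1)
          _ ≤ Nat.card ↥(zc x) * p := Nat.mul_le_mul_right p c2
          _ ≤ _ := c3
          _ ≤ p ^ 2 := c4
      have d2 : p ^ 3 ≤ p ^ 2 := by
        have : p ^ 3 = p * p * p := by ring
        rw [this]; exact d1
      have d3 := (Nat.pow_le_pow_iff_right hp.one_lt).mp d2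
      omega
    have h2 := hab (Subgroup.centralizer ({x} : Set Q)) ⟨⟨fun a b => hCab a b⟩⟩
    have h3 := Subgroup.card_mul_index (commutator Q)
    have hpos : 0 < Nat.card ↥(commutator Q) := Nat.card_pos
    have h4 : (commutator Q).index ≤ Nat.card ↥(Subgroup.centralizer ({x} : Set Q)) := by
      apply Nat.le_of_mul_le_mul_left _ hpos
      rw [h3, mul_comm]
      exact hi
    exact h4.trans h2


/-- **Main theorem**: a solvable group of odd order acting faithfully on a `p`-group (`p` odd)
without elementary abelian subgroups of order `p ^ 3` has a derived subgroup which is a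
`p`-group. -/
theorem rank_two_aut {G : Type*} [Group G] [Finite G] (p : ℕ) [Fact p.Prime] (hp : p ≠ 2)
    (R A : Subgroup G) (hR : IsPGroup p R) (hr : Cfsg.PRankLE p 2 R)
    (hA : A ≤ Subgroup.normalizer (R : Set G)) (hAs : Group.IsSolvable A)
    (hAodd : Odd (Nat.card A)) (hfaith : A ⊓ Subgroup.centralizer (R : Set G) = ⊥) :
    IsPGroup p ↥⁅A, A⁆ := by
  have hpp : p.Prime := Fact.out
  obtain ⟨H, hHchar, hH1, hH2, hH3⟩ := Cfsg.Agent.S0093.result (P := ↥R) hR
  have hKR : H.map R.subtype ≤ R := Subgroup.map_subtype_le H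
  have hInvR : ∀ a ∈ A, Wielandt.Inv (MulAut.conj a) R := fun a ha => Wielandt.inv_conj (hA ha)
  have hInvK : ∀ a ∈ A, Wielandt.Inv (MulAut.conj a) (H.map R.subtype) := by
    intro a ha
    apply Wielandt.inv_of_forall
    rintro _ ⟨h, hh, rfl⟩
    refine ⟨Wielandt.res (MulAut.conj a) R (hInvR a ha) h, ?_, rfl⟩
    have hc := Subgroup.characteristic_iff_comap_eq.mp hHchar
      (Wielandt.res (MulAut.conj a) R (hInvR a ha))
    have h1 : h ∈ H.comap (Wielandt.res (MulAut.conj a) R (hInvR a ha)).toMonoidHom := by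
      rw [hc]; exact hh
    exact h1
  have hk2 : ∀ x ∈ H.map R.subtype, ∀ y ∈ H.map R.subtype, ∀ z ∈ H.map R.subtype,
      ⁅x, y⁆ * z = z * ⁅x, y⁆ := by
    rintro _ ⟨x, hx, rfl⟩ _ ⟨y, hy, rfl⟩ _ ⟨z, hz, rfl⟩
    have h1 : ⁅x, y⁆ ∈ ⁅H, (⊤ : Subgroup ↥R)⁆ :=
      Subgroup.commutator_mem_commutator hx (Subgroup.mem_top y)
    have h2 : ⁅x, y⁆ ∈ Subgroup.centralizer (H : Set ↥R) := (hH2 h1).2
    rw [Subgroup.mem_centralizer_iff] at h2
    have h3 := h2 z hz
    have h4 := congrArg R.subtype h3
    rw [map_mul, map_mul, map_commutatorElement] at h4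
    exact h4.symm
  -- the subgroup generated by the elements of order `p` of the critical subgroup
  obtain ⟨E, hEdef⟩ : ∃ E : Subgroup G,
      E = Subgroup.closure {g : G | g ∈ H.map R.subtype ∧ g ^ p = 1} := ⟨_, rfl⟩
  have hEK : E ≤ H.map R.subtype := by
    rw [hEdef]; exact (Subgroup.closure_le _).mpr (fun g hg => hg.1)
  have hER : E ≤ R := hEK.trans hKR
  have hEmem : ∀ x ∈ H.map R.subtype, x ^ p = 1 → x ∈ E := by
    intro x hx hxp
    rw [hEdef]; exact Subgroup.subset_closure ⟨hx, hxp⟩
  have hEexp : ∀ g ∈ E, g ^ p = 1 := by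
    have hsmall : PowFormula.Small ↥(H.map R.subtype) p := by
      apply PowFormula.small_of_class2 hpp hp
      rw [Subgroup.commutator_eq_bot_iff_le_centralizer, commutator_def, Subgroup.commutator_le]
      intro a _ b _
      rw [Subgroup.mem_centralizer_iff]
      intro c _
      apply Subtype.ext
      exact (hk2 a a.2 b b.2 c c.2).symm
    have hle : E ≤ (Subgroup.closure {x : ↥(H.map R.subtype) | x ^ p = 1}).map
        (H.map R.subtype).subtype := by
      rw [hEdef]
      apply (Subgroup.closure_le _).mpr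
      rintro g ⟨hgK, hgp⟩
      exact ⟨⟨g, hgK⟩, Subgroup.subset_closure (Subtype.ext hgp), rfl⟩
    intro g hg
    obtain ⟨k, hk, rfl⟩ := hle hg
    have h1 := PowFormula.pow_eq_one_of_mem_closure hsmall k hk
    rw [← map_pow, h1, map_one]
  have hInvE : ∀ a ∈ A, Wielandt.Inv (MulAut.conj a) E := by
    intro a ha
    apply Wielandt.inv_of_forall
    intro x hx
    have hle : E ≤ E.comap (MulAut.conj a).toMonoidHom := by
      conv_lhs => rw [hEdef]
      apply (Subgroup.closure_le _).mpr
      rintro g ⟨hgK, hgp⟩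
      show (MulAut.conj a) g ∈ E
      apply hEmem
      · exact (hInvK a ha g).mpr hgK
      · rw [← map_pow, hgp, map_one]
    exact hle hx
  have hEp : IsPGroup p ↥E := hR.to_le hER
  have hab : ∀ B : Subgroup ↥E, IsMulCommutative B → Nat.card B ≤ p ^ 2 := by
    intro B hB
    have hB'le : B.map E.subtype ≤ R := (Subgroup.map_subtype_le B).trans hER
    have hc : Nat.card ↥((B.map E.subtype).subgroupOf R) = Nat.card B := by
      rw [Wielandt.card_subgroupOf, inf_of_le_right hB'le]
      exact Nat.card_congr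
        (Subgroup.equivMapOfInjective B E.subtype E.subtype_injective).symm.toEquiv
    rw [← hc]
    apply hr ((B.map E.subtype).subgroupOf R) inferInstance
    intro a ha
    have h1 : (a : G) ∈ B.map E.subtype := Subgroup.mem_subgroupOf.mp ha
    have h2 : (a : G) ∈ E := Subgroup.map_subtype_le B h1
    exact Subtype.ext (hEexp _ h2)
  have hclE : commutator ↥E ≤ Subgroup.center ↥E := by
    rw [commutator_def, Subgroup.commutator_le]
    intro a _ b _
    rw [Subgroup.mem_center_iff]
    intro c
    apply Subtype.ext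
    exact (hk2 a (hEK a.2) b (hEK b.2) c (hEK c.2)).symm
  have hidx := index_commutator_le hEp hclE hab
  -- the action on the abelianization
  have hcE1 : ∀ e : ↥E, Wielandt.res (MulAut.conj ((1 : ↥A) : G)) E (hInvE _ (1 : ↥A).2) e = e := by
    intro e
    apply Subtype.ext
    show (MulAut.conj ((1 : ↥A) : G)) (e : G) = e
    rw [Subgroup.coe_one, map_one]; rfl
  have hcEmul : ∀ (a b : ↥A) (e : ↥E),
      Wielandt.res (MulAut.conj ((a * b : ↥A) : G)) E (hInvE _ (a * b).2) e =
        Wielandt.res (MulAut.conj (a : G)) E (hInvE _ a.2)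
          (Wielandt.res (MulAut.conj (b : G)) E (hInvE _ b.2) e) := by
    intro a b e
    apply Subtype.ext
    show (MulAut.conj ((a * b : ↥A) : G)) (e : G) = (MulAut.conj (a : G)) ((MulAut.conj (b : G)) e)
    rw [Subgroup.coe_mul, map_mul]; rfl
  let ψ : ↥A →* MulAut (Abelianization ↥E) :=
    { toFun := fun a =>
        (Wielandt.res (MulAut.conj (a : G)) E (hInvE _ a.2)).abelianizationCongr
      map_one' := by
        apply MulEquiv.ext
        intro v
        obtain ⟨e, rfl⟩ := QuotientGroup.mk_surjective v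
        show (Wielandt.res (MulAut.conj ((1 : ↥A) : G)) E (hInvE _ (1 : ↥A).2)).abelianizationCongr
          (Abelianization.of e) = Abelianization.of e
        rw [abelianizationCongr_of, hcE1]
      map_mul' := by
        intro a b
        apply MulEquiv.ext
        intro v
        obtain ⟨e, rfl⟩ := QuotientGroup.mk_surjective v
        show (Wielandt.res (MulAut.conj ((a * b : ↥A) : G)) E
            (hInvE _ (a * b).2)).abelianizationCongr (Abelianization.of e) =
          (Wielandt.res (MulAut.conj (a : G)) E (hInvE _ a.2)).abelianizationCongr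
            ((Wielandt.res (MulAut.conj (b : G)) E (hInvE _ b.2)).abelianizationCongr
              (Abelianization.of e))
        rw [abelianizationCongr_of, abelianizationCongr_of,
          abelianizationCongr_of, hcEmul] }
  have hψ : ∀ (a : ↥A) (e : ↥E), ψ a (Abelianization.of e) =
      Abelianization.of (Wielandt.res (MulAut.conj (a : G)) E (hInvE _ a.2) e) :=
    fun a e => abelianizationCongr_of _ e
  have hVexp : ∀ v : Abelianization ↥E, v ^ p = 1 := by
    intro v
    obtain ⟨e, rfl⟩ := QuotientGroup.mk_surjective v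
    show (Abelianization.of e) ^ p = 1
    rw [← map_pow]
    have h1 : e ^ p = 1 := Subtype.ext (hEexp _ e.2)
    rw [h1, map_one]
  have hVcard : Nat.card (Abelianization ↥E) ≤ p ^ 2 := hidx
  haveI : Group.IsSolvable ↥A := hAs
  have hmain := gl2_mul hp hVexp hVcard hAodd ψ
  -- conjugation powers
  have hconj_pow : ∀ (b : ↥A), (MulAut.conj (b : G)) ^ orderOf b = 1 := by
    intro b
    rw [← map_pow]
    have h1 : ((b : G)) ^ orderOf b = 1 := by
      rw [← Subgroup.coe_pow, pow_orderOf_eq_one]; rfl
    rw [h1, map_one]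
  -- the kernel of the action has no `p'`-elements
  have hkerl : ∀ b : ↥A, ψ b = 1 → Nat.Coprime (orderOf b) p → b = 1 := by
    intro b hb hcop
    have hσ : Wielandt.res (MulAut.conj (b : G)) E (hInvE _ b.2) = 1 := by
      apply stab_trivial (p := p) (fun q => Subtype.ext (hEexp _ q.2)) hclE _ _
        (Wielandt.res_pow_eq_one _ _ _ (hconj_pow b)) hcop
      intro e
      have h1 : ψ b (Abelianization.of e) = Abelianization.of e := by rw [hb]; rfl
      rw [hψ] at h1
      exact QuotientGroup.eq.mp h1.symm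
    have hbE : ∀ e ∈ E, (b : G) * e * (b : G)⁻¹ = e := by
      intro e he
      have h1 := congrArg (fun f : MulAut ↥E => ((f ⟨e, he⟩ : ↥E) : G)) hσ
      exact h1
    have hb1443 : Subgroup.zpowers (b : G) ≤ Subgroup.centralizer ((H.map R.subtype : Subgroup G) : Set G) := by
      apply Cfsg.Agent.S1443.result p hp (H.map R.subtype) ⊥ (Subgroup.zpowers (b : G))
        (hR.to_le hKR) bot_le
      · refine ⟨inferInstance, ?_⟩
        intro a ha
        rw [Subgroup.mem_bot] at ha
        rw [ha, one_pow]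
      · rw [Subgroup.zpowers_le, Subgroup.mem_normalizer_iff]
        intro x
        exact (hInvK b b.2 x).symm
      · rw [Nat.card_zpowers, Subgroup.orderOf_coe]
        exact hcop
      · intro x hx hxo
        rw [Subgroup.zpowers_le, Subgroup.mem_centralizer_iff]
        intro y hy
        rw [Set.mem_singleton_iff] at hy
        rw [hy]
        have hxE : x ∈ E := hEmem x hx.1 (by rw [← hxo]; exact pow_orderOf_eq_one x)
        have h1 := hbE x hxE
        rw [mul_inv_eq_iff_eq_mul] at h1
        exact h1.symm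
    have hbK : ∀ x ∈ H.map R.subtype, (b : G) * x * (b : G)⁻¹ = x := by
      intro x hx
      have h1 := hb1443 (Subgroup.mem_zpowers (b : G))
      rw [Subgroup.mem_centralizer_iff] at h1
      have h2 := h1 x hx
      rw [mul_inv_eq_iff_eq_mul]
      exact h2.symm
    have hbR : Wielandt.res (MulAut.conj (b : G)) R (hInvR b b.2) = 1 := by
      apply Cfsg.Agent.S0121.result hR H hHchar hH1 hH2 hH3
      · exact Nat.Coprime.coprime_dvd_left (orderOf_dvd_of_pow_eq_one
          (Wielandt.res_pow_eq_one _ _ _ (hconj_pow b))) hcop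
      · intro x hx
        apply Subtype.ext
        show (b : G) * x * (b : G)⁻¹ = x
        exact hbK x ⟨x, hx, rfl⟩
    have hbC : (b : G) ∈ Subgroup.centralizer (R : Set G) := by
      rw [Subgroup.mem_centralizer_iff]
      intro r hr'
      have h1 := congrArg (fun f : MulAut ↥R => ((f ⟨r, hr'⟩ : ↥R) : G)) hbR
      have h2 : (b : G) * r * (b : G)⁻¹ = r := h1
      rw [mul_inv_eq_iff_eq_mul] at h2
      exact h2.symm
    have h3 : (b : G) ∈ A ⊓ Subgroup.centralizer (R : Set G) := ⟨b.2, hbC⟩
    rw [hfaith, Subgroup.mem_bot] at h3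
    exact Subtype.ext h3
  -- conclusion
  intro g
  have hgA : (g : G) ∈ (commutator ↥A).map A.subtype := by
    rw [Subgroup.map_subtype_commutator]; exact g.2
  obtain ⟨g', hg', hgg⟩ := hgA
  have h1 := hmain g' hg'
  have hb : ψ (g' ^ p) = 1 := by rw [map_pow]; exact h1
  have hord : orderOf (g' ^ p) ≠ 0 := (orderOf_pos _).ne'
  obtain ⟨k, m, hm, hkm⟩ := Nat.exists_eq_pow_mul_and_not_dvd hord p hpp.ne_one
  have hb0 : (g' ^ p) ^ (p ^ k) = 1 := by
    apply hkerl
    · rw [map_pow, hb, one_pow]
    · have h2 : ((g' ^ p) ^ (p ^ k)) ^ m = 1 := by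
        rw [← pow_mul, ← hkm, pow_orderOf_eq_one]
      have h3 : Nat.Coprime m p := ((Nat.Prime.coprime_iff_not_dvd hpp).mpr hm).symm
      exact Nat.Coprime.coprime_dvd_left (orderOf_dvd_of_pow_eq_one h2) h3
  refine ⟨k + 1, ?_⟩
  apply Subtype.ext
  have h4 : g' ^ (p ^ (k + 1)) = 1 := by
    rw [pow_succ', pow_mul]; exact hb0
  have h5 : ((g' : G)) ^ (p ^ (k + 1)) = 1 := by
    rw [← Subgroup.coe_pow, h4]; rfl
  have h6 : (g : G) = (g' : G) := hgg.symm
  show ((g ^ (p ^ (k + 1)) : ↥⁅A, A⁆) : G) = 1
  rw [Subgroup.coe_pow, h6]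
  exact h5

end Cfsg.Agent.Helper8.RankTwoAut
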