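import Mathlib
import Cfsg.Agent.Helper8.RankTwoAut
import Cfsg.Agent.Helper23.PSolv
import Cfsg.Agent.Helper23.Balance
import Cfsg.Agent.Helper23.SolvPSolv
import Cfsg.Prelude.Def_OddOrderLocal

set_option autoImplicit false

/-! # Groups of odd order acting on `p`-groups of rank at most two, II -/

namespace Cfsg.Agent.Helper8.RankTwoAut

open scoped commutatorElement
open Cfsg.Agent.Helper8

universe u

/-- The representation on the abelianization of `Ω₁` of a critical subgroup. -/
theorem exists_rep {G : Type u} [Group G] [Finite G] (p : ℕ) [Fact p.Prime] (hp : p ≠ 2)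
    (R A : Subgroup G) (hR : IsPGroup p R) (hr : Cfsg.PRankLE p 2 R)
    (hA : A ≤ Subgroup.normalizer (R : Set G)) :
    ∃ (V : Type u) (_ : CommGroup V) (_ : Finite V) (ψ : ↥A →* MulAut V),
      (∀ v : V, v ^ p = 1) ∧ Nat.card V ≤ p ^ 2 ∧
      ∀ b : ↥A, ψ b = 1 → Nat.Coprime (orderOf b) p →
        (b : G) ∈ Subgroup.centralizer (R : Set G) := by
  have hpp : p.Prime := Fact.out
  obtain ⟨H, hHchar, hH1, hH2, hH3⟩ := Cfsg.Agent.S0093.result (P := ↥R) hR
  have hKR : H.map R.subtype ≤ R := Subgroup.map_subtype_le H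
  have hInvR : ∀ a ∈ A, Wielandt.Inv (MulAut.conj a) R := fun a ha => Wielandt.inv_conj (hA ha)
  have hInvK : ∀ a ∈ A, Wielandt.Inv (MulAut.conj a) (H.map R.subtype) := by
    intro a ha
    apply Wielandt.inv_of_forall
    rintro _ ⟨h, hh, rfl⟩
    refine ⟨Wielandt.res (MulAut.conj a) R (hInvR a ha) h, ?_, rfl⟩
    have hc := Subgroup.characteristic_iff_comap_eq.mp hHchar
      (Wielandt.res (MulAut.conj a) R (hInvR a ha))
    have h1 : h ∈ H.comap (Wielandt.res (MulAut.conj a) R (hInvR a ha)).toMonoidHom := by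
      rw [hc]; exact hh
    exact h1
  have hk2 : ∀ x ∈ H.map R.subtype, ∀ y ∈ H.map R.subtype, ∀ z ∈ H.map R.subtype,
      ⁅x, y⁆ * z = z * ⁅x, y⁆ := by
    rintro _ ⟨x, hx, rfl⟩ _ ⟨y, hy, rfl⟩ _ ⟨z, hz, rfl⟩
    have h1 : ⁅x, y⁆ ∈ ⁅H, (⊤ : Subgroup ↥R)⁆ :=
      Subgroup.commutator_mem_commutator hx (Subgroup.mem_top y)
    have h2 : ⁅x, y⁆ ∈ Subgroup.centralizer (H : Set ↥R) := (hH2 h1).2
    rw [Subgroup.mem_centralizer_iff] at h2
    have h3 := h2 z hz
    have h4 := congrArg R.subtype h3
    rw [map_mul, map_mul, map_commutatorElement] at h4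
    exact h4.symm
  -- the subgroup generated by the elements of order `p` of the critical subgroup
  obtain ⟨E, hEdef⟩ : ∃ E : Subgroup G,
      E = Subgroup.closure {g : G | g ∈ H.map R.subtype ∧ g ^ p = 1} := ⟨_, rfl⟩
  have hEK : E ≤ H.map R.subtype := by
    rw [hEdef]; exact (Subgroup.closure_le _).mpr (fun g hg => hg.1)
  have hER : E ≤ R := hEK.trans hKR
  have hEmem : ∀ x ∈ H.map R.subtype, x ^ p = 1 → x ∈ E := by
    intro x hx hxp
    rw [hEdef]; exact Subgroup.subset_closure ⟨hx, hxp⟩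
  have hEexp : ∀ g ∈ E, g ^ p = 1 := by
    have hsmall : PowFormula.Small ↥(H.map R.subtype) p := by
      apply PowFormula.small_of_class2 hpp hp
      rw [Subgroup.commutator_eq_bot_iff_le_centralizer, commutator_def, Subgroup.commutator_le]
      intro a _ b _
      rw [Subgroup.mem_centralizer_iff]
      intro c _
      apply Subtype.ext
      exact (hk2 a a.2 b b.2 c c.2).symm
    have hle : E ≤ (Subgroup.closure {x : ↥(H.map R.subtype) | x ^ p = 1}).map
        (H.map R.subtype).subtype := by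
      rw [hEdef]
      apply (Subgroup.closure_le _).mpr
      rintro g ⟨hgK, hgp⟩
      exact ⟨⟨g, hgK⟩, Subgroup.subset_closure (Subtype.ext hgp), rfl⟩
    intro g hg
    obtain ⟨k, hk, rfl⟩ := hle hg
    have h1 := PowFormula.pow_eq_one_of_mem_closure hsmall k hk
    rw [← map_pow, h1, map_one]
  have hInvE : ∀ a ∈ A, Wielandt.Inv (MulAut.conj a) E := by
    intro a ha
    apply Wielandt.inv_of_forall
    intro x hx
    have hle : E ≤ E.comap (MulAut.conj a).toMonoidHom := by
      conv_lhs => rw [hEdef]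
      apply (Subgroup.closure_le _).mpr
      rintro g ⟨hgK, hgp⟩
      show (MulAut.conj a) g ∈ E
      apply hEmem
      · exact (hInvK a ha g).mpr hgK
      · rw [← map_pow, hgp, map_one]
    exact hle hx
  have hEp : IsPGroup p ↥E := hR.to_le hER
  have hab : ∀ B : Subgroup ↥E, IsMulCommutative B → Nat.card B ≤ p ^ 2 := by
    intro B hB
    have hB'le : B.map E.subtype ≤ R := (Subgroup.map_subtype_le B).trans hER
    have hc : Nat.card ↥((B.map E.subtype).subgroupOf R) = Nat.card B := by
      rw [Wielandt.card_subgroupOf, inf_of_le_right hB'le]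
      exact Nat.card_congr
        (Subgroup.equivMapOfInjective B E.subtype E.subtype_injective).symm.toEquiv
    rw [← hc]
    apply hr ((B.map E.subtype).subgroupOf R) inferInstance
    intro a ha
    have h1 : (a : G) ∈ B.map E.subtype := Subgroup.mem_subgroupOf.mp ha
    have h2 : (a : G) ∈ E := Subgroup.map_subtype_le B h1
    exact Subtype.ext (hEexp _ h2)
  have hclE : commutator ↥E ≤ Subgroup.center ↥E := by
    rw [commutator_def, Subgroup.commutator_le]
    intro a _ b _
    rw [Subgroup.mem_center_iff]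
    intro c
    apply Subtype.ext
    exact (hk2 a (hEK a.2) b (hEK b.2) c (hEK c.2)).symm
  have hidx := index_commutator_le hEp hclE hab
  -- the action on the abelianization
  have hcE1 : ∀ e : ↥E, Wielandt.res (MulAut.conj ((1 : ↥A) : G)) E (hInvE _ (1 : ↥A).2) e = e := by
    intro e
    apply Subtype.ext
    show (MulAut.conj ((1 : ↥A) : G)) (e : G) = e
    rw [Subgroup.coe_one, map_one]; rfl
  have hcEmul : ∀ (a b : ↥A) (e : ↥E),
      Wielandt.res (MulAut.conj ((a * b : ↥A) : G)) E (hInvE _ (a * b).2) e =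
        Wielandt.res (MulAut.conj (a : G)) E (hInvE _ a.2)
          (Wielandt.res (MulAut.conj (b : G)) E (hInvE _ b.2) e) := by
    intro a b e
    apply Subtype.ext
    show (MulAut.conj ((a * b : ↥A) : G)) (e : G) = (MulAut.conj (a : G)) ((MulAut.conj (b : G)) e)
    rw [Subgroup.coe_mul, map_mul]; rfl
  let ψ : ↥A →* MulAut (Abelianization ↥E) :=
    { toFun := fun a =>
        (Wielandt.res (MulAut.conj (a : G)) E (hInvE _ a.2)).abelianizationCongr
      map_one' := by
        apply MulEquiv.ext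
        intro v
        obtain ⟨e, rfl⟩ := QuotientGroup.mk_surjective v
        show (Wielandt.res (MulAut.conj ((1 : ↥A) : G)) E (hInvE _ (1 : ↥A).2)).abelianizationCongr
          (Abelianization.of e) = Abelianization.of e
        rw [abelianizationCongr_of, hcE1]
      map_mul' := by
        intro a b
        apply MulEquiv.ext
        intro v
        obtain ⟨e, rfl⟩ := QuotientGroup.mk_surjective v
        show (Wielandt.res (MulAut.conj ((a * b : ↥A) : G)) E
            (hInvE _ (a * b).2)).abelianizationCongr (Abelianization.of e) =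
          (Wielandt.res (MulAut.conj (a : G)) E (hInvE _ a.2)).abelianizationCongr
            ((Wielandt.res (MulAut.conj (b : G)) E (hInvE _ b.2)).abelianizationCongr
              (Abelianization.of e))
        rw [abelianizationCongr_of, abelianizationCongr_of,
          abelianizationCongr_of, hcEmul] }
  have hψ : ∀ (a : ↥A) (e : ↥E), ψ a (Abelianization.of e) =
      Abelianization.of (Wielandt.res (MulAut.conj (a : G)) E (hInvE _ a.2) e) :=
    fun a e => abelianizationCongr_of _ e
  have hVexp : ∀ v : Abelianization ↥E, v ^ p = 1 := by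
    intro v
    obtain ⟨e, rfl⟩ := QuotientGroup.mk_surjective v
    show (Abelianization.of e) ^ p = 1
    rw [← map_pow]
    have h1 : e ^ p = 1 := Subtype.ext (hEexp _ e.2)
    rw [h1, map_one]
  have hVcard : Nat.card (Abelianization ↥E) ≤ p ^ 2 := hidx
  -- conjugation powers
  have hconj_pow : ∀ (b : ↥A), (MulAut.conj (b : G)) ^ orderOf b = 1 := by
    intro b
    rw [← map_pow]
    have h1 : ((b : G)) ^ orderOf b = 1 := by
      rw [← Subgroup.coe_pow, pow_orderOf_eq_one]; rfl
    rw [h1, map_one]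
  -- the kernel of the action has no `p'`-elements
  have hkerl : ∀ b : ↥A, ψ b = 1 → Nat.Coprime (orderOf b) p →
      (b : G) ∈ Subgroup.centralizer (R : Set G) := by
    intro b hb hcop
    have hσ : Wielandt.res (MulAut.conj (b : G)) E (hInvE _ b.2) = 1 := by
      apply stab_trivial (p := p) (fun q => Subtype.ext (hEexp _ q.2)) hclE _ _
        (Wielandt.res_pow_eq_one _ _ _ (hconj_pow b)) hcop
      intro e
      have h1 : ψ b (Abelianization.of e) = Abelianization.of e := by rw [hb]; rfl
      rw [hψ] at h1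
      exact QuotientGroup.eq.mp h1.symm
    have hbE : ∀ e ∈ E, (b : G) * e * (b : G)⁻¹ = e := by
      intro e he
      have h1 := congrArg (fun f : MulAut ↥E => ((f ⟨e, he⟩ : ↥E) : G)) hσ
      exact h1
    have hb1443 : Subgroup.zpowers (b : G) ≤ Subgroup.centralizer ((H.map R.subtype : Subgroup G) : Set G) := by
      apply Cfsg.Agent.S1443.result p hp (H.map R.subtype) ⊥ (Subgroup.zpowers (b : G))
        (hR.to_le hKR) bot_le
      · refine ⟨inferInstance, ?_⟩
        intro a ha
        rw [Subgroup.mem_bot] at ha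
        rw [ha, one_pow]
      · rw [Subgroup.zpowers_le, Subgroup.mem_normalizer_iff]
        intro x
        exact (hInvK b b.2 x).symm
      · rw [Nat.card_zpowers, Subgroup.orderOf_coe]
        exact hcop
      · intro x hx hxo
        rw [Subgroup.zpowers_le, Subgroup.mem_centralizer_iff]
        intro y hy
        rw [Set.mem_singleton_iff] at hy
        rw [hy]
        have hxE : x ∈ E := hEmem x hx.1 (by rw [← hxo]; exact pow_orderOf_eq_one x)
        have h1 := hbE x hxE
        rw [mul_inv_eq_iff_eq_mul] at h1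
        exact h1.symm
    have hbK : ∀ x ∈ H.map R.subtype, (b : G) * x * (b : G)⁻¹ = x := by
      intro x hx
      have h1 := hb1443 (Subgroup.mem_zpowers (b : G))
      rw [Subgroup.mem_centralizer_iff] at h1
      have h2 := h1 x hx
      rw [mul_inv_eq_iff_eq_mul]
      exact h2.symm
    have hbR : Wielandt.res (MulAut.conj (b : G)) R (hInvR b b.2) = 1 := by
      apply Cfsg.Agent.S0121.result hR H hHchar hH1 hH2 hH3
      · exact Nat.Coprime.coprime_dvd_left (orderOf_dvd_of_pow_eq_one
          (Wielandt.res_pow_eq_one _ _ _ (hconj_pow b))) hcop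
      · intro x hx
        apply Subtype.ext
        show (b : G) * x * (b : G)⁻¹ = x
        exact hbK x ⟨x, hx, rfl⟩
    have hbC : (b : G) ∈ Subgroup.centralizer (R : Set G) := by
      rw [Subgroup.mem_centralizer_iff]
      intro r hr'
      have h1 := congrArg (fun f : MulAut ↥R => ((f ⟨r, hr'⟩ : ↥R) : G)) hbR
      have h2 : (b : G) * r * (b : G)⁻¹ = r := h1
      rw [mul_inv_eq_iff_eq_mul] at h2
      exact h2.symm
    exact hbC
  exact ⟨Abelianization ↥E, inferInstance, inferInstance, ψ, hVexp, hVcard, hkerl⟩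


/-- Version for a normal subgroup, with the whole group acting. -/
theorem exists_rep_top {G : Type u} [Group G] [Finite G] (p : ℕ) [Fact p.Prime] (hp : p ≠ 2)
    (R : Subgroup G) [hRn : R.Normal] (hR : IsPGroup p R) (hr : Cfsg.PRankLE p 2 R) :
    ∃ (V : Type u) (_ : CommGroup V) (_ : Finite V) (ψ : G →* MulAut V),
      (∀ v : V, v ^ p = 1) ∧ Nat.card V ≤ p ^ 2 ∧
      ∀ b : G, ψ b = 1 → Nat.Coprime (orderOf b) p →
        b ∈ Subgroup.centralizer (R : Set G) := by
  have hA : (⊤ : Subgroup G) ≤ Subgroup.normalizer (R : Set G) := by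
    intro g _
    rw [Subgroup.mem_normalizer_iff]
    intro h
    constructor
    · intro hh
      exact hRn.conj_mem h hh g
    · intro hh
      have h1 := hRn.conj_mem _ hh g⁻¹
      have e : g⁻¹ * (g * h * g⁻¹) * g⁻¹⁻¹ = h := by group
      rw [e] at h1
      exact h1
  obtain ⟨V, i1, i2, ψ, h1, h2, h3⟩ := exists_rep p hp R ⊤ hR hr hA
  refine ⟨V, i1, i2, ψ.comp (Subgroup.topEquiv (G := G)).symm.toMonoidHom, h1, h2, ?_⟩
  intro b hb hcop
  have hb' : ψ ⟨b, Subgroup.mem_top b⟩ = 1 := hb
  exact h3 ⟨b, Subgroup.mem_top b⟩ hb' (by rw [Subgroup.orderOf_mk]; exact hcop)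

/-- An automorphism of odd prime order `q ≠ p` of an elementary abelian `p`-group of order at
most `p ^ 2` forces `q < p`. -/
theorem prime_lt_of_aut {p q : ℕ} [Fact p.Prime] (hq : q.Prime) (hq2 : q ≠ 2) (hqp : q ≠ p)
    (hp2 : p ≠ 2) {V : Type*} [CommGroup V] [Finite V] (hVexp : ∀ v : V, v ^ p = 1)
    (hV : Nat.card V ≤ p ^ 2) (σ : MulAut V) (hσ : σ ^ q = 1) (hσ1 : σ ≠ 1) : q < p := by
  have hp : p.Prime := Fact.out
  haveI : Fact q.Prime := ⟨hq⟩
  have hVp : IsPGroup p V := fun v => ⟨1, by rw [pow_one]; exact hVexp v⟩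
  obtain ⟨a, ha⟩ := IsPGroup.iff_card.mp hVp
  obtain ⟨b, hb⟩ := IsPGroup.iff_card.mp (hVp.to_subgroup (Wielandt.fix σ))
  have ha2 : a ≤ 2 := by
    rw [ha] at hV
    exact (Nat.pow_le_pow_iff_right hp.one_lt).mp hV
  have hFne : Wielandt.fix σ ≠ ⊤ := by
    intro h
    apply hσ1
    apply MulEquiv.ext
    intro v
    have h1 : v ∈ Wielandt.fix σ := by rw [h]; exact Subgroup.mem_top v
    exact h1
  have hba : b < a := by
    have hle : Nat.card ↥(Wielandt.fix σ) ≤ Nat.card V := Subgroup.card_le_card_group _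
    have hne : Nat.card ↥(Wielandt.fix σ) ≠ Nat.card V :=
      fun h => hFne ((Subgroup.card_eq_iff_eq_top _).mp h)
    rw [ha, hb] at hle hne
    exact lt_of_le_of_ne ((Nat.pow_le_pow_iff_right hp.one_lt).mp hle)
      (fun h => hne (by rw [h]))
  have hmod : Nat.card V ≡ Nat.card ↥(Wielandt.fix σ) [MOD q] := by
    have hz : IsPGroup q ↥(Subgroup.zpowers σ) := by
      intro g
      refine ⟨1, Subtype.ext ?_⟩
      obtain ⟨k, hk⟩ := Subgroup.mem_zpowers_iff.mp g.2
      rw [pow_one, Subgroup.coe_pow, ← hk, ← zpow_natCast, ← zpow_mul, mul_comm, zpow_mul,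
        zpow_natCast, hσ, one_zpow]
      rfl
    have h1 := hz.card_modEq_card_fixedPoints (α := V)
    have e : Nat.card ↥(MulAction.fixedPoints ↥(Subgroup.zpowers σ) V) =
        Nat.card ↥(Wielandt.fix σ) := by
      apply Nat.card_congr
      refine Equiv.subtypeEquivRight ?_
      intro v
      constructor
      · intro hv
        exact hv ⟨σ, Subgroup.mem_zpowers σ⟩
      · intro hv g
        have hs : σ ∈ MulAction.stabilizer (MulAut V) v := hv
        have hg := (Subgroup.zpowers_le.mpr hs) g.2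
        exact MulAction.mem_stabilizer_iff.mp hg
    rw [e] at h1
    exact h1
  rw [ha, hb] at hmod
  have hdvd : q ∣ p ^ a - p ^ b :=
    (Nat.modEq_iff_dvd' (Nat.pow_le_pow_right hp.pos hba.le)).mp hmod.symm
  have hp3 : 2 ≤ p := hp.two_le
  have hcase1 : q ∣ p - 1 → q < p := by
    intro h
    have := Nat.le_of_dvd (by omega) h
    omega
  interval_cases a
  · omega
  · have hb0 : b = 0 := by omega
    subst hb0
    rw [pow_one, pow_zero] at hdvd
    exact hcase1 hdvd
  · have hb01 : b = 0 ∨ b = 1 := by omega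
    rcases hb01 with rfl | rfl
    · rw [pow_zero] at hdvd
      have e : p ^ 2 - 1 = (p + 1) * (p - 1) := by
        have := Nat.sq_sub_sq p 1
        rw [one_pow] at this
        exact this
      rw [e] at hdvd
      rcases (Nat.Prime.dvd_mul hq).mp hdvd with h | h
      · obtain ⟨t, ht⟩ := h
        obtain ⟨p', hp'⟩ := hp.odd_of_ne_two hp2
        obtain ⟨q', hq'⟩ := hq.odd_of_ne_two hq2
        have ht2 : 2 ≤ t := by
          by_contra hlt
          have ht01 : t = 0 ∨ t = 1 := by omega
          rcases ht01 with rfl | rfl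
          · omega
          · omega
        have := Nat.mul_le_mul_left q ht2
        omega
      · exact hcase1 h
    · rw [pow_one] at hdvd
      have e : p ^ 2 - p = p * (p - 1) := by
        rw [Nat.mul_sub_one, pow_two]
      rw [e] at hdvd
      rcases (Nat.Prime.dvd_mul hq).mp hdvd with h | h
      · exact absurd ((Nat.prime_dvd_prime_iff_eq hq hp).mp h) hqp
      · exact hcase1 h

/-- A finite solvable group of odd order acting on a normal `p`-subgroup of rank at most two. -/
theorem normal_rank_two {G : Type u} [Group G] [Finite G] (p : ℕ) [Fact p.Prime] (hp : p ≠ 2)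
    (R : Subgroup G) [R.Normal] (hR : IsPGroup p R) (hr : Cfsg.PRankLE p 2 R)
    (hodd : Odd (Nat.card G)) [Group.IsSolvable G] :
    (∀ g ∈ commutator G, ∃ k : ℕ, g ^ p ^ k ∈ Subgroup.centralizer (R : Set G)) ∧
    (∀ q : ℕ, q.Prime → q ≠ p → ∀ x : G, orderOf x = q →
      x ∉ Subgroup.centralizer (R : Set G) → q < p) := by
  have hpp : p.Prime := Fact.out
  obtain ⟨V, i1, i2, ψ, hVexp, hVcard, hker⟩ := exists_rep_top p hp R hR hr
  constructor
  · intro g hg
    have h1 := gl2_mul hp hVexp hVcard hodd ψ g hg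
    have hb : ψ (g ^ p) = 1 := by rw [map_pow]; exact h1
    have hord : orderOf (g ^ p) ≠ 0 := (orderOf_pos _).ne'
    obtain ⟨k, m, hm, hkm⟩ := Nat.exists_eq_pow_mul_and_not_dvd hord p hpp.ne_one
    refine ⟨k + 1, ?_⟩
    have h4 : g ^ (p ^ (k + 1)) = (g ^ p) ^ (p ^ k) := by rw [pow_succ', pow_mul]
    rw [h4]
    apply hker
    · rw [map_pow, hb, one_pow]
    · have h2 : ((g ^ p) ^ (p ^ k)) ^ m = 1 := by
        rw [← pow_mul, ← hkm, pow_orderOf_eq_one]
      have h3 : Nat.Coprime m p := ((Nat.Prime.coprime_iff_not_dvd hpp).mpr hm).symm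
      exact Nat.Coprime.coprime_dvd_left (orderOf_dvd_of_pow_eq_one h2) h3
  · intro q hq hqp x hx hxC
    have hq2 : q ≠ 2 := by
      intro hq2
      have h2 : 2 ∣ Nat.card G := by
        rw [← hq2, ← hx]; exact orderOf_dvd_natCard x
      exact (Nat.not_even_iff_odd.mpr hodd) (even_iff_two_dvd.mpr h2)
    have hψ1 : ψ x ≠ 1 := by
      intro h
      apply hxC
      apply hker x h
      rw [hx]
      exact (Nat.coprime_primes hq hpp).mpr hqp
    have hψq : (ψ x) ^ q = 1 := by rw [← map_pow, ← hx, pow_orderOf_eq_one, map_one]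
    exact prime_lt_of_aut hq hq2 hqp hp hVexp hVcard (ψ x) hψq hψ1

theorem pRankLE_subgroup {G : Type*} [Group G] {p k : ℕ} (H : Subgroup G)
    (h : Cfsg.PRankLE p k G) : Cfsg.PRankLE p k ↥H := by
  intro B hB hBp
  have hc : Nat.card ↥(B.map H.subtype) = Nat.card B :=
    Nat.card_congr (Subgroup.equivMapOfInjective B H.subtype H.subtype_injective).symm.toEquiv
  rw [← hc]
  apply h (B.map H.subtype) inferInstance
  rintro _ ⟨b, hb, rfl⟩
  rw [← map_pow, hBp b hb, map_one]

theorem pow_eq_of_mul_eq {p a k i n : ℕ} (hp : p.Prime) (hi : ¬ p ∣ i) (hn : n.Coprime p)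
    (h : p ^ a * i = n * p ^ k) : a = k := by
  apply le_antisymm
  · have h1 : p ^ a ∣ n * p ^ k := Dvd.intro _ h
    have h2 : Nat.Coprime (p ^ a) n := Nat.Coprime.pow_left a hn.symm
    exact (Nat.pow_dvd_pow_iff_le_right hp.one_lt).mp ((h2.dvd_mul_left).mp h1)
  · have h1 : p ^ k ∣ p ^ a * i := Dvd.intro_left _ h.symm
    have h2 : Nat.Coprime (p ^ k) i :=
      Nat.Coprime.pow_left k ((Nat.Prime.coprime_iff_not_dvd hp).mpr hi)
    exact (Nat.pow_dvd_pow_iff_le_right hp.one_lt).mp ((h2.dvd_mul_right).mp h1)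

/-- The `p`-rank does not grow in quotients by normal `p'`-subgroups. -/
theorem pRankLE_quotient {G : Type*} [Group G] [Finite G] (p k : ℕ) [Fact p.Prime]
    (N : Subgroup G) [N.Normal] (hN : (Nat.card N).Coprime p) (hr : Cfsg.PRankLE p k G) :
    Cfsg.PRankLE p k (G ⧸ N) := by
  have hp : p.Prime := Fact.out
  intro B hB hBp
  obtain ⟨P⟩ : Nonempty (Sylow p ↥(B.comap (QuotientGroup.mk' N))) := inferInstance
  obtain ⟨P', hP'def⟩ : ∃ P' : Subgroup G,
      P' = (P : Subgroup ↥(B.comap (QuotientGroup.mk' N))).map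
        (B.comap (QuotientGroup.mk' N)).subtype := ⟨_, rfl⟩
  have hP'M : P' ≤ B.comap (QuotientGroup.mk' N) := by
    rw [hP'def]; exact Subgroup.map_subtype_le _
  have hP'p : IsPGroup p ↥P' := by
    rw [hP'def]; exact P.isPGroup'.map _
  have hinj : ∀ x ∈ P', (QuotientGroup.mk' N) x = 1 → x = 1 := by
    intro x hx h1
    have hxN : x ∈ N := (QuotientGroup.eq_one_iff x).mp h1
    refine Cfsg.Agent.Helper23.eq_one_of_isPGroup_of_pow_eq_one hP'p hx hN ?_
    have h2 := pow_card_eq_one' (G := ↥N) (x := ⟨x, hxN⟩)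
    exact congrArg Subtype.val h2
  have hcomm : ∀ x ∈ P', ∀ y ∈ P', x * y = y * x := by
    intro x hx y hy
    have h1 : (QuotientGroup.mk' N) (x * y * (y * x)⁻¹) = 1 := by
      rw [map_mul, map_inv, map_mul, map_mul]
      have hxB : (QuotientGroup.mk' N) x ∈ B := hP'M hx
      have hyB : (QuotientGroup.mk' N) y ∈ B := hP'M hy
      have h2 := hB.is_comm.comm ⟨_, hxB⟩ ⟨_, hyB⟩
      have h3 : (QuotientGroup.mk' N) x * (QuotientGroup.mk' N) y =
          (QuotientGroup.mk' N) y * (QuotientGroup.mk' N) x := congrArg Subtype.val h2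
      rw [h3, mul_inv_cancel]
    have h3 := hinj _ (P'.mul_mem (P'.mul_mem hx hy) (P'.inv_mem (P'.mul_mem hy hx))) h1
    exact mul_inv_eq_one.mp h3
  have hexp : ∀ x ∈ P', x ^ p = 1 := by
    intro x hx
    apply hinj _ (P'.pow_mem hx p)
    rw [map_pow]
    exact hBp _ (hP'M hx)
  have hcardP' : Nat.card ↥P' ≤ p ^ k :=
    hr P' ⟨⟨fun a b => Subtype.ext (hcomm a a.2 b b.2)⟩⟩ hexp
  have hB_p : IsPGroup p ↥B := by
    intro b
    refine ⟨1, Subtype.ext ?_⟩
    rw [pow_one, Subgroup.coe_pow]
    exact hBp b b.2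
  obtain ⟨b, hb⟩ := IsPGroup.iff_card.mp hB_p
  obtain ⟨a, ha⟩ := IsPGroup.iff_card.mp hP'p
  have hcardM : Nat.card ↥(B.comap (QuotientGroup.mk' N)) = Nat.card ↥N * Nat.card ↥B := by
    have h1 : (B.comap (QuotientGroup.mk' N)).index = B.index :=
      Subgroup.index_comap_of_surjective B (QuotientGroup.mk'_surjective N)
    have h2 := Subgroup.card_mul_index (B.comap (QuotientGroup.mk' N))
    have h3 := Subgroup.card_mul_index B
    have h4 := Subgroup.card_mul_index N
    have h5 : N.index = Nat.card (G ⧸ N) := rfl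
    have hpos : 0 < B.index := Nat.pos_of_ne_zero Subgroup.index_ne_zero_of_finite
    apply Nat.eq_of_mul_eq_mul_right hpos
    calc Nat.card ↥(B.comap (QuotientGroup.mk' N)) * B.index
        = Nat.card ↥(B.comap (QuotientGroup.mk' N)) * (B.comap (QuotientGroup.mk' N)).index := by
          rw [h1]
      _ = Nat.card G := h2
      _ = Nat.card ↥N * N.index := h4.symm
      _ = Nat.card ↥N * (Nat.card ↥B * B.index) := by rw [h5, h3]
      _ = Nat.card ↥N * Nat.card ↥B * B.index := (mul_assoc _ _ _).symm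
  have hab : a = b := by
    have h1 := Subgroup.card_mul_index (P : Subgroup ↥(B.comap (QuotientGroup.mk' N)))
    have h2 : Nat.card ↥P' = Nat.card ↥(P : Subgroup ↥(B.comap (QuotientGroup.mk' N))) := by
      rw [hP'def]
      exact Nat.card_congr (Subgroup.equivMapOfInjective _
        (B.comap (QuotientGroup.mk' N)).subtype
        (B.comap (QuotientGroup.mk' N)).subtype_injective).symm.toEquiv
    have h3 : ¬ p ∣ (P : Subgroup ↥(B.comap (QuotientGroup.mk' N))).index := P.not_dvd_index
    apply pow_eq_of_mul_eq hp h3 hN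
    rw [← ha, h2, h1, hcardM, hb]
  rw [hb, ← hab, ← ha]
  exact hcardP'

theorem has_npc {G : Type u} [Group G] [Finite G] (p : ℕ) [Fact p.Prime] (N : Subgroup G)
    [hNn : N.Normal] (hN : (Nat.card N).Coprime p) (hidx : ∃ k : ℕ, N.index = p ^ k) :
    Cfsg.HasNormalPComplement p G := by
  have hp : p.Prime := Fact.out
  obtain ⟨P⟩ : Nonempty (Sylow p G) := inferInstance
  refine ⟨P, N, hNn, ?_⟩
  obtain ⟨k, hk⟩ := hidx
  obtain ⟨a, ha⟩ := IsPGroup.iff_card.mp P.isPGroup'
  have h1 := Subgroup.card_mul_index (P : Subgroup G)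
  have h2 := Subgroup.card_mul_index N
  have hak : a = k := by
    apply pow_eq_of_mul_eq hp P.not_dvd_index hN
    rw [← ha, h1, ← h2, hk]
  apply Subgroup.isComplement'_of_coprime
  · rw [ha, hak, ← hk]; exact h2
  · rw [ha]; exact Nat.Coprime.pow_right a hN

theorem normal_of_commutator_le {G : Type*} [Group G] {S : Subgroup G}
    (h : commutator G ≤ S) : S.Normal := by
  constructor
  intro s hs g
  have h1 : ⁅g, s⁆ ∈ S := h (by
    rw [commutator_def]
    exact Subgroup.commutator_mem_commutator (Subgroup.mem_top g) (Subgroup.mem_top s))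
  have e : g * s * g⁻¹ = ⁅g, s⁆ * s := by rw [commutatorElement_def]; group
  rw [e]
  exact S.mul_mem h1 hs

end Cfsg.Agent.Helper8.RankTwoAut
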