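import Mathlib
import Cfsg.Agent.Helper8.RankTwoAut2
import Cfsg.Prelude.Def_OddOrderLocal

set_option autoImplicit false

/-! # Solvable groups of odd order and `p`-rank at most two -/

namespace Cfsg.Agent.Helper8.RankTwoAut

open scoped commutatorElement
open Cfsg.Agent.Helper8

universe u

theorem s1450 {G : Type u} [Group G] [Finite G] [Group.IsSolvable G] (hodd : Odd (Nat.card G))
    (p : ℕ) [Fact p.Prime] (hpG : p ∣ Nat.card G) (hr : Cfsg.PRankLE p 2 G) :
    (∀ q : ℕ, q.Prime → q ∣ (Cfsg.pPrimeCore p G).index → q ≤ p) ∧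
      ((p = 3 ∨ ∀ q : ℕ, q.Prime → q ∣ Nat.card G → p ≤ q) → Cfsg.HasNormalPComplement p G) ∧
      Cfsg.HasNormalPComplement p ↥(commutator G) ∧
      (∀ L : Subgroup ↥(commutator G), (Nat.card L).Coprime p →
        L ≤ Cfsg.pPrimeCore p ↥(commutator G)) ∧
      commutator G ≤ Cfsg.pPrimePCore p G ∧ ((Cfsg.pPrimePCore p G).index).Coprime p := by
  have hpp : p.Prime := Fact.out
  have hp2 : p ≠ 2 := by
    intro h2
    rw [h2] at hpG
    exact (Nat.not_even_iff_odd.mpr hodd) (even_iff_two_dvd.mpr hpG)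
  haveI hNn : (Cfsg.pPrimeCore p G).Normal := Cfsg.Agent.Helper23.pPrimeCore_normal_fin p
  have hNc : (Nat.card ↥(Cfsg.pPrimeCore p G)).Coprime p :=
    Cfsg.Agent.Helper23.pPrimeCore_coprime p
  have hidx_dvd : (Cfsg.pPrimeCore p G).index ∣ Nat.card G := Subgroup.index_dvd_card _
  have hQodd : Odd (Nat.card (G ⧸ Cfsg.pPrimeCore p G)) := hodd.of_dvd_nat hidx_dvd
  have hrQ : Cfsg.PRankLE p 2 (G ⧸ Cfsg.pPrimeCore p G) := pRankLE_quotient p 2 _ hNc hr
  haveI hPn : (Cfsg.pCore p (G ⧸ Cfsg.pPrimeCore p G)).Normal :=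
    Cfsg.Agent.Helper23.pCore_normal_fin p
  have hP : IsPGroup p ↥(Cfsg.pCore p (G ⧸ Cfsg.pPrimeCore p G)) :=
    Cfsg.Agent.Helper23.pCore_isPGroup p
  have hrP := pRankLE_subgroup (Cfsg.pCore p (G ⧸ Cfsg.pPrimeCore p G)) hrQ
  have hC := Cfsg.Agent.Helper23.centralizer_pCore_quotient_le
    (Cfsg.Agent.Helper23.isPSolvable_of_isSolvable p G)
  obtain ⟨h1, h2⟩ := normal_rank_two p hp2 (Cfsg.pCore p (G ⧸ Cfsg.pPrimeCore p G)) hP hrP hQodd
  have hcomP : commutator (G ⧸ Cfsg.pPrimeCore p G) ≤ Cfsg.pCore p (G ⧸ Cfsg.pPrimeCore p G) := by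
    apply Cfsg.Agent.Helper23.le_pCore
      (inferInstance : (commutator (G ⧸ Cfsg.pPrimeCore p G)).Normal)
    intro g
    obtain ⟨k, hk⟩ := h1 g g.2
    obtain ⟨j, hj⟩ := hP ⟨(g : G ⧸ Cfsg.pPrimeCore p G) ^ p ^ k, hC hk⟩
    refine ⟨k + j, Subtype.ext ?_⟩
    have hj' : ((g : G ⧸ Cfsg.pPrimeCore p G) ^ p ^ k) ^ p ^ j = 1 := congrArg Subtype.val hj
    rw [Subgroup.coe_pow, pow_add, pow_mul]
    exact hj'
  have h5a : commutator G ≤ Cfsg.pPrimePCore p G := by
    rw [commutator_def, Subgroup.commutator_le]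
    intro a _ b _
    show (QuotientGroup.mk' (Cfsg.pPrimeCore p G)) ⁅a, b⁆ ∈
      Cfsg.pCore p (G ⧸ Cfsg.pPrimeCore p G)
    rw [map_commutatorElement]
    apply hcomP
    rw [commutator_def]
    exact Subgroup.commutator_mem_commutator (Subgroup.mem_top _) (Subgroup.mem_top _)
  have h5b : ((Cfsg.pPrimePCore p G).index).Coprime p := by
    have e : (Cfsg.pPrimePCore p G).index = (Cfsg.pCore p (G ⧸ Cfsg.pPrimeCore p G)).index :=
      Subgroup.index_comap_of_surjective _ (QuotientGroup.mk'_surjective _)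
    rw [e]
    obtain ⟨S⟩ : Nonempty (Sylow p (G ⧸ Cfsg.pPrimeCore p G)) := inferInstance
    have hPS : Cfsg.pCore p (G ⧸ Cfsg.pPrimeCore p G) ≤ S :=
      Cfsg.Agent.Helper23.le_sylow_of_normal hPn hP S
    have hSn : (S : Subgroup (G ⧸ Cfsg.pPrimeCore p G)).Normal :=
      normal_of_commutator_le (hcomP.trans hPS)
    have hSP : (S : Subgroup (G ⧸ Cfsg.pPrimeCore p G)) ≤ Cfsg.pCore p (G ⧸ Cfsg.pPrimeCore p G) :=
      Cfsg.Agent.Helper23.le_pCore hSn S.isPGroup'
    have hSeq : Cfsg.pCore p (G ⧸ Cfsg.pPrimeCore p G) = S := le_antisymm hPS hSP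
    rw [hSeq]
    exact ((Nat.Prime.coprime_iff_not_dvd hpp).mpr S.not_dvd_index).symm
  have hc1 : ∀ q : ℕ, q.Prime → q ∣ (Cfsg.pPrimeCore p G).index → q ≤ p := by
    intro q hq hqd
    by_cases hqp : q = p
    · exact hqp.le
    · haveI : Fact q.Prime := ⟨hq⟩
      obtain ⟨x, hx⟩ := exists_prime_orderOf_dvd_card' (G := G ⧸ Cfsg.pPrimeCore p G) q hqd
      have hxC : x ∉ Subgroup.centralizer
          ((Cfsg.pCore p (G ⧸ Cfsg.pPrimeCore p G) : Subgroup (G ⧸ Cfsg.pPrimeCore p G)) :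
            Set (G ⧸ Cfsg.pPrimeCore p G)) := by
        intro hxc
        obtain ⟨j, hj⟩ := hP ⟨x, hC hxc⟩
        have hj' : x ^ p ^ j = 1 := congrArg Subtype.val hj
        have h3 : q ∣ p ^ j := hx ▸ orderOf_dvd_of_pow_eq_one hj'
        exact hqp ((Nat.prime_dvd_prime_iff_eq hq hpp).mp (hq.dvd_of_dvd_pow h3))
      exact (h2 q hq hqp x hx hxC).le
  have hfker : ((QuotientGroup.mk' (Cfsg.pPrimeCore p G)).comp (commutator G).subtype).ker =
      (Cfsg.pPrimeCore p G).subgroupOf (commutator G) := by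
    ext d
    rw [MonoidHom.mem_ker, Subgroup.mem_subgroupOf]
    exact QuotientGroup.eq_one_iff (d : G)
  have hfP : ∀ d : ↥(commutator G), (QuotientGroup.mk' (Cfsg.pPrimeCore p G)) (d : G) ∈
      Cfsg.pCore p (G ⧸ Cfsg.pPrimeCore p G) := fun d => h5a d.2
  haveI hN'n : ((Cfsg.pPrimeCore p G).subgroupOf (commutator G)).Normal := inferInstance
  have hN'c : (Nat.card ↥((Cfsg.pPrimeCore p G).subgroupOf (commutator G))).Coprime p := by
    rw [Wielandt.card_subgroupOf]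
    exact Nat.Coprime.coprime_dvd_left (Subgroup.card_dvd_of_le inf_le_right) hNc
  refine ⟨hc1, ?_, ?_, ?_, h5a, h5b⟩
  · intro hcase
    apply has_npc p (Cfsg.pPrimeCore p G) hNc
    have hall : ∀ {d : ℕ}, d.Prime → d ∣ (Cfsg.pPrimeCore p G).index → d = p := by
      intro d hd hdd
      have hle := hc1 d hd hdd
      rcases hcase with h3 | hmin
      · have hd2 : d ≠ 2 := by
          intro hd2
          rw [hd2] at hdd
          exact (Nat.not_even_iff_odd.mpr hodd) (even_iff_two_dvd.mpr (hdd.trans hidx_dvd))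
        have := hd.two_le
        omega
      · exact le_antisymm hle (hmin d hd (hdd.trans hidx_dvd))
    exact ⟨_, Nat.eq_prime_pow_of_unique_prime_dvd Subgroup.index_ne_zero_of_finite hall⟩
  · apply has_npc p ((Cfsg.pPrimeCore p G).subgroupOf (commutator G)) hN'c
    rw [← hfker, Subgroup.index_ker]
    have hPr : IsPGroup p
        ↥((QuotientGroup.mk' (Cfsg.pPrimeCore p G)).comp (commutator G).subtype).range :=
      hP.to_le (by rintro _ ⟨d, rfl⟩; exact hfP d)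
    exact IsPGroup.iff_card.mp hPr
  · intro L hL
    refine le_trans ?_ (Cfsg.Agent.Helper23.le_pPrimeCore hN'n hN'c)
    intro l hl
    rw [← hfker, MonoidHom.mem_ker]
    have h3 : l ^ Nat.card L = 1 := by
      have h4 := pow_card_eq_one' (G := ↥L) (x := ⟨l, hl⟩)
      exact congrArg Subtype.val h4
    refine Cfsg.Agent.Helper23.eq_one_of_isPGroup_of_pow_eq_one hP (hfP l) hL ?_
    show ((QuotientGroup.mk' (Cfsg.pPrimeCore p G)) (l : G)) ^ Nat.card L = 1
    rw [← map_pow, ← Subgroup.coe_pow, h3, Subgroup.coe_one, map_one]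

end Cfsg.Agent.Helper8.RankTwoAut
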