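import Mathlib
import Cfsg.Agent.Helper8.RankTwoAut3
import Cfsg.Agent.Helper1.Fitting
import Cfsg.Agent.Helper7.Bender
import Cfsg.Prelude.Def_OddOrderLocal

set_option autoImplicit false

/-! # Solvable groups of odd order and rank at most two: the derived subgroup -/

namespace Cfsg.Agent.Helper8.RankTwoAut

open scoped commutatorElement
open Cfsg.Agent.Helper8

universe u

/-- A subgroup containing every element of prime power order is everything. -/
theorem eq_top_of_prime_power_elts {G : Type*} [Group G] [Finite G] (H : Subgroup G)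
    (h : ∀ (q : ℕ), q.Prime → ∀ (g : G) (j : ℕ), g ^ q ^ j = 1 → g ∈ H) : H = ⊤ := by
  rw [← Subgroup.index_eq_one]
  by_contra hne
  obtain ⟨q, hq, hqd⟩ := Nat.exists_prime_and_dvd hne
  haveI : Fact q.Prime := ⟨hq⟩
  obtain ⟨P⟩ : Nonempty (Sylow q G) := inferInstance
  have hPH : (P : Subgroup G) ≤ H := by
    intro x hx
    obtain ⟨j, hj⟩ := P.isPGroup' ⟨x, hx⟩
    exact h q hq x j (congrArg Subtype.val hj)
  exact P.not_dvd_index (hqd.trans (Subgroup.index_dvd_of_le hPH))

/-- If a finite group is generated by `r'`-elements and its `r`-elements are central, then its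
order is prime to `r`. -/
theorem not_dvd_card_of_central {X : Type*} [Group X] [Finite X] (r : ℕ) [Fact r.Prime]
    (S : Set X) (hS : Subgroup.closure S = ⊤)
    (hS' : ∀ s ∈ S, ∃ m : ℕ, m.Coprime r ∧ s ^ m = 1)
    (hc : ∀ y : X, (∃ i : ℕ, y ^ r ^ i = 1) → ∀ x : X, x * y = y * x) :
    ¬ r ∣ Nat.card X := by
  intro hdvd
  have hr : r.Prime := Fact.out
  obtain ⟨P⟩ : Nonempty (Sylow r X) := inferInstance
  have hPc : ∀ y ∈ (P : Subgroup X), ∀ x : X, x * y = y * x := by
    intro y hy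
    obtain ⟨i, hi⟩ := P.isPGroup' ⟨y, hy⟩
    exact hc y ⟨i, congrArg Subtype.val hi⟩
  haveI hPn : (P : Subgroup X).Normal := by
    constructor
    intro y hy g
    rw [hPc y hy g, mul_inv_cancel_right]
    exact hy
  have hcop : Nat.Coprime (Nat.card (P : Subgroup X)) (P : Subgroup X).index := by
    obtain ⟨a, ha⟩ := IsPGroup.iff_card.mp P.isPGroup'
    rw [ha]
    exact Nat.Coprime.pow_left a ((Nat.Prime.coprime_iff_not_dvd hr).mpr P.not_dvd_index)
  obtain ⟨K, hK⟩ := Subgroup.exists_right_complement'_of_coprime hcop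
  have hdis : Disjoint (P : Subgroup X) K := hK.disjoint
  have hSK : S ⊆ (K : Set X) := by
    intro s hs
    obtain ⟨m, hm, hsm⟩ := hS' s hs
    obtain ⟨⟨⟨y, hy⟩, ⟨k, hk⟩⟩, hyk, -⟩ := hK.existsUnique s
    have hyk' : y * k = s := hyk
    have hcomm : Commute y k := (hPc y hy k).symm
    have h1 : y ^ m * k ^ m = 1 := by rw [← hcomm.mul_pow, hyk', hsm]
    have h2 : y ^ m ∈ K := by
      have e : y ^ m = (k ^ m)⁻¹ := eq_inv_of_mul_eq_one_left h1
      rw [e]
      exact K.inv_mem (K.pow_mem hk m)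
    have h3 : y ^ m = 1 := by
      have h4 : y ^ m ∈ (P : Subgroup X) ⊓ K := ⟨Subgroup.pow_mem _ hy m, h2⟩
      rw [hdis.eq_bot, Subgroup.mem_bot] at h4
      exact h4
    have h5 : y = 1 :=
      Cfsg.Agent.Helper23.eq_one_of_isPGroup_of_pow_eq_one P.isPGroup' hy hm h3
    rw [← hyk', h5, one_mul]
    exact hk
  have hKtop : K = ⊤ := by
    rw [eq_top_iff, ← hS, Subgroup.closure_le]
    exact hSK
  rw [hKtop, disjoint_top] at hdis
  exact P.ne_bot_of_dvd_card hdvd hdis

theorem not_dvd_card_closure {G : Type*} [Group G] [Finite G] (r : ℕ) [Fact r.Prime]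
    (S : Set G) (hS' : ∀ s ∈ S, ∃ m : ℕ, m.Coprime r ∧ s ^ m = 1)
    (hc : ∀ y ∈ Subgroup.closure S, (∃ i : ℕ, y ^ r ^ i = 1) →
      ∀ x ∈ Subgroup.closure S, x * y = y * x) :
    ¬ r ∣ Nat.card ↥(Subgroup.closure S) := by
  apply not_dvd_card_of_central r (((↑) : ↥(Subgroup.closure S) → G) ⁻¹' S)
    (Subgroup.closure_closure_coe_preimage)
  · intro s hs
    obtain ⟨m, hm, hsm⟩ := hS' (s : G) hs
    exact ⟨m, hm, Subtype.ext hsm⟩
  · rintro y ⟨i, hi⟩ x
    refine Subtype.ext (hc y y.2 ⟨i, ?_⟩ x x.2)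
    rw [← Subgroup.coe_pow, hi]
    rfl

theorem closure_characteristic {G : Type*} [Group G] (S : Set G)
    (h : ∀ (φ : G ≃* G) (s : G), s ∈ S → φ s ∈ S) : (Subgroup.closure S).Characteristic := by
  rw [Subgroup.characteristic_iff_map_le]
  intro φ
  rw [MonoidHom.map_closure, Subgroup.closure_le]
  rintro _ ⟨s, hs, rfl⟩
  exact Subgroup.subset_closure (h φ s hs)

theorem pRankLE_of_injective {H K : Type*} [Group H] [Group K] {p k : ℕ} (f : H →* K)
    (hf : Function.Injective f) (h : Cfsg.PRankLE p k K) : Cfsg.PRankLE p k H := by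
  intro B hB hBp
  have hc : Nat.card ↥(B.map f) = Nat.card B :=
    Nat.card_congr (Subgroup.equivMapOfInjective B f hf).symm.toEquiv
  rw [← hc]
  apply h (B.map f) inferInstance
  rintro _ ⟨b, hb, rfl⟩
  rw [← map_pow, hBp b hb, map_one]

theorem le_normalizer_of_conj_mem {G : Type*} [Group G] {H K : Subgroup G}
    (h : ∀ n ∈ K, ∀ t ∈ H, n * t * n⁻¹ ∈ H) : K ≤ Subgroup.normalizer (H : Set G) := by
  intro n hn
  rw [Subgroup.mem_normalizer_iff]
  intro t
  constructor
  · exact h n hn t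
  · intro ht
    have h1 := h n⁻¹ (K.inv_mem hn) _ ht
    have e : n⁻¹ * (n * t * n⁻¹) * n⁻¹⁻¹ = t := by group
    rw [e] at h1
    exact h1

/-- Version of `normal_rank_two` for elements of prime power order. -/
theorem normal_rank_two_elt {G : Type u} [Group G] [Finite G] (p : ℕ) [Fact p.Prime]
    (hp : p ≠ 2) (R : Subgroup G) [R.Normal] (hR : IsPGroup p R) (hr : Cfsg.PRankLE p 2 R)
    (hodd : Odd (Nat.card G)) (q : ℕ) (hq : q.Prime) (hqp : q ≠ p) (x : G) (j : ℕ)
    (hx : x ^ q ^ j = 1) (hxC : x ∉ Subgroup.centralizer (R : Set G)) : q < p := by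
  have hpp : p.Prime := Fact.out
  obtain ⟨V, i1, i2, ψ, hVexp, hVcard, hker⟩ := exists_rep_top p hp R hR hr
  have hq2 : q ≠ 2 := by
    intro hq2
    have hx1 : x ∈ (⊥ : Subgroup G) :=
      Cfsg.Agent.Helper23.mem_of_pow_mem_of_coprime (a := 2 ^ j) (b := Nat.card G)
        (Nat.Coprime.pow_left j (Nat.coprime_two_left.mpr hodd))
        (by rw [← hq2, hx]; exact Subgroup.one_mem _)
        (by rw [pow_card_eq_one']; exact Subgroup.one_mem _)
    rw [Subgroup.mem_bot] at hx1
    exact hxC (hx1 ▸ Subgroup.one_mem _)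
  have hψ1 : ψ x ≠ 1 := by
    intro h
    apply hxC
    apply hker x h
    exact Nat.Coprime.coprime_dvd_left (orderOf_dvd_of_pow_eq_one hx)
      (Nat.Coprime.pow_left j ((Nat.coprime_primes hq hpp).mpr hqp))
  have hψq : (ψ x) ^ q ^ j = 1 := by rw [← map_pow, hx, map_one]
  have hex : ∃ i : ℕ, (ψ x) ^ q ^ i = 1 := ⟨j, hψq⟩
  classical
  have hi1 : (ψ x) ^ q ^ (Nat.find hex) = 1 := Nat.find_spec hex
  have hi0 : Nat.find hex ≠ 0 := by
    intro h0
    rw [h0, pow_zero, pow_one] at hi1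
    exact hψ1 hi1
  obtain ⟨i', hi'⟩ := Nat.exists_eq_succ_of_ne_zero hi0
  have hσ1 : (ψ x) ^ q ^ i' ≠ 1 := Nat.find_min hex (by omega)
  have hσq : ((ψ x) ^ q ^ i') ^ q = 1 := by
    rw [← pow_mul, ← pow_succ]
    rw [hi'] at hi1
    exact hi1
  exact prime_lt_of_aut hq hq2 hqp hp hVexp hVcard _ hσq hσ1

theorem isPGroup_zpowers_of_pow {G : Type*} [Group G] {p : ℕ} [Fact p.Prime] {g : G} {i : ℕ}
    (h : g ^ p ^ i = 1) : IsPGroup p ↥(Subgroup.zpowers g) := by
  have hp : p.Prime := Fact.out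
  obtain ⟨k, -, hk⟩ := (Nat.dvd_prime_pow hp).mp (orderOf_dvd_of_pow_eq_one h)
  exact IsPGroup.of_card (n := k) (by rw [Nat.card_zpowers, hk])

/-- The subgroup generated by the `q`-elements of the derived subgroup. -/
def xq (G : Type*) [Group G] (q : ℕ) : Subgroup G :=
  Subgroup.closure {g : G | g ∈ commutator G ∧ ∃ j : ℕ, g ^ q ^ j = 1}

theorem xq_le (G : Type*) [Group G] (q : ℕ) : xq G q ≤ commutator G := by
  rw [xq, Subgroup.closure_le]
  exact fun g hg => hg.1

theorem mem_xq {G : Type*} [Group G] {q : ℕ} {g : G} (hg : g ∈ commutator G) (j : ℕ)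
    (h : g ^ q ^ j = 1) : g ∈ xq G q :=
  Subgroup.subset_closure ⟨hg, j, h⟩

instance xq_char (G : Type*) [Group G] (q : ℕ) : (xq G q).Characteristic := by
  apply closure_characteristic
  rintro φ s ⟨hs, j, hj⟩
  refine ⟨?_, j, ?_⟩
  · have hc : (commutator G).Characteristic := by
      rw [commutator_def]
      exact Subgroup.commutator_characteristic ⊤ ⊤
    exact (Subgroup.characteristic_iff_le_comap.mp hc φ) hs
  · rw [← map_pow, hj, map_one]

theorem rank_hyp {G : Type u} [Group G] [Finite G] [Group.IsSolvable G]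
    (hodd : Odd (Nat.card G))
    (hr : Cfsg.RankLE 2 G ∨ Cfsg.RankLE 2 (Cfsg.fittingSubgroup G)) :
    (∀ p : ℕ, p.Prime → ∀ g ∈ commutator G,
      ∃ k : ℕ, g ^ p ^ k ∈ Subgroup.centralizer (Cfsg.pCore p G : Set G)) ∧
    (∀ p q : ℕ, p.Prime → q.Prime → q ≠ p → ∀ (x : G) (j : ℕ), x ^ q ^ j = 1 →
      x ∉ Subgroup.centralizer (Cfsg.pCore p G : Set G) → q < p) := by
  have key : ∀ p : ℕ, p.Prime → p ≠ 2 →
      (∀ g ∈ commutator G,
        ∃ k : ℕ, g ^ p ^ k ∈ Subgroup.centralizer (Cfsg.pCore p G : Set G)) ∧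
      (∀ q : ℕ, q.Prime → q ≠ p → ∀ (x : G) (j : ℕ), x ^ q ^ j = 1 →
        x ∉ Subgroup.centralizer (Cfsg.pCore p G : Set G) → q < p) := by
    intro p hp hp2
    haveI : Fact p.Prime := ⟨hp⟩
    haveI : (Cfsg.pCore p G).Normal := Cfsg.Agent.Helper1.pCore_normal p G
    have hP : IsPGroup p ↥(Cfsg.pCore p G) := Cfsg.Agent.Helper1.pCore_isPGroup p G
    have hRk : Cfsg.PRankLE p 2 ↥(Cfsg.pCore p G) := by
      rcases hr with h | h
      · exact pRankLE_subgroup _ (h p hp)
      · exact pRankLE_of_injective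
          (Subgroup.inclusion (Cfsg.Agent.Helper1.pCore_le_fitting p))
          (Subgroup.inclusion_injective _) (h p hp)
    exact ⟨(normal_rank_two p hp2 _ hP hRk hodd).1,
      fun q hq hqp x j hx hxC => normal_rank_two_elt p hp2 _ hP hRk hodd q hq hqp x j hx hxC⟩
  have h2 : Subgroup.centralizer (Cfsg.pCore 2 G : Set G) = ⊤ := by
    rw [eq_top_iff]
    intro x _
    rw [Subgroup.mem_centralizer_iff]
    intro y hy
    obtain ⟨k, hk⟩ := (Cfsg.Agent.Helper1.pCore_isPGroup 2 G) ⟨y, hy⟩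
    have hk' : y ^ 2 ^ k = 1 := congrArg Subtype.val hk
    have hy1 : y ∈ (⊥ : Subgroup G) :=
      Cfsg.Agent.Helper23.mem_of_pow_mem_of_coprime (a := 2 ^ k) (b := Nat.card G)
        (Nat.Coprime.pow_left k (Nat.coprime_two_left.mpr hodd))
        (by rw [hk']; exact Subgroup.one_mem _)
        (by rw [pow_card_eq_one']; exact Subgroup.one_mem _)
    rw [Subgroup.mem_bot] at hy1
    rw [hy1, one_mul, mul_one]
  constructor
  · intro p hp g hg
    by_cases hp2 : p = 2
    · subst hp2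
      exact ⟨0, by rw [h2]; exact Subgroup.mem_top _⟩
    · exact (key p hp hp2).1 g hg
  · intro p q hp hq hqp x j hx hxC
    by_cases hp2 : p = 2
    · subst hp2
      exact absurd (by rw [h2]; exact Subgroup.mem_top _) hxC
    · exact (key p hp hp2).2 q hq hqp x j hx hxC

theorem mem_fitting_of_centralizes {G : Type u} [Group G] [Finite G] [Group.IsSolvable G]
    (x : G)
    (hx : ∀ p : ℕ, p.Prime → x ∈ Subgroup.centralizer (Cfsg.pCore p G : Set G)) :
    x ∈ Cfsg.fittingSubgroup G := by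
  have h1 : x ∈ Subgroup.centralizer (Cfsg.fittingSubgroup G : Set G) := by
    have h2 : Cfsg.fittingSubgroup G ≤ Subgroup.centralizer ({x} : Set G) := by
      rw [Cfsg.Agent.Helper1.fitting_eq_iSup]
      apply iSup_le
      intro p y hy
      rw [Subgroup.mem_centralizer_iff]
      intro z hz
      rw [Set.mem_singleton_iff] at hz
      subst hz
      exact (Subgroup.mem_centralizer_iff.mp (hx p (Nat.prime_of_mem_primeFactors p.2)) y hy).symm
    rw [Subgroup.mem_centralizer_iff]
    intro y hy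
    exact (Subgroup.mem_centralizer_iff.mp (h2 hy) x rfl).symm
  haveI : (Cfsg.fittingSubgroup G).Normal := Cfsg.Agent.Helper1.fitting_normal G
  have hCn : (Subgroup.centralizer (Cfsg.fittingSubgroup G : Set G)).Normal :=
    Subgroup.normal_centralizer
  exact Cfsg.Agent.Helper7.solvable_subnormal_le_fitting (Subgroup.Normal.isSubnormal hCn)
    le_rfl inferInstance h1

theorem mem_pCore_of_mem_fitting {G : Type*} [Group G] [Finite G] (r : ℕ) [Fact r.Prime]
    (y : G) (hy : y ∈ Cfsg.fittingSubgroup G) (i : ℕ) (hyi : y ^ r ^ i = 1) :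
    y ∈ Cfsg.pCore r G := by
  have hz : IsPGroup r ↥(Subgroup.zpowers (⟨y, hy⟩ : ↥(Cfsg.fittingSubgroup G))) :=
    isPGroup_zpowers_of_pow (i := i) (Subtype.ext hyi)
  obtain ⟨P, hP⟩ := hz.exists_le_sylow
  have hPn := Cfsg.Agent.Helper1.sylow_of_normal_nilpotent_normal
    (Cfsg.Agent.Helper1.fitting_normal G) Cfsg.Agent.Helper1.fitting_isNilpotent r P
  have hPp : IsPGroup r
      ↥((P : Subgroup ↥(Cfsg.fittingSubgroup G)).map (Cfsg.fittingSubgroup G).subtype) :=
    P.isPGroup'.map _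
  apply Cfsg.Agent.Helper1.le_pCore hPn hPp
  exact ⟨⟨y, hy⟩, hP (Subgroup.mem_zpowers _), rfl⟩

theorem xq_isPGroup {G : Type u} [Group G] [Finite G] [Group.IsSolvable G]
    (hN1 : ∀ p : ℕ, p.Prime → ∀ g ∈ commutator G,
      ∃ k : ℕ, g ^ p ^ k ∈ Subgroup.centralizer (Cfsg.pCore p G : Set G))
    (q : ℕ) (hq : q.Prime) : IsPGroup q ↥(xq G q) := by
  have hA : ∀ p : ℕ, p.Prime → p ≠ q →
      xq G q ≤ Subgroup.centralizer (Cfsg.pCore p G : Set G) := by
    intro p hp hpq
    rw [xq, Subgroup.closure_le]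
    rintro g ⟨hg, j, hj⟩
    obtain ⟨k, hk⟩ := hN1 p hp g hg
    exact Cfsg.Agent.Helper23.mem_of_pow_mem_of_coprime (a := p ^ k) (b := q ^ j)
      (Nat.Coprime.pow k j ((Nat.coprime_primes hp hq).mpr hpq)) hk
      (by rw [hj]; exact Subgroup.one_mem _)
  have hB : ∀ x ∈ xq G q, ∃ k : ℕ, x ^ q ^ k ∈ Cfsg.fittingSubgroup G := by
    intro x hx
    obtain ⟨k, hk⟩ := hN1 q hq x (xq_le G q hx)
    refine ⟨k, mem_fitting_of_centralizes _ ?_⟩
    intro p hp
    by_cases hpq : p = q
    · subst hpq; exact hk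
    · exact hA p hp hpq (Subgroup.pow_mem _ hx _)
  have hD : ∀ r : ℕ, r.Prime → r ∣ Nat.card ↥(xq G q) → r = q := by
    intro r hr hrd
    by_contra hrq
    haveI : Fact r.Prime := ⟨hr⟩
    refine not_dvd_card_closure r {g : G | g ∈ commutator G ∧ ∃ j : ℕ, g ^ q ^ j = 1}
      ?_ ?_ hrd
    · rintro s ⟨-, j, hj⟩
      exact ⟨q ^ j, Nat.Coprime.pow_left j ((Nat.coprime_primes hq hr).mpr (Ne.symm hrq)), hj⟩
    · rintro y hy ⟨i, hi⟩ x hx
      obtain ⟨k, hk⟩ := hB y hy
      have hyF : y ∈ Cfsg.fittingSubgroup G :=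
        Cfsg.Agent.Helper23.mem_of_pow_mem_of_coprime (a := q ^ k) (b := r ^ i)
          (Nat.Coprime.pow k i ((Nat.coprime_primes hq hr).mpr (Ne.symm hrq))) hk
          (by rw [hi]; exact Subgroup.one_mem _)
      have hyP : y ∈ Cfsg.pCore r G := mem_pCore_of_mem_fitting r y hyF i hi
      exact (Subgroup.mem_centralizer_iff.mp (hA r hr hrq hx) y hyP).symm
  have hcard := Nat.eq_prime_pow_of_unique_prime_dvd (Nat.card_pos (α := ↥(xq G q))).ne'
    (fun {d} hd hdd => hD d hd hdd)
  exact IsPGroup.of_card hcard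

theorem comm_nilpotent {G : Type u} [Group G] [Finite G]
    (hX : ∀ q : ℕ, q.Prime → IsPGroup q ↥(xq G q)) : Group.IsNilpotent ↥(commutator G) := by
  refine ((Group.isNilpotent_of_finite_tfae (G := ↥(commutator G))).out 0 3).mpr ?_
  intro q hq P
  have hqp : q.Prime := hq.out
  have hle : (P : Subgroup ↥(commutator G)) ≤ (xq G q).subgroupOf (commutator G) := by
    intro x hx
    obtain ⟨j, hj⟩ := P.isPGroup' ⟨x, hx⟩
    have hj' : x ^ q ^ j = 1 := congrArg Subtype.val hj
    rw [Subgroup.mem_subgroupOf]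
    refine mem_xq x.2 j ?_
    rw [← Subgroup.coe_pow, hj']
    rfl
  have hp : IsPGroup q ↥((xq G q).subgroupOf (commutator G)) := (hX q hqp).comap_subtype
  have heq := P.is_maximal' hp hle
  rw [← heq]
  infer_instance

theorem char_normal {G : Type u} [Group G] [Finite G]
    (hX : ∀ q : ℕ, q.Prime → IsPGroup q ↥(xq G q))
    (q : ℕ) [Fact q.Prime] (S : Sylow q G) (T : Subgroup ↥(S : Subgroup G))
    (hT : T.Characteristic)
    (hTS : T.map (S : Subgroup G).subtype ≤ ⁅(S : Subgroup G), (S : Subgroup G)⁆) :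
    (T.map (S : Subgroup G).subtype).Normal := by
  have hq : q.Prime := Fact.out
  have hTD : T.map (S : Subgroup G).subtype ≤ commutator G := by
    refine hTS.trans ?_
    rw [commutator_def]
    exact Subgroup.commutator_mono le_top le_top
  have hTS' : T.map (S : Subgroup G).subtype ≤ (S : Subgroup G) := Subgroup.map_subtype_le T
  have hTX : T.map (S : Subgroup G).subtype ≤ xq G q := by
    intro t ht
    obtain ⟨j, hj⟩ := S.isPGroup' ⟨t, hTS' ht⟩
    exact mem_xq (hTD ht) j (congrArg Subtype.val hj)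
  have hXS : xq G q ≤ (S : Subgroup G) :=
    Cfsg.Agent.Helper23.le_sylow_of_normal inferInstance (hX q hq) S
  have hNS : Subgroup.normalizer ((S : Subgroup G) : Set G) ≤
      Subgroup.normalizer ((T.map (S : Subgroup G).subtype : Subgroup G) : Set G) := by
    apply le_normalizer_of_conj_mem
    rintro n hn _ ⟨t, ht, rfl⟩
    have hinv := Wielandt.inv_conj hn
    have h1 : t ∈ T.comap (Wielandt.res (MulAut.conj n) (S : Subgroup G) hinv).toMonoidHom := by
      rw [hT.fixed]; exact ht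
    exact ⟨_, h1, rfl⟩
  have hgen : ∀ (r : ℕ), r.Prime → ∀ (d : ↥(commutator G)) (j : ℕ), d ^ r ^ j = 1 →
      d ∈ (Subgroup.normalizer
        ((T.map (S : Subgroup G).subtype : Subgroup G) : Set G)).subgroupOf (commutator G) := by
    intro r hr d j hdj
    rw [Subgroup.mem_subgroupOf]
    have hdX : (d : G) ∈ xq G r := by
      refine mem_xq d.2 j ?_
      rw [← Subgroup.coe_pow, hdj]
      rfl
    by_cases hrq : r = q
    · rw [hrq] at hdX
      exact hNS (Subgroup.le_normalizer (hXS hdX))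
    · haveI : Fact r.Prime := ⟨hr⟩
      have hdis : Disjoint (xq G r) (xq G q) :=
        IsPGroup.disjoint_of_ne r q hrq _ _ (hX r hr) (hX q hq)
      have hle : xq G r ≤ Subgroup.normalizer
          ((T.map (S : Subgroup G).subtype : Subgroup G) : Set G) := by
        apply le_normalizer_of_conj_mem
        intro n hn t ht
        have hc : Commute n t := Subgroup.commute_of_normal_of_disjoint (xq G r) (xq G q)
          inferInstance inferInstance hdis n t hn (hTX ht)
        have e : n * t * n⁻¹ = t := by rw [hc.eq, mul_inv_cancel_right]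
        rw [e]; exact ht
      exact hle hdX
  have hDN : commutator G ≤ Subgroup.normalizer
      ((T.map (S : Subgroup G).subtype : Subgroup G) : Set G) := by
    have htop := eq_top_of_prime_power_elts _ hgen
    intro d hd
    have h1 : (⟨d, hd⟩ : ↥(commutator G)) ∈ (⊤ : Subgroup ↥(commutator G)) :=
      Subgroup.mem_top _
    rw [← htop, Subgroup.mem_subgroupOf] at h1
    exact h1
  haveI hNn : ((S : Subgroup G) ⊔ commutator G).Normal := normal_of_commutator_le le_sup_right
  have hFr := Sylow.normalizer_sup_eq_top' S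
    (le_sup_left : (S : Subgroup G) ≤ (S : Subgroup G) ⊔ commutator G)
  have htop : Subgroup.normalizer
      ((T.map (S : Subgroup G).subtype : Subgroup G) : Set G) = ⊤ := by
    rw [eq_top_iff, ← hFr]
    exact sup_le hNS (sup_le ((Subgroup.le_normalizer).trans hNS) hDN)
  exact Subgroup.normalizer_eq_top_iff.mp htop

theorem hall_exists {G : Type u} [Group G] [Finite G]
    (hX : ∀ q : ℕ, q.Prime → IsPGroup q ↥(xq G q))
    (hN2 : ∀ p q : ℕ, p.Prime → q.Prime → q ≠ p → ∀ (x : G) (j : ℕ), x ^ q ^ j = 1 →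
      x ∉ Subgroup.centralizer (Cfsg.pCore p G : Set G) → q < p) (p : ℕ) :
    ∃ N : Subgroup G, N.Characteristic ∧ Cfsg.IsPiHall {q | q.Prime ∧ p < q} N := by
  refine ⟨Subgroup.closure {g : G | ∃ q : ℕ, q.Prime ∧ p < q ∧ ∃ j : ℕ, g ^ q ^ j = 1},
    ?_, ?_, ?_⟩
  · apply closure_characteristic
    rintro φ s ⟨q, hq, hpq, j, hj⟩
    exact ⟨q, hq, hpq, j, by rw [← map_pow, hj, map_one]⟩
  · intro r hr hrd
    refine ⟨hr, ?_⟩
    by_contra hrp
    have hrp' : r ≤ p := not_lt.mp hrp
    haveI : Fact r.Prime := ⟨hr⟩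
    refine not_dvd_card_closure r _ ?_ ?_ hrd
    · rintro s ⟨q, hq, hpq, j, hj⟩
      exact ⟨q ^ j, Nat.Coprime.pow_left j ((Nat.coprime_primes hq hr).mpr (by omega)), hj⟩
    · rintro y hy ⟨i, hi⟩ x hx
      have hNC : Subgroup.closure
          {g : G | ∃ q : ℕ, q.Prime ∧ p < q ∧ ∃ j : ℕ, g ^ q ^ j = 1} ≤
          Subgroup.centralizer (Cfsg.pCore r G : Set G) := by
        rw [Subgroup.closure_le]
        rintro g ⟨q, hq, hpq, j, hj⟩
        by_contra hgC
        have := hN2 r q hr hq (by omega) g j hj hgC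
        omega
      have hyD : y ∈ commutator G := by
        have hncop : (Nat.card G / r ^ (Nat.card G).factorization r).Coprime r :=
          (Nat.coprime_ordCompl hr (Nat.card_pos (α := G)).ne').symm
        have hdecomp : r ^ (Nat.card G).factorization r *
            (Nat.card G / r ^ (Nat.card G).factorization r) = Nat.card G :=
          Nat.ordProj_mul_ordCompl_eq_self _ _
        have hker : Subgroup.closure
            {g : G | ∃ q : ℕ, q.Prime ∧ p < q ∧ ∃ j : ℕ, g ^ q ^ j = 1} ≤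
            ((powMonoidHom (Nat.card G / r ^ (Nat.card G).factorization r)).comp
              (Abelianization.of (G := G))).ker := by
          rw [Subgroup.closure_le]
          rintro g ⟨q, hq, hpq, j, hj⟩
          have hgn : g ^ (Nat.card G / r ^ (Nat.card G).factorization r) = 1 := by
            have h1 : orderOf g ∣ q ^ j := orderOf_dvd_of_pow_eq_one hj
            have h2 : orderOf g ∣ r ^ (Nat.card G).factorization r *
                (Nat.card G / r ^ (Nat.card G).factorization r) := by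
              rw [hdecomp]; exact orderOf_dvd_natCard g
            have h3 : Nat.Coprime (orderOf g) (r ^ (Nat.card G).factorization r) :=
              Nat.Coprime.coprime_dvd_left h1
                (Nat.Coprime.pow _ _ ((Nat.coprime_primes hq hr).mpr (by omega)))
            exact orderOf_dvd_iff_pow_eq_one.mp (h3.dvd_of_dvd_mul_left h2)
          show (Abelianization.of g) ^ (Nat.card G / r ^ (Nat.card G).factorization r) = 1
          rw [← map_pow, hgn, map_one]
        have h4 : (Abelianization.of y) ^ (Nat.card G / r ^ (Nat.card G).factorization r) = 1 :=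
          hker hy
        have h5 : y ^ (Nat.card G / r ^ (Nat.card G).factorization r) ∈ commutator G := by
          rw [← Abelianization.ker_of, MonoidHom.mem_ker, map_pow]
          exact h4
        exact Cfsg.Agent.Helper23.mem_of_pow_mem_of_coprime
          (a := Nat.card G / r ^ (Nat.card G).factorization r) (b := r ^ i)
          (Nat.Coprime.pow_right i hncop) h5 (by rw [hi]; exact Subgroup.one_mem _)
      have hyX : y ∈ xq G r := mem_xq hyD i hi
      have hyP : y ∈ Cfsg.pCore r G :=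
        Cfsg.Agent.Helper1.le_pCore inferInstance (hX r hr) hyX
      exact (Subgroup.mem_centralizer_iff.mp (hNC hx) y hyP).symm
  · intro q hq hqπ
    obtain ⟨-, hpq⟩ := hqπ
    haveI : Fact q.Prime := ⟨hq⟩
    obtain ⟨Q⟩ : Nonempty (Sylow q G) := inferInstance
    have hQN : (Q : Subgroup G) ≤ Subgroup.closure
        {g : G | ∃ q : ℕ, q.Prime ∧ p < q ∧ ∃ j : ℕ, g ^ q ^ j = 1} := by
      intro x hx
      obtain ⟨j, hj⟩ := Q.isPGroup' ⟨x, hx⟩
      exact Subgroup.subset_closure ⟨q, hq, hpq, j, congrArg Subtype.val hj⟩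
    intro hdvd
    exact Q.not_dvd_index (hdvd.trans (Subgroup.index_dvd_of_le hQN))

theorem s1451 {G : Type u} [Group G] [Finite G] [Group.IsSolvable G]
    (hodd : Odd (Nat.card G))
    (hr : Cfsg.RankLE 2 G ∨ Cfsg.RankLE 2 (Cfsg.fittingSubgroup G)) :
    Group.IsNilpotent ↥(commutator G) ∧
      (∀ (q : ℕ) [Fact q.Prime] (S : Sylow q G) (T : Subgroup ↥(S : Subgroup G)),
        T.Characteristic →
        T.map (S : Subgroup G).subtype ≤ ⁅(S : Subgroup G), (S : Subgroup G)⁆ →
        (T.map (S : Subgroup G).subtype).Normal) ∧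
      ∀ p : ℕ, ∃ N : Subgroup G, N.Characteristic ∧
        Cfsg.IsPiHall {q | q.Prime ∧ p < q} N := by
  obtain ⟨hN1, hN2⟩ := rank_hyp hodd hr
  have hX : ∀ q : ℕ, q.Prime → IsPGroup q ↥(xq G q) := xq_isPGroup hN1
  exact ⟨comm_nilpotent hX, fun q _ S T hT hTS => char_normal hX q S T hT hTS,
    hall_exists hX hN2⟩

end Cfsg.Agent.Helper8.RankTwoAut
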