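import Mathlib

set_option autoImplicit false

namespace Cfsg.Agent.Helper8.S4349c

open Equiv Equiv.Perm

/-- pure group theory: an involution `t` commuting with `x * x` and with `x * t * x⁻¹`. -/
theorem grp {G : Type*} [Group G] (t x : G) (h1 : t * t = 1) (h2 : t * (x * x) = (x * x) * t)
    (h3 : t * (x * t * x⁻¹) = (x * t * x⁻¹) * t) :
    (t * (x * t * x⁻¹)) * (t * (x * t * x⁻¹)) = 1 ∧
    (t * (x * t * x⁻¹)) * x = x * (t * (x * t * x⁻¹)) ∧
    t * x * t⁻¹ = (t * (x * t * x⁻¹)) * x := by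
  have htinv : t⁻¹ = t := inv_eq_of_mul_eq_one_right h1
  obtain ⟨u, hu⟩ : ∃ u, u = x * t * x⁻¹ := ⟨_, rfl⟩
  rw [← hu] at h3 ⊢
  have huu : u * u = 1 := by
    rw [hu]
    calc x * t * x⁻¹ * (x * t * x⁻¹) = x * (t * t) * x⁻¹ := by group
      _ = 1 := by rw [h1]; group
  have hux : u * x = x * t := by rw [hu]; group
  have hxu : x * u = x * x * t * x⁻¹ := by rw [hu]; group
  refine ⟨?_, ?_, ?_⟩
  · calc t * u * (t * u) = t * (u * t) * u := by group
      _ = t * (t * u) * u := by rw [← h3]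
      _ = (t * t) * (u * u) := by group
      _ = 1 := by rw [h1, huu, one_mul]
  · calc t * u * x = t * (u * x) := by group
      _ = t * (x * t) := by rw [hux]
      _ = t * (x * x) * x⁻¹ * t := by group
      _ = x * x * t * x⁻¹ * t := by rw [h2]
      _ = x * u * t := by rw [hxu]
      _ = x * (u * t) := by group
      _ = x * (t * u) := by rw [h3]
  · rw [htinv]
    calc t * x * t = t * (x * t) := by group
      _ = t * (u * x) := by rw [hux]
      _ = t * u * x := by group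

variable {α : Type*} [Fintype α] [DecidableEq α]

theorem inv_app (p : Perm α) (y : α) : p⁻¹ (p y) = y := p.symm_apply_apply y

theorem app_inv (p : Perm α) (y : α) : p (p⁻¹ y) = y := p.apply_symm_apply y

theorem pow_agree (x c : Perm α) (hc : c ∈ x.cycleFactorsFinset) (a0 : α)
    (ha0 : a0 ∈ c.support) (n : ℕ) : (x ^ n) a0 = (c ^ n) a0 := by
  obtain ⟨hcyc, hcx⟩ := mem_cycleFactorsFinset_iff.mp hc
  induction n with
  | zero => simp
  | succ n ih =>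
    rw [pow_succ', pow_succ', Perm.mul_apply, Perm.mul_apply, ih]
    exact (hcx _ (pow_apply_mem_support.mpr ha0)).symm

theorem parity (x c : Perm α) (hc : c ∈ x.cycleFactorsFinset) (a0 : α) (ha0 : a0 ∈ c.support)
    (heven : Even c.support.card) : ¬ (x * x).SameCycle a0 (x a0) := by
  intro h
  obtain ⟨hcyc, hcx⟩ := mem_cycleFactorsFinset_iff.mp hc
  obtain ⟨i, -, hi⟩ := h.exists_pow_eq'
  have hca : c a0 ≠ a0 := Perm.mem_support.mp ha0
  have h1 : (c ^ (2 * i)) a0 = c a0 := by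
    rw [← pow_agree x c hc a0 ha0, hcx a0 ha0, ← hi, pow_mul, pow_two]
  rcases i with _ | j
  · simp at h1
    exact hca h1.symm
  · have h2 : (c ^ (2 * j + 1)) a0 = a0 := by
      apply c.injective
      rw [← Perm.mul_apply, ← pow_succ']
      have h0 : 2 * j + 1 + 1 = 2 * (j + 1) := by ring
      rw [h0]; exact h1
    have h3 : c ^ (2 * j + 1) = 1 := (hcyc.pow_eq_one_iff' hca).mpr h2
    have h4 : orderOf c ∣ 2 * j + 1 := orderOf_dvd_of_pow_eq_one h3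
    rw [hcyc.orderOf] at h4
    have h5 : 2 ∣ c.support.card := even_iff_two_dvd.mp heven
    have h6 : 2 ∣ 2 * j + 1 := h5.trans h4
    omega

theorem exists_tau0 (x c₁ c₂ : Perm α) (hc₁ : c₁ ∈ x.cycleFactorsFinset)
    (hc₂ : c₂ ∈ x.cycleFactorsFinset) (hne : c₁ ≠ c₂)
    (hcard : c₁.support.card = c₂.support.card) :
    ∃ τ₀ : Perm α, (∀ y, τ₀ (τ₀ y) = y) ∧ (∀ y, τ₀ (x y) = x (τ₀ y)) ∧
      ∀ y ∈ c₁.support, τ₀ y ∈ c₂.support := by
  classical
  obtain ⟨hcyc₁, hc₁x⟩ := mem_cycleFactorsFinset_iff.mp hc₁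
  obtain ⟨hcyc₂, hc₂x⟩ := mem_cycleFactorsFinset_iff.mp hc₂
  obtain ⟨π, hπ⟩ := isConj_iff.mp (hcyc₁.isConj hcyc₂ hcard)
  have hπ' : ∀ y, π (c₁ y) = c₂ (π y) := by
    intro y
    rw [← hπ]
    simp
  have hdisj : ∀ y, y ∈ c₁.support → y ∉ c₂.support := by
    have h := cycleFactorsFinset_pairwise_disjoint x hc₁ hc₂ hne
    rw [disjoint_iff_disjoint_support] at h
    exact fun y hy => Finset.disjoint_left.mp h hy
  have hxs : ∀ (c : Perm α), c ∈ x.cycleFactorsFinset → ∀ y, x y ∈ c.support ↔ y ∈ c.support := by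
    intro c hc y
    have hcomm := self_mem_cycle_factors_commute hc
    have h1 : c (x y) = x (c y) := congrArg (fun f : Perm α => f y) hcomm.eq
    rw [Perm.mem_support, Perm.mem_support, h1]
    exact x.injective.ne_iff
  have hπ₁ : ∀ y, y ∈ c₁.support → π y ∈ c₂.support := by
    intro y hy
    rw [Perm.mem_support, ← hπ']
    exact π.injective.ne (Perm.mem_support.mp hy)
  have hπ₂ : ∀ y, y ∈ c₂.support → π⁻¹ y ∈ c₁.support := by
    intro y hy
    rw [Perm.mem_support]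
    intro h
    apply Perm.mem_support.mp hy
    have h2 := hπ' (π⁻¹ y)
    rw [h] at h2
    simpa using h2.symm
  let f : α → α := fun y => if y ∈ c₁.support then π y else if y ∈ c₂.support then π⁻¹ y else y
  have hf1 : ∀ y, y ∈ c₁.support → f y = π y := fun y hy => if_pos hy
  have hf2 : ∀ y, y ∉ c₁.support → y ∈ c₂.support → f y = π⁻¹ y := fun y h1 h2 => by
    show (if y ∈ c₁.support then π y else if y ∈ c₂.support then π⁻¹ y else y) = _
    rw [if_neg h1, if_pos h2]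
  have hf3 : ∀ y, y ∉ c₁.support → y ∉ c₂.support → f y = y := fun y h1 h2 => by
    show (if y ∈ c₁.support then π y else if y ∈ c₂.support then π⁻¹ y else y) = _
    rw [if_neg h1, if_neg h2]
  have hinv : Function.Involutive f := by
    intro y
    by_cases h1 : y ∈ c₁.support
    · rw [hf1 y h1, hf2 _ (fun h => hdisj _ h (hπ₁ y h1)) (hπ₁ y h1)]
      simp
    · by_cases h2 : y ∈ c₂.support
      · rw [hf2 y h1 h2, hf1 _ (hπ₂ y h2)]
        simp
      · rw [hf3 y h1 h2, hf3 y h1 h2]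
  refine ⟨hinv.toPerm f, hinv, ?_, fun y hy => by
    show f y ∈ c₂.support
    rw [hf1 y hy]; exact hπ₁ y hy⟩
  intro y
  show f (x y) = x (f y)
  by_cases h1 : y ∈ c₁.support
  · rw [hf1 y h1, hf1 _ ((hxs c₁ hc₁ y).mpr h1), ← hc₁x y h1, hπ', hc₂x _ (hπ₁ y h1)]
  · by_cases h2 : y ∈ c₂.support
    · rw [hf2 y h1 h2, hf2 _ (fun h => h1 ((hxs c₁ hc₁ y).mp h)) ((hxs c₂ hc₂ y).mpr h2)]
      apply π.injective
      rw [app_inv, ← hc₁x _ (hπ₂ y h2), hπ', app_inv, hc₂x y h2]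
    · rw [hf3 y h1 h2, hf3 _ (fun h => h1 ((hxs c₁ hc₁ y).mp h))
        (fun h => h2 ((hxs c₂ hc₂ y).mp h))]

theorem exists_t (x τ₀ : Perm α) (E : α → Prop) (hττ : ∀ y, τ₀ (τ₀ y) = y)
    (hτx : ∀ y, τ₀ (x y) = x (τ₀ y)) (hE : ∀ y, E (τ₀ y) ↔ E y)
    (hEx : ∀ y, E (x (x y)) ↔ E y) :
    ∃ t : Perm α, (∀ y, E y → t y = τ₀ y) ∧ (∀ y, ¬ E y → t y = y) ∧ t * t = 1 ∧
      t * (x * x) = (x * x) * t ∧ t * (x * t * x⁻¹) = (x * t * x⁻¹) * t := by
  classical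
  let f : α → α := fun y => if E y then τ₀ y else y
  have hf1 : ∀ y, E y → f y = τ₀ y := fun y hy => if_pos hy
  have hf2 : ∀ y, ¬ E y → f y = y := fun y hy => if_neg hy
  have hinv : Function.Involutive f := by
    intro y
    by_cases h : E y
    · rw [hf1 y h, hf1 _ ((hE y).mpr h), hττ]
    · rw [hf2 y h, hf2 y h]
  refine ⟨hinv.toPerm f, hf1, hf2, ?_, ?_, ?_⟩
  · ext y
    exact hinv y
  · ext y
    show f (x (x y)) = x (x (f y))
    by_cases h : E y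
    · rw [hf1 y h, hf1 _ ((hEx y).mpr h), hτx, hτx]
    · rw [hf2 y h, hf2 _ (fun h' => h ((hEx y).mp h'))]
  · ext y
    obtain ⟨w, rfl⟩ := x.surjective y
    show f (x (f (x⁻¹ (x w)))) = x (f (x⁻¹ (f (x w))))
    rw [inv_app]
    have hEx' : ∀ y, E (x (τ₀ y)) ↔ E (x y) := fun y => by rw [← hτx]; exact hE _
    by_cases h1 : E w <;> by_cases h2 : E (x w)
    · rw [hf1 w h1, hf1 _ ((hEx' w).mpr h2), hf1 _ h2]
      simp only [hτx, hττ, inv_app]
      rw [hf1 _ ((hE w).mpr h1), hττ]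
    · rw [hf1 w h1, hf2 _ (fun h => h2 ((hEx' w).mp h)), hf2 _ h2, inv_app, hf1 w h1]
    · rw [hf2 w h1, hf1 _ h2]
      simp only [hτx, inv_app]
      rw [hf2 _ (fun h => h1 ((hE w).mp h))]
    · rw [hf2 w h1, hf2 _ h2, inv_app, hf2 w h1]

/-- the union of two `x * x`-orbits -/
def EE (x : Perm α) (a0 b0 : α) (y : α) : Prop :=
  (x * x).SameCycle a0 y ∨ (x * x).SameCycle b0 y

/-- [P3] -/
theorem half_swap (x c₁ c₂ : Equiv.Perm α) (hc₁ : c₁ ∈ x.cycleFactorsFinset)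
    (hc₂ : c₂ ∈ x.cycleFactorsFinset) (hne : c₁ ≠ c₂)
    (hcard : c₁.support.card = c₂.support.card) (heven : Even c₁.support.card) :
    ∃ t τ : Equiv.Perm α, t * t = 1 ∧ τ * τ = 1 ∧ τ * x = x * τ ∧ t * x * t⁻¹ = τ * x ∧
      ∃ a : α, (t * (c₁ * t * c₁⁻¹)) a ≠ a ∧
        (t * (c₁ * t * c₁⁻¹)) ((t * (c₁ * t * c₁⁻¹)) ((t * (c₁ * t * c₁⁻¹)) a)) = a := by
  classical
  obtain ⟨hcyc₁, hc₁x⟩ := mem_cycleFactorsFinset_iff.mp hc₁
  obtain ⟨hcyc₂, hc₂x⟩ := mem_cycleFactorsFinset_iff.mp hc₂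
  obtain ⟨τ₀, hττ, hτx, hτs⟩ := exists_tau0 x c₁ c₂ hc₁ hc₂ hne hcard
  have hdisj : ∀ y, y ∈ c₁.support → y ∉ c₂.support := by
    have h := cycleFactorsFinset_pairwise_disjoint x hc₁ hc₂ hne
    rw [disjoint_iff_disjoint_support] at h
    exact fun y hy => Finset.disjoint_left.mp h hy
  obtain ⟨a0, ha0⟩ : ∃ a0, a0 ∈ c₁.support := by
    obtain ⟨a, ha, -⟩ := hcyc₁
    exact ⟨a, Perm.mem_support.mpr ha⟩
  obtain ⟨b0, hb0⟩ : ∃ b0, b0 = τ₀ a0 := ⟨_, rfl⟩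
  have hb0s : b0 ∈ c₂.support := by rw [hb0]; exact hτs a0 ha0
  have hτb0 : τ₀ b0 = a0 := by rw [hb0, hττ]
  have hcomm : ∀ (j : ℤ) (y : α), τ₀ (((x * x) ^ j) y) = ((x * x) ^ j) (τ₀ y) := by
    intro j y
    have h1 : Commute τ₀ (x * x) := by
      show τ₀ * (x * x) = (x * x) * τ₀
      ext z
      show τ₀ (x (x z)) = x (x (τ₀ z))
      rw [hτx, hτx]
    have h2 := (h1.zpow_right j).eq
    exact congrArg (fun f : Perm α => f y) h2
  have hS : ∀ u y, (x * x).SameCycle u y → (x * x).SameCycle (τ₀ u) (τ₀ y) := by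
    rintro u y ⟨j, rfl⟩
    exact ⟨j, (hcomm j u).symm⟩
  have hE1 : ∀ y, EE x a0 b0 y → EE x a0 b0 (τ₀ y) := by
    rintro y (h | h)
    · right
      have h' := hS a0 y h
      rwa [← hb0] at h'
    · left
      have h' := hS b0 y h
      rwa [hτb0] at h'
  have hE : ∀ y, EE x a0 b0 (τ₀ y) ↔ EE x a0 b0 y := by
    intro y
    constructor
    · intro h
      have h' := hE1 _ h
      rwa [hττ] at h'
    · exact hE1 y
  have hEx : ∀ y, EE x a0 b0 (x (x y)) ↔ EE x a0 b0 y := by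
    intro y
    have h1 : x (x y) = (x * x) y := rfl
    unfold EE
    rw [h1, sameCycle_apply_right, sameCycle_apply_right]
  obtain ⟨t, ht1, ht2, htt, htxx, htu⟩ := exists_t x τ₀ (EE x a0 b0) hττ hτx hE hEx
  obtain ⟨hg1, hg2, hg3⟩ := grp t x htt htxx htu
  refine ⟨t, t * (x * t * x⁻¹), htt, hg1, hg2, hg3, a0, ?_⟩
  have hEa0 : EE x a0 b0 a0 := Or.inl (SameCycle.refl _ _)
  have hEb0 : EE x a0 b0 b0 := Or.inr (SameCycle.refl _ _)
  have hta0 : t a0 = b0 := by rw [ht1 a0 hEa0, hb0]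
  have htb0 : t b0 = a0 := by rw [ht1 b0 hEb0, hτb0]
  have hc₁b0 : c₁ b0 = b0 := by
    by_contra h
    exact hdisj b0 (Perm.mem_support.mpr h) hb0s
  have hc₁ib0 : c₁⁻¹ b0 = b0 := by
    rw [Perm.inv_eq_iff_eq]; exact hc₁b0.symm
  have horb2 : ∀ y, (x * x).SameCycle b0 y → y ∈ c₂.support := by
    rintro y ⟨j, rfl⟩
    have hcm : Commute c₂ x := self_mem_cycle_factors_commute hc₂
    have h2 := ((hcm.mul_right hcm).zpow_right j).eq
    have h3 : c₂ (((x * x) ^ j) b0) = ((x * x) ^ j) (c₂ b0) :=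
      congrArg (fun f : Perm α => f b0) h2
    rw [Perm.mem_support, h3]
    exact ((x * x) ^ j).injective.ne (Perm.mem_support.mp hb0s)
  have hpar := parity x c₁ hc₁ a0 ha0 heven
  obtain ⟨a1, ha1⟩ : ∃ a1, a1 = c₁ a0 := ⟨_, rfl⟩
  have ha1s : a1 ∈ c₁.support := by rw [ha1]; exact Perm.apply_mem_support.mpr ha0
  have ha1x : a1 = x a0 := by rw [ha1]; exact hc₁x a0 ha0
  have hEa1 : ¬ EE x a0 b0 a1 := by
    rintro (h | h)
    · rw [ha1x] at h; exact hpar h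
    · exact hdisj a1 ha1s (horb2 a1 h)
  obtain ⟨z, hz⟩ : ∃ z, z = c₁⁻¹ a0 := ⟨_, rfl⟩
  have hcz : c₁ z = a0 := by rw [hz]; simp
  have hzs : z ∈ c₁.support := by
    rw [Perm.mem_support, hcz]
    intro h
    have h' : c₁ a0 = c₁ z := congrArg c₁ h
    exact Perm.mem_support.mp ha0 (h'.trans hcz)
  have hxz : (x * x) z = x a0 := by
    show x (x z) = x a0
    rw [← hc₁x z hzs, hcz]
  have hEz : ¬ EE x a0 b0 z := by
    rintro (h | h)
    · apply hpar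
      rw [← hxz, sameCycle_apply_right]; exact h
    · exact hdisj z hzs (horb2 z h)
  have htz : t z = z := ht2 z hEz
  have hta1 : t a1 = a1 := ht2 a1 hEa1
  have hab : a0 ≠ b0 := fun h => hdisj a0 ha0 (h ▸ hb0s)
  have hg : ∀ y, (t * (c₁ * t * c₁⁻¹)) y = t (c₁ (t (c₁⁻¹ y))) := fun y => rfl
  have hga0 : (t * (c₁ * t * c₁⁻¹)) a0 = b0 := by
    rw [hg, ← hz, htz, hcz, hta0]
  have hgb0 : (t * (c₁ * t * c₁⁻¹)) b0 = a1 := by
    rw [hg, hc₁ib0, htb0, ← ha1, hta1]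
  have hga1 : (t * (c₁ * t * c₁⁻¹)) a1 = a0 := by
    have h0 : c₁⁻¹ a1 = a0 := by rw [ha1]; simp
    rw [hg, h0, hta0, hc₁b0, htb0]
  refine ⟨?_, ?_⟩
  · rw [hga0]; exact fun h => hab h.symm
  · rw [hga0, hgb0, hga1]

end Cfsg.Agent.Helper8.S4349c
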