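import Mathlib

set_option autoImplicit false

namespace Cfsg.Agent.Helper8.XP

open Module Polynomial

universe u

/-- a permutation all of whose point stabilisers in the cyclic group are trivial -/
theorem perm_dvd {X : Type*} [Finite X] (σ : Equiv.Perm X) (h : ℕ) (hσ : σ ^ h = 1)
    (hfree : ∀ (j : ℕ) (x : X), (σ ^ j) x = x → h ∣ j) : h ∣ Nat.card X := by
  classical
  rcases isEmpty_or_nonempty X with he | ⟨⟨x0⟩⟩
  · simp
  have hord : orderOf σ = h := by
    apply Nat.dvd_antisymm (orderOf_dvd_of_pow_eq_one hσ)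
    apply hfree _ x0
    rw [pow_orderOf_eq_one]; rfl
  have hfr : ∀ (γ : Subgroup.zpowers σ) (x : X), γ • x = x → γ = 1 := by
    intro γ x hγ
    obtain ⟨γ, hγm⟩ := γ
    have hfin : IsOfFinOrder σ := isOfFinOrder_of_finite σ
    obtain ⟨j, rfl⟩ := (Submonoid.mem_powers_iff _ _).mp (hfin.mem_powers_iff_mem_zpowers.mpr hγm)
    have hj : h ∣ j := hfree j x hγ
    obtain ⟨c, rfl⟩ := hj
    apply Subtype.ext
    simp [pow_mul, hσ]
  have hs : ∀ b : X, MulAction.stabilizer (Subgroup.zpowers σ) b = ⊥ := by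
    intro b; ext γ
    rw [MulAction.mem_stabilizer_iff, Subgroup.mem_bot]
    exact ⟨hfr γ b, fun e => by rw [e, one_smul]⟩
  have e := MulAction.selfEquivOrbitsQuotientProd hs
  rw [Nat.card_congr e, Nat.card_prod, Nat.card_zpowers, hord]
  exact dvd_mul_left _ _

theorem perm_dvd_pred {X : Type*} [Finite X] (σ : Equiv.Perm X) (o : X) (h : ℕ) (hσ : σ ^ h = 1)
    (ho : σ o = o) (hfree : ∀ (j : ℕ) (x : X), x ≠ o → (σ ^ j) x = x → h ∣ j) :
    h ∣ Nat.card X - 1 := by
  classical
  have hp : ∀ x, (σ x ≠ o) ↔ (x ≠ o) := by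
    intro x
    constructor
    · intro hx hxo; exact hx (by rw [hxo, ho])
    · intro hx hxo; apply hx; apply σ.injective; rw [hxo, ho]
  have key := perm_dvd (X := {b : X // b ≠ o}) (σ.subtypePerm hp) h
    (by rw [Equiv.Perm.subtypePerm_pow σ h hp]; ext y; simp [hσ])
    (by
      intro j y hy
      rw [Equiv.Perm.subtypePerm_pow σ j hp] at hy
      have := congrArg Subtype.val hy
      simp only [Equiv.Perm.subtypePerm_apply] at this
      exact hfree j y.1 y.2 this)
  have hc : Nat.card X = Nat.card {b : X // b ≠ o} + 1 := by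
    rw [← Nat.card_congr (Equiv.optionSubtypeNe o), Finite.card_option]
  rw [hc]; simpa using key

theorem fld {p : ℕ} [Fact p.Prime] {L : Type*} [Field L] [Finite L] [Algebra (ZMod p) L]
    (σ : L →ₐ[ZMod p] L) (hσ : ∀ a, σ (σ a) = a) :
    (∀ a, σ a = a) ∨ ∃ j, Module.finrank (ZMod p) L = 2 * j ∧ ∀ a, σ a = a ^ (p ^ j) := by
  classical
  have hb := FiniteField.bijective_frobeniusAlgHom_pow (ZMod p) L
  have ho := FiniteField.orderOf_frobeniusAlgHom (ZMod p) L
  obtain ⟨⟨j, hj⟩, hjσ⟩ := hb.2 σ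
  simp only at hjσ
  have hval : ∀ (k : ℕ) (a : L), (FiniteField.frobeniusAlgHom (ZMod p) L ^ k) a = a ^ (p ^ k) := by
    intro k a
    rw [AlgHom.coe_pow, FiniteField.coe_frobeniusAlgHom, pow_iterate, ZMod.card]
  have h2 : (FiniteField.frobeniusAlgHom (ZMod p) L) ^ (2 * j) = 1 := by
    rw [two_mul, pow_add, hjσ]
    ext a
    simp [hσ]
  have hdvd : Module.finrank (ZMod p) L ∣ 2 * j := by
    rw [← ho]; exact orderOf_dvd_of_pow_eq_one h2
  obtain ⟨c, hc⟩ := hdvd
  have hc2 : c < 2 := by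
    by_contra hcc
    push Not at hcc
    have : 2 * Module.finrank (ZMod p) L ≤ Module.finrank (ZMod p) L * c := by
      rw [mul_comm]; exact Nat.mul_le_mul_left _ hcc
    omega
  interval_cases c
  · left
    have hj0 : j = 0 := by omega
    subst hj0
    intro a
    rw [← hjσ, hval]; simp
  · right
    refine ⟨j, by omega, ?_⟩
    intro a
    rw [← hjσ, hval]

end Cfsg.Agent.Helper8.XP
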