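import Cfsg.Agent.Helper8.XP1

set_option autoImplicit false

namespace Cfsg.Agent.Helper8.XP

open Module Polynomial

theorem skew {p : ℕ} [Fact p.Prime] {V : Type*} [AddCommGroup V] [Module (ZMod p) V]
    (B : LinearMap.BilinForm (ZMod p) V) (halt : ∀ v, B v v = 0) (u v : V) :
    B u v = - B v u := by
  have h := halt (u + v)
  simp only [map_add, LinearMap.add_apply, halt, zero_add, add_zero] at h
  exact eq_neg_of_add_eq_zero_right h

theorem adj_pow {p : ℕ} [Fact p.Prime] {V : Type*} [AddCommGroup V] [Module (ZMod p) V]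
    (B : LinearMap.BilinForm (ZMod p) V) (x y : Module.End (ZMod p) V)
    (hx : ∀ u v, B (x u) (x v) = B u v) (hxy : x * y = 1) (n : ℕ) :
    ∀ u v, B ((x ^ n) u) v = B u ((y ^ n) v) := by
  induction n with
  | zero => intro u v; simp
  | succ n ih =>
    intro u v
    rw [pow_succ', pow_succ, Module.End.mul_apply, Module.End.mul_apply]
    have h1 : B (x ((x ^ n) u)) v = B ((x ^ n) u) (y v) := by
      have hv : v = x (y v) := by rw [← Module.End.mul_apply, hxy]; rfl
      conv_lhs => rw [hv]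
      exact hx _ _
    rw [h1, ih]

theorem adj {p : ℕ} [Fact p.Prime] {V : Type*} [AddCommGroup V] [Module (ZMod p) V]
    (B : LinearMap.BilinForm (ZMod p) V) (x y : Module.End (ZMod p) V)
    (hx : ∀ u v, B (x u) (x v) = B u v) (hxy : x * y = 1) (f : (ZMod p)[X]) :
    ∀ u v, B (aeval x f u) v = B u (aeval y f v) := by
  induction f using Polynomial.induction_on' with
  | add f g hf hg =>
    intro u v
    simp only [map_add, LinearMap.add_apply]
    rw [hf, hg]
  | monomial n a =>
    intro u v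
    rw [Polynomial.aeval_monomial, Polynomial.aeval_monomial]
    simp only [Module.End.mul_apply, Module.algebraMap_end_apply, map_smul, LinearMap.smul_apply]
    rw [adj_pow B x y hx hxy n]

theorem irr {p : ℕ} [Fact p.Prime] {V : Type*} [AddCommGroup V] [Module (ZMod p) V] [Finite V]
    [Nontrivial V]
    (B : LinearMap.BilinForm (ZMod p) V) (hnd : ∀ u, (∀ v, B u v = 0) → u = 0)
    (halt : ∀ v, B v v = 0)
    (x : Module.End (ZMod p) V) (hx : ∀ u v, B (x u) (x v) = B u v) (h : ℕ) (hh : x ^ h = 1)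
    (hfree : ∀ (j : ℕ) (v : V), (x ^ j) v = v → v ≠ 0 → h ∣ j) (h2 : 2 < h)
    (hirr : ∀ S : Submodule (ZMod p) V, (∀ v ∈ S, x v ∈ S) → S = ⊥ ∨ S = ⊤) :
    ∃ m, Module.finrank (ZMod p) V = 2 * m ∧
      (((p : ZMod h)) ^ m = 1 ∨ ((p : ZMod h)) ^ m = -1) := by
  classical
  obtain ⟨v0, hv0⟩ := exists_ne (0 : V)
  haveI : Nontrivial (Module.End (ZMod p) V) :=
    ⟨⟨1, 0, fun e => hv0 (by have := congrArg (fun f => f v0) e; simpa using this)⟩⟩
  set y : Module.End (ZMod p) V := x ^ (h - 1) with hy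
  have hxy : x * y = 1 := by rw [hy, ← pow_succ', Nat.sub_add_cancel (by omega), hh]
  have hsk := skew B halt
  set μ := minpoly (ZMod p) x with hμ
  have hint : IsIntegral (ZMod p) x := Algebra.IsIntegral.isIntegral x
  have hμ0 : μ ≠ 0 := minpoly.ne_zero hint
  have hμx : aeval x μ = 0 := minpoly.aeval _ _
  have hcomm : ∀ a : (ZMod p)[X], aeval x a * x = x * aeval x a := by
    intro a
    have h1 : aeval x (a * X) = aeval x (X * a) := by rw [mul_comm]
    simpa [map_mul] using h1
  have hirrμ : Irreducible μ := by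
    rw [irreducible_iff]
    refine ⟨minpoly.not_isUnit _ _, ?_⟩
    intro a b hab
    have hker : ∀ c d : (ZMod p)[X], μ = c * d → (∀ v, aeval x c v = 0) → IsUnit d := by
      intro c d hcd hc
      have hc0 : aeval x c = 0 := LinearMap.ext hc
      obtain ⟨e, he⟩ := minpoly.dvd (ZMod p) x hc0
      have h3 : μ * (e * d) = μ * 1 := by rw [mul_one, ← mul_assoc, ← he, ← hcd]
      have h4 := mul_left_cancel₀ hμ0 h3
      exact isUnit_iff_exists_inv.mpr ⟨e, by rw [mul_comm]; exact h4⟩
    have hS : ∀ v ∈ LinearMap.ker (aeval x a), x v ∈ LinearMap.ker (aeval x a) := by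
      intro v hv
      rw [LinearMap.mem_ker] at hv ⊢
      rw [← Module.End.mul_apply, hcomm, Module.End.mul_apply, hv, map_zero]
    rcases hirr _ hS with hbot | htop
    · left
      apply hker b a (by rw [hab, mul_comm])
      intro v
      have h5 : aeval x b v ∈ LinearMap.ker (aeval x a) := by
        rw [LinearMap.mem_ker, ← Module.End.mul_apply, ← map_mul, ← hab, hμx]; rfl
      rw [hbot] at h5
      simpa using h5
    · right
      apply hker a b hab
      intro v
      have h5 : v ∈ LinearMap.ker (aeval x a) := by rw [htop]; trivial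
      simpa using h5
  haveI : Fact (Irreducible μ) := ⟨hirrμ⟩
  let φ : AdjoinRoot μ →ₐ[ZMod p] Module.End (ZMod p) V :=
    Ideal.Quotient.liftₐ (Ideal.span {μ}) (Polynomial.aeval x) (by
      intro a ha
      obtain ⟨c, rfl⟩ := Ideal.mem_span_singleton.mp ha
      rw [map_mul, hμx, zero_mul])
  have hφr : φ (AdjoinRoot.root μ) = x := by
    show aeval x X = x
    exact Polynomial.aeval_X x
  have hφinj : Function.Injective φ := (φ : AdjoinRoot μ →+* Module.End (ZMod p) V).injective
  set r := AdjoinRoot.root μ with hr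
  have hr0 : r ≠ 0 := by
    intro e
    have hx0 : x = 0 := by rw [← hφr, e, map_zero]
    rw [hx0, zero_mul] at hxy
    exact zero_ne_one hxy
  have hφri : φ r⁻¹ = y := by
    calc φ r⁻¹ = φ r⁻¹ * (x * y) := by rw [hxy, mul_one]
      _ = φ (r⁻¹ * r) * y := by rw [map_mul, hφr, mul_assoc]
      _ = y := by rw [inv_mul_cancel₀ hr0, map_one, one_mul]
  have hμy : aeval y μ = 0 := by
    apply LinearMap.ext
    intro v
    apply hnd
    intro u
    rw [hsk, ← adj B x y hx hxy μ u v, hμx]; simp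
  have hroot : aeval r⁻¹ μ = 0 := by
    apply hφinj
    rw [← Polynomial.aeval_algHom_apply, hφri, hμy, map_zero]
  let σ : AdjoinRoot μ →ₐ[ZMod p] AdjoinRoot μ :=
    AdjoinRoot.liftAlgHom μ (Algebra.ofId _ _) r⁻¹ (by rw [← hroot]; rfl)
  have hσr : σ r = r⁻¹ := AdjoinRoot.liftAlgHom_root _ _ _ _
  have hσσ : ∀ a, σ (σ a) = a := by
    have hc : σ.comp σ = AlgHom.id _ _ := by
      apply AdjoinRoot.algHom_ext
      rw [AlgHom.comp_apply, ← hr, hσr, map_inv₀, hσr, inv_inv]; rfl
    intro a
    exact DFunLike.congr_fun hc a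
  haveI : Module.Finite (ZMod p) (AdjoinRoot μ) := (AdjoinRoot.powerBasis hμ0).finite
  haveI : Finite (AdjoinRoot μ) := Module.finite_of_finite (ZMod p)
  letI : Module (AdjoinRoot μ) V := Module.compHom V (φ : AdjoinRoot μ →+* Module.End (ZMod p) V)
  haveI : IsScalarTower (ZMod p) (AdjoinRoot μ) V := ⟨fun c a v => by
    show φ (c • a) v = c • φ a v
    rw [map_smul]; rfl⟩
  have htower := Module.finrank_mul_finrank (ZMod p) (AdjoinRoot μ) V
  rcases fld σ hσσ with hid | ⟨j, hj, hpow⟩
  · exfalso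
    have h1 : r⁻¹ = r := by rw [← hσr, hid]
    have h2' : r * r = 1 := by
      nth_rewrite 1 [← h1]; exact inv_mul_cancel₀ hr0
    have h3 : x ^ 2 = 1 := by rw [pow_two, ← hφr, ← map_mul, h2', map_one]
    have h4 := hfree 2 v0 (by rw [h3]; rfl) hv0
    have h5 := Nat.le_of_dvd (by norm_num) h4
    omega
  · have h1 : r ^ (p ^ j + 1) = 1 := by
      rw [pow_succ, ← hpow, hσr, inv_mul_cancel₀ hr0]
    have h3 : x ^ (p ^ j + 1) = 1 := by rw [← hφr, ← map_pow, h1, map_one]
    have hdvd := hfree (p ^ j + 1) v0 (by rw [h3]; rfl) hv0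
    have hpj : ((p : ZMod h)) ^ j = -1 := by
      have h6 : ((p ^ j + 1 : ℕ) : ZMod h) = 0 := (ZMod.natCast_eq_zero_iff _ _).mpr hdvd
      push_cast at h6
      exact eq_neg_of_add_eq_zero_left h6
    refine ⟨j * Module.finrank (AdjoinRoot μ) V, ?_, ?_⟩
    · rw [← htower, hj]; ring
    · rw [pow_mul, hpj]
      rcases neg_one_pow_eq_or (ZMod h) (Module.finrank (AdjoinRoot μ) V) with e | e
      · left; exact e
      · right; exact e

end Cfsg.Agent.Helper8.XP
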