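import Cfsg.Agent.Helper8.XP2

set_option autoImplicit false

namespace Cfsg.Agent.Helper8.XP

open Module Polynomial

universe u

theorem pow_inv_mem {p : ℕ} [Fact p.Prime] {V : Type*} [AddCommGroup V] [Module (ZMod p) V]
    (x : Module.End (ZMod p) V) (S : Submodule (ZMod p) V) (hS : ∀ v ∈ S, x v ∈ S) (k : ℕ) :
    ∀ v ∈ S, (x ^ k) v ∈ S := by
  induction k with
  | zero => intro v hv; simpa using hv
  | succ k ih => intro v hv; rw [pow_succ', Module.End.mul_apply]; exact hS _ (ih v hv)

theorem restrict_pow {p : ℕ} [Fact p.Prime] {V : Type*} [AddCommGroup V] [Module (ZMod p) V]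
    (x : Module.End (ZMod p) V) (S : Submodule (ZMod p) V) (hS : ∀ v ∈ S, x v ∈ S) (k : ℕ)
    (w : S) : (((x.restrict hS) ^ k) w : V) = (x ^ k) (w : V) := by
  induction k generalizing w with
  | zero => simp
  | succ k ih =>
    rw [pow_succ', pow_succ', Module.End.mul_apply, Module.End.mul_apply]
    rw [LinearMap.restrict_coe_apply, ih]

theorem core {p : ℕ} [Fact p.Prime] (h : ℕ) (h2 : 2 < h) (hcop : h.Coprime p) :
    ∀ (N : ℕ) (V : Type u) [AddCommGroup V] [Module (ZMod p) V] [Finite V]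
      (B : LinearMap.BilinForm (ZMod p) V) (x : Module.End (ZMod p) V),
      (∀ u, (∀ v, B u v = 0) → u = 0) → (∀ v, B v v = 0) →
      (∀ u v, B (x u) (x v) = B u v) → x ^ h = 1 →
      (∀ (j : ℕ) (v : V), (x ^ j) v = v → v ≠ 0 → h ∣ j) → Module.finrank (ZMod p) V = N →
      ∃ m, N = 2 * m ∧ (((p : ZMod h)) ^ m = 1 ∨ ((p : ZMod h)) ^ m = -1) := by
  intro N
  induction N using Nat.strong_induction_on with
  | _ N ih =>
  intro V _ _ _ B x hnd halt hx hh hfree hN
  classical
  rcases Nat.eq_zero_or_pos N with hN0 | hNpos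
  · exact ⟨0, by omega, Or.inl (pow_zero _)⟩
  haveI : Nontrivial V := Module.finrank_pos_iff.mp (by rw [hN]; exact hNpos)
  set y : Module.End (ZMod p) V := x ^ (h - 1) with hy
  have hxy : x * y = 1 := by rw [hy, ← pow_succ', Nat.sub_add_cancel (by omega), hh]
  have hyx : y * x = 1 := by rw [hy, ← pow_succ, Nat.sub_add_cancel (by omega), hh]
  have hsk := skew B halt
  have hyS : ∀ S : Submodule (ZMod p) V, (∀ v ∈ S, x v ∈ S) → ∀ v ∈ S, y v ∈ S :=
    fun S hS => pow_inv_mem x S hS (h - 1)
  have hres : ∀ (U : Submodule (ZMod p) V) (hU : ∀ v ∈ U, x v ∈ U),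
      (∀ u ∈ U, (∀ u' ∈ U, B u u' = 0) → u = 0) →
      ((∀ u : U, (∀ v : U, B.restrict U u v = 0) → u = 0) ∧ (∀ v : U, B.restrict U v v = 0) ∧
      (∀ u v : U, B.restrict U ((x.restrict hU) u) ((x.restrict hU) v) = B.restrict U u v) ∧
      (x.restrict hU) ^ h = 1 ∧
      (∀ (j : ℕ) (v : U), ((x.restrict hU) ^ j) v = v → v ≠ 0 → h ∣ j)) := by
    intro U hU hndU
    refine ⟨?_, ?_, ?_, ?_, ?_⟩
    · intro u hu
      apply Subtype.ext
      apply hndU u.1 u.2
      intro u' hu'
      exact hu ⟨u', hu'⟩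
    · intro v; exact halt v.1
    · intro u v; exact hx u.1 v.1
    · apply LinearMap.ext; intro w; apply Subtype.ext
      rw [restrict_pow, hh]; rfl
    · intro j v hv hv0
      apply hfree j v.1
      · rw [← restrict_pow x U hU, hv]
      · intro e; exact hv0 (Subtype.ext e)
  have hex : ∃ d, ∃ S : Submodule (ZMod p) V, S ≠ ⊥ ∧ (∀ v ∈ S, x v ∈ S) ∧
      Module.finrank (ZMod p) S = d :=
    ⟨N, ⊤, top_ne_bot, fun v _ => trivial, by rw [finrank_top, hN]⟩
  obtain ⟨W, hW0, hWinv, hWd⟩ := Nat.find_spec hex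
  set d := Nat.find hex with hd
  have hmin : ∀ S : Submodule (ZMod p) V, S ≠ ⊥ → (∀ v ∈ S, x v ∈ S) →
      d ≤ Module.finrank (ZMod p) S :=
    fun S hS0 hS => Nat.find_min' hex ⟨S, hS0, hS, rfl⟩
  have hWmin : ∀ S : Submodule (ZMod p) V, S ≤ W → (∀ v ∈ S, x v ∈ S) → S = ⊥ ∨ S = W := by
    intro S hSW hS
    by_cases hS0 : S = ⊥
    · left; exact hS0
    · right
      exact Submodule.eq_of_le_of_finrank_le hSW (by rw [hWd]; exact hmin S hS0 hS)
  have hdpos : 0 < d := by
    rw [← hWd]; exact Module.finrank_pos_iff.mpr (Submodule.nontrivial_iff_ne_bot.mpr hW0)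
  set Wp := B.orthogonal W with hWp
  have hWpinv : ∀ v ∈ Wp, x v ∈ Wp := by
    intro v hv
    rw [hWp, LinearMap.BilinForm.mem_orthogonal_iff] at hv ⊢
    intro n hn
    have hn' : n = x (y n) := by rw [← Module.End.mul_apply, hxy]; rfl
    rw [hn', hx]
    exact hv _ (hyS W hWinv n hn)
  have hnd' : B.Nondegenerate := by
    refine ⟨?_, ?_⟩
    · intro u hu; exact hnd u hu
    · intro u hu; apply hnd u; intro v; rw [hsk, hu, neg_zero]
  have hrefl : B.IsRefl := by
    intro u v huv; rw [hsk, huv, neg_zero]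
  have hWpd : Module.finrank (ZMod p) Wp = N - d := by
    rw [hWp, LinearMap.BilinForm.finrank_orthogonal hnd' W, hN, hWd]
  have hdN : d ≤ N := by rw [← hWd, ← hN]; exact Submodule.finrank_le W
  have hinfinv : ∀ v ∈ W ⊓ Wp, x v ∈ W ⊓ Wp := fun v hv => ⟨hWinv v hv.1, hWpinv v hv.2⟩
  rcases hWmin (W ⊓ Wp) inf_le_left hinfinv with hbot | hW'
  · have hndW : ∀ u ∈ W, (∀ u' ∈ W, B u u' = 0) → u = 0 := by
      intro u hu huu
      have hmem0 : u ∈ Wp := by
        rw [hWp, LinearMap.BilinForm.mem_orthogonal_iff]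
        intro n hn
        rw [hsk, huu n hn, neg_zero]
      have hmem : u ∈ W ⊓ Wp := ⟨hu, hmem0⟩
      rw [hbot] at hmem
      simpa using hmem
    have hsup : W ⊔ Wp = ⊤ := by
      apply Submodule.eq_top_of_finrank_eq
      have h7 := Submodule.finrank_sup_add_finrank_inf_eq W Wp
      rw [hbot, finrank_bot, hWd, hWpd] at h7
      omega
    have hndWp : ∀ u ∈ Wp, (∀ u' ∈ Wp, B u u' = 0) → u = 0 := by
      intro u hu huu
      apply hnd
      intro v
      have hv : v ∈ W ⊔ Wp := by rw [hsup]; trivial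
      obtain ⟨a, ha, b, hb, rfl⟩ := Submodule.mem_sup.mp hv
      rw [map_add, huu b hb, add_zero]
      rw [hWp, LinearMap.BilinForm.mem_orthogonal_iff] at hu
      rw [hsk, hu a ha, neg_zero]
    obtain ⟨r1, r2, r3, r4, r5⟩ := hres W hWinv hndW
    haveI : Nontrivial W := Submodule.nontrivial_iff_ne_bot.mpr hW0
    have hirrW : ∀ S : Submodule (ZMod p) W, (∀ v ∈ S, (x.restrict hWinv) v ∈ S) →
        S = ⊥ ∨ S = ⊤ := by
      intro S hS
      have hS' : ∀ v ∈ S.map W.subtype, x v ∈ S.map W.subtype := by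
        rintro _ ⟨w, hw, rfl⟩
        exact ⟨(x.restrict hWinv) w, hS w hw, rfl⟩
      rcases hWmin (S.map W.subtype) (Submodule.map_subtype_le W S) hS' with e | e
      · left
        exact Submodule.map_injective_of_injective W.injective_subtype
          (by rw [e, Submodule.map_bot])
      · right
        exact Submodule.map_injective_of_injective W.injective_subtype
          (by rw [e, Submodule.map_subtype_top])
    obtain ⟨m1, hm1, hp1⟩ := irr (B.restrict W) r1 r2 (x.restrict hWinv) r3 h r4 r5 h2 hirrW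
    obtain ⟨q1, q2, q3, q4, q5⟩ := hres Wp hWpinv hndWp
    obtain ⟨m2, hm2, hp2⟩ := ih (N - d) (by omega) Wp (B.restrict Wp) (x.restrict hWpinv)
      q1 q2 q3 q4 q5 hWpd
    refine ⟨m1 + m2, by rw [hWd] at hm1; omega, ?_⟩
    rw [pow_add]
    rcases hp1 with e1 | e1 <;> rcases hp2 with e2 | e2 <;> rw [e1, e2] <;> simp
  · have hWle : W ≤ Wp := by rw [← hW']; exact inf_le_right
    have hd2 : d ≤ N - d := by
      have h10 := Submodule.finrank_mono hWle
      rw [hWd, hWpd] at h10
      exact h10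
    have hpne : ((h : ℕ) : ZMod p) ≠ 0 := by
      intro e
      rw [ZMod.natCast_eq_zero_iff] at e
      have h8 := Nat.Coprime.eq_one_of_dvd hcop.symm e
      exact (Fact.out : p.Prime).one_lt.ne' h8
    have hsq : Squarefree (X ^ h - 1 : (ZMod p)[X]) :=
      (Polynomial.X_pow_sub_one_separable_iff.mpr hpne).squarefree
    have hss : x.IsSemisimple :=
      Module.End.isSemisimple_of_squarefree_aeval_eq_zero hsq (by simp [hh])
    obtain ⟨q, hq, hc⟩ := Module.End.isSemisimple_iff.mp hss W
      (by rw [Module.End.mem_invtSubmodule]; intro v hv; exact hWinv v hv)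
    have hqinv : ∀ v ∈ q, x v ∈ q := fun v hv => ((Module.End.mem_invtSubmodule x).mp hq) hv
    set U := q ⊓ Wp with hU
    have hUinv : ∀ v ∈ U, x v ∈ U := fun v hv => ⟨hqinv v hv.1, hWpinv v hv.2⟩
    have hWU : W ⊓ U = ⊥ := by
      rw [hU, ← inf_assoc, hc.inf_eq_bot, bot_inf_eq]
    have hWUs : W ⊔ U = Wp := by
      apply le_antisymm (sup_le hWle inf_le_right)
      intro t ht
      have ht' : t ∈ W ⊔ q := by rw [hc.sup_eq_top]; trivial
      obtain ⟨a, ha, b, hb, rfl⟩ := Submodule.mem_sup.mp ht'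
      refine Submodule.mem_sup.mpr ⟨a, ha, b, ⟨hb, ?_⟩, rfl⟩
      have hb' : b = (a + b) - a := by abel
      rw [hb']; exact Wp.sub_mem ht (hWle ha)
    have hUd : Module.finrank (ZMod p) U = N - 2 * d := by
      have h7 := Submodule.finrank_sup_add_finrank_inf_eq W U
      rw [hWUs, hWU, finrank_bot, hWd, hWpd] at h7
      omega
    have hndU : ∀ u ∈ U, (∀ u' ∈ U, B u u' = 0) → u = 0 := by
      intro u hu huu
      have huW : u ∈ B.orthogonal Wp := by
        rw [LinearMap.BilinForm.mem_orthogonal_iff]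
        intro t ht
        rw [← hWUs] at ht
        obtain ⟨a, ha, b, hb, rfl⟩ := Submodule.mem_sup.mp ht
        rw [map_add, LinearMap.add_apply]
        have h1 : B a u = 0 := by
          have h9 : u ∈ Wp := hu.2
          rw [hWp, LinearMap.BilinForm.mem_orthogonal_iff] at h9
          exact h9 a ha
        rw [h1, zero_add, hsk, huu b hb, neg_zero]
      rw [hWp, LinearMap.BilinForm.orthogonal_orthogonal hnd' hrefl W] at huW
      have hmem : u ∈ W ⊓ U := ⟨huW, hu⟩
      rw [hWU] at hmem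
      simpa using hmem
    obtain ⟨q1, q2, q3, q4, q5⟩ := hres U hUinv hndU
    obtain ⟨m2, hm2, hp2⟩ := ih (N - 2 * d) (by omega) U (B.restrict U) (x.restrict hUinv)
      q1 q2 q3 q4 q5 hUd
    have hpd : ((p : ZMod h)) ^ d = 1 := by
      let σ : Equiv.Perm W :=
        { toFun := fun w => ⟨x w.1, hWinv _ w.2⟩
          invFun := fun w => ⟨y w.1, hyS W hWinv _ w.2⟩
          left_inv := fun w => by
            apply Subtype.ext
            show y (x w.1) = w.1
            rw [← Module.End.mul_apply, hyx]; rfl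
          right_inv := fun w => by
            apply Subtype.ext
            show x (y w.1) = w.1
            rw [← Module.End.mul_apply, hxy]; rfl }
      have hσpow : ∀ (j : ℕ) (w : W), (((σ ^ j) w : W) : V) = (x ^ j) (w : V) := by
        intro j
        induction j with
        | zero => intro w; simp
        | succ j ihj =>
          intro w
          rw [pow_succ', pow_succ', Equiv.Perm.mul_apply, Module.End.mul_apply, ← ihj]
          rfl
      have hdv := perm_dvd_pred σ (0 : W) h
        (Equiv.ext (fun w => Subtype.ext (by rw [hσpow, hh]; rfl)))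
        (by apply Subtype.ext; show x 0 = 0; simp)
        (by
          intro j w hw hj
          apply hfree j w.1
          · rw [← hσpow, hj]
          · intro e; exact hw (Subtype.ext e))
      have hcard : Nat.card W = p ^ d := by
        rw [← hWd]
        letI := Fintype.ofFinite W
        rw [Nat.card_eq_fintype_card, Module.card_eq_pow_finrank (K := ZMod p), ZMod.card]
      rw [hcard] at hdv
      have h6 : ((p ^ d - 1 : ℕ) : ZMod h) = 0 := (ZMod.natCast_eq_zero_iff _ _).mpr hdv
      rw [Nat.cast_sub (Nat.one_le_pow _ _ (Fact.out : p.Prime).pos)] at h6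
      push_cast at h6
      exact sub_eq_zero.mp h6
    refine ⟨d + m2, by omega, ?_⟩
    rw [pow_add, hpd, one_mul]; exact hp2

end Cfsg.Agent.Helper8.XP
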