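import Cfsg.Agent.Helper8.XP3

set_option autoImplicit false

namespace Cfsg.Agent.Helper8.XP

open Module Polynomial
open scoped commutatorElement

universe u

theorem core_lin {p : ℕ} [Fact p.Prime] {V : Type u} [AddCommGroup V] [Module (ZMod p) V]
    [Finite V]
    (β : V → V → ZMod p) (hβl : ∀ u u' v, β (u + u') v = β u v + β u' v)
    (hβr : ∀ u v v', β u (v + v') = β u v + β u v')
    (hnd : ∀ u, (∀ v, β u v = 0) → u = 0) (halt : ∀ v, β v v = 0)
    (x : V → V) (hxadd : ∀ u v, x (u + v) = x u + x v) (hx : ∀ u v, β (x u) (x v) = β u v)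
    (h : ℕ) (hh : ∀ v, x^[h] v = v) (hfree : ∀ (j : ℕ) (v : V), x^[j] v = v → v ≠ 0 → h ∣ j)
    (hcop : h.Coprime p) (h2 : 2 < h) (n : ℕ) (hcard : Nat.card V = p ^ (2 * n)) :
    h ∣ p ^ n + 1 ∨ h ∣ p ^ n - 1 := by
  classical
  have hpp : p.Prime := Fact.out
  let βl : V → (V →+ ZMod p) := fun w =>
    AddMonoidHom.mk' (fun u => β u w) (fun u u' => hβl u u' w)
  let βr : V → (V →+ ZMod p) := fun u =>
    AddMonoidHom.mk' (fun w => β u w) (fun w w' => hβr u w w')
  obtain ⟨m, hm, hpm⟩ := core h h2 hcop (Module.finrank (ZMod p) V) V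
    (LinearMap.mk₂ (ZMod p) β hβl (fun c u v => ZMod.map_smul (βl v) c u) hβr
      (fun c u v => ZMod.map_smul (βr u) c v))
    ((AddMonoidHom.mk' x hxadd).toZModLinearMap p)
    (fun u hu => hnd u hu) (fun v => halt v) (fun u v => hx u v)
    (LinearMap.ext (fun v => by rw [Module.End.pow_apply]; exact hh v))
    (fun j v hv hv0 => hfree j v (by rw [Module.End.pow_apply] at hv; exact hv) hv0) rfl
  have hNn : m = n := by
    letI := Fintype.ofFinite V
    have h5 : Nat.card V = p ^ Module.finrank (ZMod p) V := by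
      rw [Nat.card_eq_fintype_card, Module.card_eq_pow_finrank (K := ZMod p), ZMod.card]
    rw [hcard, hm] at h5
    have h6 := Nat.pow_right_injective hpp.two_le h5
    omega
  subst hNn
  rcases hpm with e | e
  · right
    rw [← ZMod.natCast_eq_zero_iff, Nat.cast_sub (Nat.one_le_pow _ _ hpp.pos)]
    push_cast; rw [e]; ring
  · left
    rw [← ZMod.natCast_eq_zero_iff]
    push_cast; rw [e]; ring

theorem core_fun {p : ℕ} [Fact p.Prime] {V : Type u} [AddCommGroup V] [Finite V]
    (β : V → V → ZMod p) (hβl : ∀ u u' v, β (u + u') v = β u v + β u' v)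
    (hβr : ∀ u v v', β u (v + v') = β u v + β u v')
    (hnd : ∀ u, (∀ v, β u v = 0) → u = 0) (halt : ∀ v, β v v = 0)
    (x : V → V) (hxadd : ∀ u v, x (u + v) = x u + x v) (hx : ∀ u v, β (x u) (x v) = β u v)
    (h : ℕ) (hh : ∀ v, x^[h] v = v) (hfree : ∀ (j : ℕ) (v : V), x^[j] v = v → v ≠ 0 → h ∣ j)
    (hcop : h.Coprime p) (n : ℕ) (hcard : Nat.card V = p ^ (2 * n)) :
    h ∣ p ^ n + 1 ∨ h ∣ p ^ n - 1 := by
  classical
  have hpp : p.Prime := Fact.out
  by_cases h2 : 2 < h
  swap
  · have h3 : h = 0 ∨ h = 1 ∨ h = 2 := by omega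
    rcases h3 with e | e | e
    · subst e
      rw [Nat.coprime_zero_left] at hcop
      exact absurd hcop hpp.one_lt.ne'
    · left; rw [e]; exact one_dvd _
    · right
      subst e
      have hodd : p % 2 = 1 := by
        rcases hpp.eq_two_or_odd with e2 | e2
        · subst e2; exact absurd hcop (by decide)
        · exact e2
      have hpn : p ^ n % 2 = 1 := by rw [Nat.pow_mod, hodd]; simp
      omega
  have hexp : ∀ v : V, p • v = 0 := by
    intro v
    apply hnd
    intro w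
    have h1 := map_nsmul (AddMonoidHom.mk' (fun u => β u w) (fun u u' => hβl u u' w)) p v
    have h2' : (AddMonoidHom.mk' (fun u => β u w) (fun u u' => hβl u u' w)) (p • v)
      = β (p • v) w := rfl
    rw [← h2', h1, nsmul_eq_mul, ZMod.natCast_self, zero_mul]
  letI : Module (ZMod p) V := AddCommGroup.zmodModule hexp
  exact core_lin β hβl hβr hnd halt x hxadd hx h hh hfree hcop h2 n hcard

theorem comm_mul_left {Q : Type*} [Group Q] (a a' b : Q) (hc : ⁅a', b⁆ ∈ Subgroup.center Q) :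
    ⁅a * a', b⁆ = ⁅a, b⁆ * ⁅a', b⁆ := by
  have hz := Subgroup.mem_center_iff.mp hc
  have h1 : ⁅a * a', b⁆ = a * ⁅a', b⁆ * a⁻¹ * ⁅a, b⁆ := by
    simp only [commutatorElement_def]; group
  calc ⁅a * a', b⁆ = a * ⁅a', b⁆ * a⁻¹ * ⁅a, b⁆ := h1
    _ = ⁅a', b⁆ * a * a⁻¹ * ⁅a, b⁆ := by rw [hz a]
    _ = ⁅a', b⁆ * ⁅a, b⁆ := by rw [mul_inv_cancel_right]
    _ = ⁅a, b⁆ * ⁅a', b⁆ := (hz _).symm

theorem comm_mul_right {Q : Type*} [Group Q] (a b b' : Q) (hc : ⁅a, b'⁆ ∈ Subgroup.center Q) :
    ⁅a, b * b'⁆ = ⁅a, b⁆ * ⁅a, b'⁆ := by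
  have hz := Subgroup.mem_center_iff.mp hc
  have h1 : ⁅a, b * b'⁆ = ⁅a, b⁆ * (b * ⁅a, b'⁆ * b⁻¹) := by
    simp only [commutatorElement_def]; group
  rw [h1, hz b, mul_inv_cancel_right]

theorem group_core {p : ℕ} [Fact p.Prime] {Q : Type u} [Group Q] [Finite Q]
    (hc : commutator Q = Subgroup.center Q) (hz : Nat.card (Subgroup.center Q) = p) (n : ℕ)
    (hn : Nat.card Q = p ^ (2 * n + 1)) (α : MulAut Q) (h : ℕ) (hαh : α ^ h = 1)
    (hcop : h.Coprime p)
    (hfree : ∀ (j : ℕ) (a : Q), a⁻¹ * (α ^ j) a ∈ Subgroup.center Q →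
      a ∉ Subgroup.center Q → h ∣ j)
    (hαz : ∀ z ∈ Subgroup.center Q, α z = z) : h ∣ p ^ n + 1 ∨ h ∣ p ^ n - 1 := by
  classical
  have hpp : p.Prime := Fact.out
  have hcm : ∀ a b : Q, ⁅a, b⁆ ∈ Subgroup.center Q := by
    intro a b
    rw [← hc, commutator_def]
    exact Subgroup.commutator_mem_commutator (Subgroup.mem_top a) (Subgroup.mem_top b)
  let θ : Subgroup.center Q ≃* Multiplicative (ZMod p) :=
    mulEquivOfPrimeCardEq hz
      (by rw [Nat.card_congr Multiplicative.toAdd, Nat.card_eq_fintype_card, ZMod.card])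
  let cb : Q → (Q →* Multiplicative (ZMod p)) := fun a =>
    MonoidHom.mk' (fun b => θ ⟨⁅a, b⁆, hcm a b⟩) (by
      intro b b'
      rw [← map_mul]
      congr 1
      apply Subtype.ext
      exact comm_mul_right a b b' (hcm a b'))
  let L2 : Q →* (Abelianization Q →* Multiplicative (ZMod p)) :=
    MonoidHom.mk' (fun a => Abelianization.lift (cb a)) (by
      intro a a'
      apply MonoidHom.ext
      intro u
      obtain ⟨b, rfl⟩ : ∃ b : Q, Abelianization.of b = u := QuotientGroup.mk_surjective u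
      show θ ⟨⁅a * a', b⁆, hcm _ _⟩ = θ ⟨⁅a, b⁆, hcm _ _⟩ * θ ⟨⁅a', b⁆, hcm _ _⟩
      rw [← map_mul]
      congr 1
      apply Subtype.ext
      exact comm_mul_left a a' b (hcm a' b))
  let L3 : Abelianization Q →* (Abelianization Q →* Multiplicative (ZMod p)) :=
    Abelianization.lift L2
  have hL3 : ∀ a b : Q, L3 (Abelianization.of a) (Abelianization.of b) = θ ⟨⁅a, b⁆, hcm a b⟩ :=
    fun a b => rfl
  let xV : Additive (Abelianization Q) → Additive (Abelianization Q) := fun u =>
    Additive.ofMul (Abelianization.map α.toMonoidHom (Additive.toMul u))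
  have hxV : ∀ a : Q, xV (Additive.ofMul (Abelianization.of a)) = Additive.ofMul (Abelianization.of (α a)) :=
    fun a => rfl
  have hiter : ∀ (j : ℕ) (a : Q), xV^[j] (Additive.ofMul (Abelianization.of a)) =
      Additive.ofMul (Abelianization.of ((α ^ j) a)) := by
    intro j
    induction j with
    | zero => intro a; rfl
    | succ j ih =>
      intro a
      rw [Function.iterate_succ_apply, hxV, ih (α a), pow_succ]; rfl
  have hrep : ∀ v : Additive (Abelianization Q), ∃ a : Q, v = Additive.ofMul (Abelianization.of a) := by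
    intro v
    obtain ⟨a, ha⟩ : ∃ a : Q, Abelianization.of a = Additive.toMul v :=
      QuotientGroup.mk_surjective (Additive.toMul v)
    exact ⟨a, by rw [ha]; rfl⟩
  have hone : ∀ a : Q, (Additive.ofMul (Abelianization.of a) : Additive (Abelianization Q)) = 0 ↔
      a ∈ Subgroup.center Q := by
    intro a
    rw [← hc, ← Abelianization.ker_of, MonoidHom.mem_ker, ofMul_eq_zero]
  have hcard : Nat.card (Additive (Abelianization Q)) = p ^ (2 * n) := by
    have h1 := Subgroup.card_eq_card_quotient_mul_card_subgroup (commutator Q)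
    have hcc : Nat.card (commutator Q) = p := by rw [hc]; exact hz
    rw [hcc, hn, pow_succ] at h1
    exact (Nat.eq_of_mul_eq_mul_right hpp.pos h1).symm
  refine core_fun (p := p) (V := Additive (Abelianization Q))
    (fun u v => Multiplicative.toAdd (L3 (Additive.toMul u) (Additive.toMul v)))
    ?_ ?_ ?_ ?_ xV ?_ ?_ h ?_ ?_ hcop n hcard
  · intro u u' v
    show Multiplicative.toAdd (L3 (Additive.toMul (u + u')) (Additive.toMul v)) = _
    rw [toMul_add, map_mul, MonoidHom.mul_apply, toAdd_mul]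
  · intro u v v'
    show Multiplicative.toAdd (L3 (Additive.toMul u) (Additive.toMul (v + v'))) = _
    rw [toMul_add, map_mul, toAdd_mul]
  · intro u hu
    obtain ⟨a, rfl⟩ := hrep u
    rw [hone, Subgroup.mem_center_iff]
    intro b
    have h1 := hu (Additive.ofMul (Abelianization.of b))
    have h2 : θ ⟨⁅a, b⁆, hcm a b⟩ = 1 := h1
    have h3 : (⟨⁅a, b⁆, hcm a b⟩ : Subgroup.center Q) = 1 := by simpa using h2
    have h4 : ⁅a, b⁆ = 1 := congrArg Subtype.val h3
    rw [commutatorElement_eq_one_iff_mul_comm] at h4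
    exact h4.symm
  · intro v
    obtain ⟨a, rfl⟩ := hrep v
    show Multiplicative.toAdd (θ ⟨⁅a, a⁆, hcm a a⟩) = 0
    have h3 : (⟨⁅a, a⁆, hcm a a⟩ : Subgroup.center Q) = 1 := Subtype.ext (commutatorElement_self a)
    rw [h3, map_one]; rfl
  · intro u v
    show Additive.ofMul (Abelianization.map α.toMonoidHom (Additive.toMul (u + v))) = _
    rw [toMul_add, map_mul, ofMul_mul]
  · intro u v
    obtain ⟨a, rfl⟩ := hrep u
    obtain ⟨b, rfl⟩ := hrep v
    show Multiplicative.toAdd (θ ⟨⁅α a, α b⁆, hcm _ _⟩) = Multiplicative.toAdd (θ ⟨⁅a, b⁆, hcm _ _⟩)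
    congr 2
    apply Subtype.ext
    show ⁅α a, α b⁆ = ⁅a, b⁆
    rw [← map_commutatorElement, hαz _ (hcm a b)]
  · intro v
    obtain ⟨a, rfl⟩ := hrep v
    rw [hiter, hαh]; rfl
  · intro j v hj hv
    obtain ⟨a, rfl⟩ := hrep v
    rw [hiter] at hj
    apply hfree j a
    · have hj' : Abelianization.of ((α ^ j) a) = Abelianization.of a := congrArg Additive.toMul hj
      have h1 : Abelianization.of (a⁻¹ * (α ^ j) a) = 1 := by
        rw [map_mul, map_inv, hj', inv_mul_cancel]
      rw [← MonoidHom.mem_ker, Abelianization.ker_of, hc] at h1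
      exact h1
    · intro hac
      exact hv ((hone a).mpr hac)

end Cfsg.Agent.Helper8.XP
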